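import Cfsg.Agent.Lib.Recog.ChainEight.Quot
import Cfsg.Agent.Lib.Amalgam.PCoreOf
import Cfsg.Agent.S2858

/-!
# The amalgam of two conjugate parabolics
-/

set_option autoImplicit false
set_option linter.unusedSectionVars false
set_option maxHeartbeats 800000

namespace CfsgLib.Recog.ChainEight

open Subgroup

variable {G : Type*} [Group G] [Finite G]

/-- The setting for the amalgam. -/
structure Pair (S : Sylow 2 G) (z : G) (R T N : Subgroup G) (s y : G) : Prop
    extends Para S z R T where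
  hs : s ∈ (S : Subgroup G)
  sT : s ∉ T
  s2 : s * s ∈ T
  sN : ∀ t ∈ T, s * t * s⁻¹ ∈ T
  cT : Nat.card T = 2 * Nat.card R
  cX : Nat.card (normalizer (R : Set G)) = 6 * Nat.card R
  yX : y ∈ normalizer (R : Set G)
  y3 : orderOf y = 3
  NT : N ≤ T
  NX : normalizer (R : Set G) ≤ normalizer (N : Set G)
  sNN : s ∈ normalizer (N : Set G)
  Nmax : ∀ K : Subgroup G, K ≤ T → normalizer (R : Set G) ≤ normalizer (K : Set G) →
    (normalizer (R : Set G)).map (MulAut.conj s).toMonoidHom ≤ normalizer (K : Set G) → K ≤ N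

theorem le_normalizer_map_conj {X K : Subgroup G} (g : G) (h : X ≤ normalizer (K : Set G)) :
    X.map (MulAut.conj g).toMonoidHom ≤
      normalizer ((K.map (MulAut.conj g).toMonoidHom : Subgroup G) : Set G) := by
  rintro _ ⟨x, hx, rfl⟩
  rw [mem_normalizer_iff]
  intro w
  rw [mem_map_conj, mem_map_conj, mem_normalizer_iff.1 (h hx)]
  simp [mul_assoc]

theorem exists_pair {S : Sylow 2 G} {z : G} {R T : Subgroup G} (H : Para S z R T) :
    ∃ N s y, Pair S z R T N s y := by
  classical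
  obtain ⟨s, hs, hsT, hs2, hsN⟩ := H.exists_s
  obtain ⟨hcT, hcX⟩ := H.orders
  set X := normalizer (R : Set G) with hX
  set X' := X.map (MulAut.conj s).toMonoidHom with hX'
  set L := X ⊔ X' with hL
  set N := ((T.subgroupOf L).normalCore).map L.subtype with hN
  have hNT : N ≤ T := by
    rintro _ ⟨x, hx, rfl⟩
    exact mem_subgroupOf.1 (Subgroup.normalCore_le (T.subgroupOf L) hx)
  have hLN : L ≤ normalizer (N : Set G) := by
    intro g hg
    have key : ∀ g : L, ∀ x ∈ N, (g : G) * x * (g : G)⁻¹ ∈ N := by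
      rintro g _ ⟨x, hx, rfl⟩
      exact ⟨g * x * g⁻¹, (inferInstance : (T.subgroupOf L).normalCore.Normal).conj_mem x hx g,
        rfl⟩
    refine mem_normalizer_iff.2 fun x => ⟨key ⟨g, hg⟩ x, fun h => ?_⟩
    have := key (⟨g, hg⟩⁻¹) _ h
    simpa [mul_assoc] using this
  have hmax : ∀ K : Subgroup G, K ≤ T → X ≤ normalizer (K : Set G) →
      X' ≤ normalizer (K : Set G) → K ≤ N := by
    intro K hKT h1 h2
    have hLK : L ≤ normalizer (K : Set G) := sup_le h1 h2
    have hKL : K ≤ L := (hKT.trans H.TN).trans le_sup_left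
    have : (K.subgroupOf L).Normal := (normal_subgroupOf_iff_le_normalizer hKL).2 hLK
    intro k hk
    exact ⟨⟨k, hKL hk⟩,
      (Subgroup.normal_le_normalCore.2 (show K.subgroupOf L ≤ T.subgroupOf L from
        fun x hx => hKT hx)) (show (⟨k, hKL hk⟩ : L) ∈ K.subgroupOf L from hk), rfl⟩
  have hsN' : ∀ t ∈ T, s * t * s⁻¹ ∈ T := fun t ht => (mem_normalizer_iff.1 hsN t).1 ht
  have hsNN : s ∈ normalizer (N : Set G) := by
    set K := N.map (MulAut.conj s).toMonoidHom with hK
    have hKT : K ≤ T := by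
      rintro _ ⟨n, hn, rfl⟩; simpa using hsN' n (hNT hn)
    have hX'K : X' ≤ normalizer (K : Set G) :=
      le_normalizer_map_conj s (le_sup_left.trans hLN)
    have hXK : X ≤ normalizer (K : Set G) := by
      refine le_trans ?_ (le_normalizer_map_conj s (le_sup_right.trans hLN))
      intro x hx
      rw [mem_map_conj, mem_map_conj]
      have h2 : (s * s) ∈ X := H.TN hs2
      have := mul_mem (mul_mem (inv_mem h2) hx) h2
      simpa [mul_assoc] using this
    have heq := Subgroup.eq_of_le_of_card_ge (hmax K hKT hXK hX'K) (card_map_conj N s).ge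
    rw [mem_normalizer_iff]
    intro w
    constructor
    · intro hw; rw [← heq]; exact ⟨w, hw, by simp⟩
    · intro hw
      rw [← heq, hK, mem_map_conj] at hw
      simpa [mul_assoc] using hw
  have : Fact (Nat.Prime 3) := ⟨Nat.prime_three⟩
  obtain ⟨⟨y, hy⟩, hy3⟩ := exists_prime_orderOf_dvd_card' (G := X) 3
    (hcX ▸ ⟨2 * Nat.card R, by ring⟩)
  exact ⟨N, s, y, { toPara := H, hs := hs, sT := hsT, s2 := hs2, sN := hsN', cT := hcT,
                    cX := hcX, yX := hy, y3 := by rwa [← Subgroup.orderOf_coe] at hy3,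
                    NT := hNT, NX := le_sup_left.trans hLN, sNN := hsNN, Nmax := hmax }⟩

namespace Pair

variable {S : Sylow 2 G} {z : G} {R T N : Subgroup G} {s y : G}

theorem yS (H : Pair S z R T N s y) : y ∉ (S : Subgroup G) := by
  intro h
  have h1 := H.odd_mem_S h (by rw [H.y3]; decide)
  have := H.y3
  rw [h1, orderOf_one] at this
  omega

theorem y_cube (H : Pair S z R T N s y) : y * y * y = 1 := by
  have h := pow_orderOf_eq_one y
  rw [H.y3] at h
  rw [← h]; simp [pow_succ, mul_assoc]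

theorem normal_two (H : Pair S z R T N s y) {Q : Subgroup G} (hRQ : R ≤ Q) (hQT : Q ≤ T)
    (hXQ : normalizer (R : Set G) ≤ normalizer (Q : Set G)) : Q = R := by
  by_contra hne
  exact H.X_not_le_T fun x hx =>
    H.key_eq (lt_of_le_of_ne hRQ fun h => hne h.symm) hQT (H.TN.trans hXQ) hx (hXQ hx)

theorem NR (H : Pair S z R T N s y) : N ≤ R := by
  have hXQ : normalizer (R : Set G) ≤ normalizer ((R ⊔ N : Subgroup G) : Set G) := by
    intro g hg
    have hle : (R ⊔ N).map (MulAut.conj g).toMonoidHom ≤ R ⊔ N := by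
      rw [Subgroup.map_sup]
      refine sup_le ?_ ?_
      · rintro _ ⟨r, hr, rfl⟩
        exact le_sup_left (a := R) (by simpa using (mem_normalizer_iff.1 hg r).1 hr)
      · rintro _ ⟨n, hn, rfl⟩
        exact le_sup_right (a := R) (by simpa using (mem_normalizer_iff.1 (H.NX hg) n).1 hn)
    have heq := Subgroup.eq_of_le_of_card_ge hle (card_map_conj _ g).ge
    refine mem_normalizer_iff.2 fun w => ⟨fun hw => hle ⟨w, hw, by simp⟩, fun hw => ?_⟩
    rw [← heq, mem_map_conj] at hw
    simpa [mul_assoc] using hw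
  exact (le_sup_right (a := R)).trans (H.normal_two le_sup_left (sup_le H.RT H.NT) hXQ).le

theorem yN (H : Pair S z R T N s y) {n : G} (hn : n ∈ N) : y * n = n * y := by
  by_contra hne
  have hgood : Good N := ⟨y, H.NX H.yX, by rw [H.y3]; decide, fun hc =>
    hne (mem_centralizer_iff.1 hc n hn).symm⟩
  set P := (S : Subgroup G) ⊓ normalizer (N : Set G) with hP
  have hTP : T ≤ P := le_inf H.TS (H.TN.trans H.NX)
  have h := (H.max N P hgood (S.2.to_le inf_le_left) (H.NT.trans hTP) inf_le_right).1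
  exact H.sT ((Subgroup.eq_of_le_of_card_ge hTP h).ge (mem_inf.2 ⟨H.hs, H.sNN⟩))

/-- Fixed cosets of `N` in `R` consist of fixed points. -/
theorem fix_of_coset (H : Pair S z R T N s y) {r n : G} (hn : n ∈ N)
    (h : y * r * y⁻¹ = r * n) : y * r = r * y := by
  have hyn : y * n * y⁻¹ = n := by rw [H.yN hn, mul_inv_cancel_right]
  have h2 : y * (y * r * y⁻¹) * y⁻¹ = r * n * n := by
    rw [h, show y * (r * n) * y⁻¹ = y * r * y⁻¹ * (y * n * y⁻¹) by group, h, hyn]
  have h3 : r * n * n * n = r := by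
    have h4 : y * (y * (y * r * y⁻¹) * y⁻¹) * y⁻¹ = r := by
      rw [show y * (y * (y * r * y⁻¹) * y⁻¹) * y⁻¹ = y * y * y * r * (y * y * y)⁻¹ by group,
        H.y_cube]
      simp
    rw [h2, show y * (r * n * n) * y⁻¹ = y * r * y⁻¹ * (y * n * y⁻¹) * (y * n * y⁻¹) by group,
      h, hyn] at h4
    exact h4
  have hn3 : n ^ 3 = 1 := by
    have := congrArg (r⁻¹ * ·) h3
    simpa [pow_succ, mul_assoc] using this
  obtain ⟨k, hk⟩ := S.2 ⟨n, H.TS (H.NT hn)⟩
  have hk' : n ^ (2 ^ k) = 1 := by simpa using congrArg Subtype.val hk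
  have hn1 : n = 1 := orderOf_eq_one_iff.1 (Nat.eq_one_of_dvd_coprimes
    (Nat.Coprime.pow_left k (by norm_num : Nat.Coprime 2 3)) (orderOf_dvd_of_pow_eq_one hk')
    (orderOf_dvd_of_pow_eq_one hn3))
  rw [hn1, mul_one] at h
  exact mul_inv_eq_iff_eq_mul.1 h

theorem z_not_fix (H : Pair S z R T N s y) {n : G} (hn : n ∈ N) :
    y * z * y⁻¹ ≠ z * n := fun h => H.yS (H.mem_S_of_comm (H.fix_of_coset hn h))

theorem X'_ne (H : Pair S z R T N s y) :
    (normalizer (R : Set G)).map (MulAut.conj s).toMonoidHom ≠ normalizer (R : Set G) := by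
  intro h
  set R' := R.map (MulAut.conj s).toMonoidHom with hR'
  have hR'T : R' ≤ T := by
    rintro _ ⟨r, hr, rfl⟩; simpa using H.sN r (H.RT hr)
  have hXR' : normalizer (R : Set G) ≤ normalizer (R' : Set G) :=
    h.ge.trans (le_normalizer_map_conj s le_rfl)
  have hXQ : normalizer (R : Set G) ≤ normalizer ((R ⊔ R' : Subgroup G) : Set G) := by
    intro g hg
    have hle : (R ⊔ R').map (MulAut.conj g).toMonoidHom ≤ R ⊔ R' := by
      rw [Subgroup.map_sup]
      refine sup_le ?_ ?_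
      · rintro _ ⟨r, hr, rfl⟩
        exact le_sup_left (a := R) (by simpa using (mem_normalizer_iff.1 hg r).1 hr)
      · rintro _ ⟨n, hn, rfl⟩
        exact le_sup_right (a := R) (by simpa using (mem_normalizer_iff.1 (hXR' hg) n).1 hn)
    have heq := Subgroup.eq_of_le_of_card_ge hle (card_map_conj _ g).ge
    refine mem_normalizer_iff.2 fun w => ⟨fun hw => hle ⟨w, hw, by simp⟩, fun hw => ?_⟩
    rw [← heq, mem_map_conj] at hw
    simpa [mul_assoc] using hw
  have h1 : R' ≤ R := le_sup_right.trans (H.normal_two le_sup_left (sup_le H.RT hR'T) hXQ).le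
  have heq := Subgroup.eq_of_le_of_card_ge h1 (card_map_conj R s).ge
  refine H.sT (H.mem_T H.hs (mem_normalizer_iff.2 fun w => ⟨fun hw => ?_, fun hw => ?_⟩))
  · rw [← heq]; exact ⟨w, hw, by simp⟩
  · rw [← heq, hR', mem_map_conj] at hw
    simpa [mul_assoc] using hw

theorem inf_eq (H : Pair S z R T N s y) :
    normalizer (R : Set G) ⊓ (normalizer (R : Set G)).map (MulAut.conj s).toMonoidHom = T := by
  set X := normalizer (R : Set G) with hX
  set X' := X.map (MulAut.conj s).toMonoidHom with hX'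
  have hTX' : T ≤ X' := by
    intro t ht
    rw [hX', mem_map_conj]
    have h1 := H.sN t ht
    have h2 : (s * s)⁻¹ * (s * t * s⁻¹) * (s * s) ∈ T :=
      mul_mem (mul_mem (inv_mem H.s2) h1) H.s2
    exact H.TN (by simpa [mul_assoc] using h2)
  have hle : T ≤ X ⊓ X' := le_inf H.TN hTX'
  have hd : Nat.card ↥(X ⊓ X') ∣ 6 * Nat.card R := H.cX ▸ card_dvd_of_le inf_le_left
  have hne : Nat.card ↥(X ⊓ X') ≠ 6 * Nat.card R := by
    intro h
    have hXX' : X ≤ X' := inf_eq_left.1
      (Subgroup.eq_of_le_of_card_ge inf_le_left (by rw [h, H.cX]))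
    exact H.X'_ne (Subgroup.eq_of_le_of_card_ge hXX' (card_map_conj X s).le).symm
  have h2 := card_eq_mul_relIndex hle
  rw [H.cT] at h2
  have h3 : T.relIndex (X ⊓ X') ∣ 3 := by
    have h4 : 2 * Nat.card R * T.relIndex (X ⊓ X') ∣ 2 * Nat.card R * 3 := by
      rw [← h2]; exact hd.trans (dvd_of_eq (by ring))
    exact Nat.dvd_of_mul_dvd_mul_left (by have : 0 < Nat.card R := Nat.card_pos; omega) h4
  rcases (Nat.dvd_prime Nat.prime_three).1 h3 with h | h
  · exact le_antisymm (relIndex_eq_one.1 h) hle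
  · exact absurd (by rw [h2, h]; ring) hne

/-- `|R : N|` is four or eight. -/
theorem card_R (H : Pair S z R T N s y) :
    Nat.card R = 4 * Nat.card N ∨ Nat.card R = 8 * Nat.card N := by
  classical
  have : Fact (Nat.Prime 2) := ⟨Nat.prime_two⟩
  set X := normalizer (R : Set G) with hX
  set X' := X.map (MulAut.conj s).toMonoidHom with hX'
  set L := X ⊔ X' with hL
  have hLN : L ≤ normalizer (N : Set G) := by
    refine sup_le H.NX ?_
    rintro _ ⟨x, hx, rfl⟩
    exact mul_mem (mul_mem H.sNN (H.NX hx)) (inv_mem H.sNN)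
  have hXL : X ≤ L := le_sup_left
  have hX'L : X' ≤ L := le_sup_right
  have hNL : N ≤ L := (H.NT.trans H.TN).trans hXL
  set N' := N.subgroupOf L with hN'
  have hN'n : N'.Normal := (normal_subgroupOf_iff_le_normalizer hNL).2 hLN
  set π := QuotientGroup.mk' N' with hπ
  have hπs : Function.Surjective π := QuotientGroup.mk'_surjective N'
  -- images
  have hmemA : ∀ A : Subgroup G, N ≤ A → A ≤ L → ∀ g : L,
      π g ∈ (A.subgroupOf L).map π ↔ (g : G) ∈ A := by
    intro A hNA hAL g
    refine ⟨?_, fun h => ⟨g, h, rfl⟩⟩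
    rintro ⟨a, ha, hag⟩
    have h1 : a⁻¹ * g ∈ N' := (QuotientGroup.eq_one_iff _).1 (by
      show π (a⁻¹ * g) = 1
      rw [map_mul, map_inv, hag, inv_mul_cancel])
    have := mul_mem (mem_subgroupOf.1 ha) (hNA (mem_subgroupOf.1 h1))
    simpa using this
  have hcard : ∀ A : Subgroup G, N ≤ A → A ≤ L →
      Nat.card ((A.subgroupOf L).map π) * Nat.card N = Nat.card A := by
    intro A hNA hAL
    rw [← relIndex_ker, hπ, QuotientGroup.ker_mk', hN', relIndex_subgroupOf hAL, mul_comm]
    exact (card_eq_mul_relIndex hNA).symm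
  have hTX' : T ≤ X' := H.inf_eq ▸ inf_le_right
  set P1 := (X.subgroupOf L).map π with hP1
  set P2 := (X'.subgroupOf L).map π with hP2
  set Tb := (T.subgroupOf L).map π with hTb
  have hgen : P1 ⊔ P2 = ⊤ := by
    rw [hP1, hP2, ← Subgroup.map_sup, ← subgroupOf_sup hXL hX'L, subgroupOf_self,
      ← MonoidHom.range_eq_map, MonoidHom.range_eq_top.2 hπs]
  have hTeq : Tb = P1 ⊓ P2 := by
    ext q
    obtain ⟨g, rfl⟩ := hπs q
    rw [mem_inf, hP1, hP2, hTb, hmemA T H.NT (H.TN.trans hXL),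
      hmemA X (H.NT.trans H.TN) hXL, hmemA X' (H.NT.trans hTX') hX'L, ← mem_inf, H.inf_eq]
  -- one side, uniformly
  have side : ∀ A B : Subgroup G, ∀ e : G, N ≤ B → B ≤ T → T ≤ A → A ≤ L →
      Nat.card A = 6 * Nat.card R → Nat.card B = Nat.card R → A ≤ normalizer (B : Set G) →
      (∀ Q : Subgroup G, B ≤ Q → Q ≤ T → A ≤ normalizer (Q : Set G) → Q ≤ B) →
      e ∈ A → orderOf e = 3 → (∀ n ∈ N, e * z * e⁻¹ ≠ z * n) →
      (¬ ∀ r ∈ B, ∃ n ∈ N, e * r * e⁻¹ = r * n) →
      let P := (A.subgroupOf L).map π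
      P ⊓ Subgroup.centralizer (Cfsg.pCoreOf 2 P : Set (L ⧸ N')) ≤ Cfsg.pCoreOf 2 P ∧
      (∃ S' : Sylow 2 ↥P, (S' : Subgroup ↥P) = Tb.subgroupOf P) ∧
      Nonempty (↥P ⧸ Cfsg.pCore 2 ↥P ≃* Equiv.Perm (Fin 3)) ∧
      ¬ P ≤ Subgroup.centralizer
        (Cfsg.omegaOne 2 (Tb ⊓ Subgroup.centralizer (Tb : Set (L ⧸ N'))) : Set (L ⧸ N')) := by
    intro A B e hNB hBT hTA hAL hcA hcB hAB hnorm heA he3 hez heB P
    have hNA : N ≤ A := H.NT.trans hTA
    have hTL : T ≤ L := H.TN.trans hXL
    have hBL : B ≤ L := hBT.trans hTL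
    set Bb := (B.subgroupOf L).map π with hBb
    have hTP : Tb ≤ P := Subgroup.map_mono fun x hx => hTA hx
    have hBP : Bb ≤ P := Subgroup.map_mono fun x hx => hTA (hBT hx)
    have hT2 : IsPGroup 2 Tb := (H.T2.comap_subtype).map π
    have hc1 := hcard A hNA hAL
    have hc2 := hcard T H.NT hTL
    have hc3 := hcard B hNB hBL
    have hN0 : 0 < Nat.card N := Nat.card_pos
    have hPT : Nat.card P = 3 * Nat.card Tb := by
      refine Nat.eq_of_mul_eq_mul_right hN0 ?_
      rw [hc1, hcA, mul_assoc, hc2, H.cT]; ring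
    have hPB : Nat.card P = 6 * Nat.card Bb := by
      refine Nat.eq_of_mul_eq_mul_right hN0 ?_
      rw [hc1, hcA, mul_assoc, hc3, hcB]
    have hTi : (Tb.subgroupOf P).index = 3 := by
      have := card_eq_mul_relIndex hTP
      rw [hPT, mul_comm] at this
      exact (Nat.eq_of_mul_eq_mul_left Nat.card_pos this).symm
    have hnd : ¬ 2 ∣ (Tb.subgroupOf P).index := by rw [hTi]; norm_num
    set S' := (hT2.comap_subtype (K := P)).toSylow hnd with hS'
    have hS'eq : (S' : Subgroup P) = Tb.subgroupOf P := rfl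
    have hcoreT : Cfsg.pCoreOf 2 P ≤ Tb := by
      rintro _ ⟨q, hq, rfl⟩
      have := CfsgLib.Amalgam.pCore_le_sylow S' hq
      rwa [hS'eq] at this
    have hBnorm : P ≤ normalizer (Bb : Set (L ⧸ N')) := by
      rintro _ ⟨a, ha, rfl⟩
      have hfwd : ∀ a : L, (a : G) ∈ A → ∀ b ∈ Bb, π a * b * (π a)⁻¹ ∈ Bb := by
        rintro a ha _ ⟨b, hb, rfl⟩
        exact ⟨a * b * a⁻¹, (mem_normalizer_iff.1 (hAB ha) b).1 hb, by simp⟩
      refine mem_normalizer_iff.2 fun b => ⟨hfwd a ha b, fun h => ?_⟩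
      have := hfwd a⁻¹ (inv_mem ha) _ h
      simpa [mul_assoc] using this
    have hcore : Cfsg.pCoreOf 2 P = Bb := by
      refine le_antisymm ?_ (CfsgLib.Amalgam.le_pCoreOf hBP hBnorm
        (((H.T2.to_le hBT).comap_subtype).map π))
      set Q := ((Cfsg.pCoreOf 2 P).comap π).map L.subtype with hQ
      have hQmem : ∀ g : L, (g : G) ∈ Q ↔ π g ∈ Cfsg.pCoreOf 2 P := fun g =>
        ⟨fun ⟨g', hg', he⟩ => (Subtype.ext he : g' = g) ▸ hg', fun h => ⟨g, h, rfl⟩⟩
      have hBQ : B ≤ Q := fun b hb => (hQmem ⟨b, hBL hb⟩).2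
        (CfsgLib.Amalgam.le_pCoreOf hBP hBnorm (((H.T2.to_le hBT).comap_subtype).map π)
          ⟨⟨b, hBL hb⟩, hb, rfl⟩)
      have hQT : Q ≤ T := by
        rintro _ ⟨g, hg, rfl⟩
        exact (hmemA T H.NT hTL g).1 (hcoreT hg)
      have hAQ : A ≤ normalizer (Q : Set G) := by
        intro a ha
        have hfwd : ∀ a ∈ A, ∀ q ∈ Q, a * q * a⁻¹ ∈ Q := by
          rintro a ha _ ⟨g, hg, rfl⟩
          refine (hQmem (⟨a, hAL ha⟩ * g * ⟨a, hAL ha⟩⁻¹)).2 ?_
          rw [map_mul, map_mul, map_inv]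
          exact (mem_normalizer_iff.1 (CfsgLib.Amalgam.le_normalizer_pCoreOf P
            ⟨⟨a, hAL ha⟩, ha, rfl⟩) _).1 hg
        refine mem_normalizer_iff.2 fun q => ⟨hfwd a ha q, fun h => ?_⟩
        have := hfwd a⁻¹ (inv_mem ha) _ h
        simpa [mul_assoc] using this
      have hQB := hnorm Q hBQ hQT hAQ
      intro q hq
      obtain ⟨g, rfl⟩ := hπs q
      exact ⟨g, hQB ((hQmem g).2 hq), rfl⟩
    refine ⟨?_, ⟨S', hS'eq⟩, ?_, ?_⟩
    · rw [hcore]
      set Cq := (centralizer (Bb : Set (L ⧸ N'))).subgroupOf P with hCq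
      have hCqn : Cq.Normal := by
        refine ⟨fun c hc g => ?_⟩
        rw [hCq, mem_subgroupOf, mem_centralizer_iff] at hc ⊢
        intro b hb
        have h1 := (mem_normalizer_iff.1 (hBnorm (inv_mem g.2)) b).1 hb
        have h3 := congrArg (fun w => (g : L ⧸ N') * w * (g : L ⧸ N')⁻¹) (hc _ h1)
        simpa [mul_assoc] using h3
      set eP : P := ⟨π ⟨e, hAL heA⟩, ⟨⟨e, hAL heA⟩, heA, rfl⟩⟩
      have hind : 3 ∣ Cq.index := by
        by_contra h3
        apply heB
        have hee : eP ^ 3 = 1 := Subtype.ext (by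
          show (π ⟨e, hAL heA⟩) ^ 3 = 1
          rw [← map_pow, show (⟨e, hAL heA⟩ : L) ^ 3 = 1 from Subtype.ext (by
            show e ^ 3 = 1
            rw [← he3, pow_orderOf_eq_one]), map_one])
        have hc : QuotientGroup.mk' Cq eP = 1 := by
          refine orderOf_eq_one_iff.1 (Nat.eq_one_of_dvd_coprimes (a := 3) (b := Cq.index)
            ?_ ?_ ?_)
          · exact (Nat.prime_three.coprime_iff_not_dvd).2 h3
          · exact orderOf_dvd_of_pow_eq_one (by rw [← map_pow, hee, map_one])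
          · rw [index_eq_card]; exact orderOf_dvd_natCard _
        have hmem := mem_subgroupOf.1 ((QuotientGroup.eq_one_iff eP).1 hc)
        intro r hr
        have h1 := mem_centralizer_iff.1 hmem (π ⟨r, hBL hr⟩) ⟨⟨r, hBL hr⟩, hr, rfl⟩
        rw [← map_mul, ← map_mul, hπ, QuotientGroup.mk'_apply, QuotientGroup.mk'_apply,
          QuotientGroup.eq] at h1
        have h2 : (r * e)⁻¹ * (e * r) ∈ N := h1
        refine ⟨e * ((r * e)⁻¹ * (e * r)) * e⁻¹, ?_, by group⟩
        exact (mem_normalizer_iff.1 (hLN (hAL heA)) _).1 h2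
      have hdc : Nat.card Cq ∣ 2 * Nat.card Bb := by
        obtain ⟨i, hi⟩ := hind
        have := card_mul_index Cq
        rw [hi, hPB] at this
        exact ⟨i, Nat.eq_of_mul_eq_mul_left (by norm_num : 0 < 3) (by linarith)⟩
      have hCq2 : IsPGroup 2 Cq := by
        obtain ⟨j, hj⟩ : ∃ j, Nat.card Bb = 2 ^ j :=
          (((H.T2.to_le hBT).comap_subtype (K := L)).map π).exists_card_eq
        rw [hj, ← pow_succ'] at hdc
        obtain ⟨i, -, hi⟩ := (Nat.dvd_prime_pow Nat.prime_two).1 hdc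
        exact IsPGroup.of_card hi
      intro q hq
      have hin := CfsgLib.Amalgam.le_pCore hCqn hCq2
        (show (⟨q, (mem_inf.1 hq).1⟩ : P) ∈ Cq from (mem_inf.1 hq).2)
      exact hcore ▸ ⟨_, hin, rfl⟩
    · set Tp := Tb.subgroupOf P with hTp
      set φ := MulAction.toPermHom P (P ⧸ Tp)
      have hker : φ.ker = Cfsg.pCore 2 P := by
        rw [← normalCore_eq_ker]
        refine le_antisymm (CfsgLib.Amalgam.le_pCore inferInstance
          ((hT2.comap_subtype (K := P)).to_le (normalCore_le _))) ?_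
        have := CfsgLib.Amalgam.normal_pCore (G := P) (p := 2)
        exact normal_le_normalCore.2 (CfsgLib.Amalgam.pCore_le_sylow S')
      have hcq : Nat.card (P ⧸ φ.ker) = 6 := by
        rw [← index_eq_card, hker]
        have h1 := card_mul_index (Cfsg.pCore 2 P)
        have h2 : Nat.card (Cfsg.pCore 2 P) = Nat.card Bb := by
          rw [← hcore, Cfsg.pCoreOf, Subgroup.card_map_of_injective (subtype_injective P)]
        rw [h2, hPB, mul_comm] at h1
        exact Nat.eq_of_mul_eq_mul_right Nat.card_pos h1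
      have h3 : Nat.card (P ⧸ Tp) = 3 := by rw [← index_eq_card]; exact hTi
      have htop : φ.range = ⊤ := by
        refine Subgroup.eq_top_of_card_eq _ ?_
        rw [← Nat.card_congr (QuotientGroup.quotientKerEquivRange φ).toEquiv, hcq,
          Nat.card_perm, h3]
        rfl
      exact ⟨(QuotientGroup.quotientMulEquivOfEq hker.symm).trans
        ((QuotientGroup.quotientKerEquivRange φ).trans
          ((MulEquiv.subgroupCongr htop).trans (topEquiv.trans
            (Equiv.permCongrHom (Finite.equivFinOfCardEq h3)))))⟩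
    · intro h
      have hzS : z ∈ T := H.RT H.zR
      set zb : L ⧸ N' := π ⟨z, hTL hzS⟩
      have hzmem : zb ∈ Cfsg.omegaOne 2 (Tb ⊓ centralizer (Tb : Set (L ⧸ N'))) := by
        refine Subgroup.subset_closure ⟨mem_inf.2 ⟨⟨_, hzS, rfl⟩, ?_⟩, ?_⟩
        · rw [mem_centralizer_iff]
          rintro _ ⟨t, ht, rfl⟩
          show π t * π _ = π _ * π t
          rw [← map_mul, ← map_mul]
          exact congrArg π (Subtype.ext (H.z_comm (H.TS (mem_subgroupOf.1 ht))))
        · show (π _) ^ 2 = 1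
          rw [← map_pow, ← map_one π]
          exact congrArg π (Subtype.ext (by show z ^ 2 = 1; rw [pow_two, H.z2]))
      have h1 := mem_centralizer_iff.1
        (h ⟨⟨e, hAL heA⟩, heA, rfl⟩) zb hzmem
      rw [← map_mul, ← map_mul, hπ, QuotientGroup.mk'_apply, QuotientGroup.mk'_apply,
        QuotientGroup.eq] at h1
      have h2 : (z * e)⁻¹ * (e * z) ∈ N := h1
      exact hez _ ((mem_normalizer_iff.1 (hLN (hAL heA)) _).1 h2) (by group)
  -- apply it to both sides
  set R' := R.map (MulAut.conj s).toMonoidHom with hR'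
  have hNR' : N ≤ R' := by
    intro n hn
    rw [hR', mem_map_conj]
    exact H.NR (by simpa using (mem_normalizer_iff.1 (inv_mem H.sNN) n).1 hn)
  have hR'T : R' ≤ T := by
    rintro _ ⟨r, hr, rfl⟩; simpa using H.sN r (H.RT hr)
  have hey : ¬ ∀ r ∈ R, ∃ n ∈ N, y * r * y⁻¹ = r * n := fun h => H.yS (H.TS (H.RT
    (H.centralizer_le_R (mem_centralizer_iff.2 fun r hr => by
      obtain ⟨n, hn, he⟩ := h r hr
      exact (H.fix_of_coset hn he).symm))))
  have s1 := side X R y H.NR H.RT H.TN hXL H.cX rfl le_rfl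
    (fun Q h1 h2 h3 => (H.normal_two h1 h2 h3).le) H.yX H.y3 (fun n hn => H.z_not_fix hn) hey
  have hsz : s * z * s⁻¹ = z := by rw [H.z_comm H.hs, mul_inv_cancel_right]
  have hsz' : s⁻¹ * z * s = z := by
    rw [mul_assoc, ← H.z_comm H.hs, inv_mul_cancel_left]
  have hTs : T.map (MulAut.conj s).toMonoidHom = T := by
    refine Subgroup.eq_of_le_of_card_ge ?_ (card_map_conj T s).ge
    rintro _ ⟨t, ht, rfl⟩; simpa using H.sN t ht
  have s2 := side X' R' (s * y * s⁻¹) hNR' hR'T hTX' hX'L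
    (by rw [hX', card_map_conj, H.cX]) (card_map_conj R s) (le_normalizer_map_conj s le_rfl)
    (fun Q h1 h2 h3 => by
      set Q0 := Q.map (MulAut.conj s⁻¹).toMonoidHom with hQ0
      have e1 : R ≤ Q0 := fun r hr => by
        rw [hQ0, mem_map_conj, inv_inv]
        exact h1 ⟨r, hr, by simp⟩
      have e2 : Q0 ≤ T := by
        intro q hq
        rw [hQ0, mem_map_conj, inv_inv] at hq
        have h4 := h2 hq
        rw [← hTs, mem_map_conj] at h4
        simpa [mul_assoc] using h4
      have e3 : X ≤ normalizer (Q0 : Set G) := by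
        refine le_trans ?_ (le_normalizer_map_conj s⁻¹ h3)
        intro x hx
        rw [mem_map_conj, hX', mem_map_conj]
        simpa [mul_assoc] using hx
      have e4 := H.normal_two e1 e2 e3
      intro q hq
      have : s⁻¹ * q * s ∈ Q0 := by rw [hQ0, mem_map_conj]; simpa [mul_assoc] using hq
      rw [e4] at this
      rw [hR', mem_map_conj]
      exact this)
    ⟨y, H.yX, by simp⟩
    (by rw [← MulAut.conj_apply, MulEquiv.orderOf_eq, H.y3])
    (fun n hn h => by
      refine H.z_not_fix (n := s⁻¹ * n * s)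
        (by simpa using (mem_normalizer_iff.1 (inv_mem H.sNN) n).1 hn) ?_
      have h' := congrArg (fun w => s⁻¹ * w * s) h
      rw [show s⁻¹ * (s * y * s⁻¹ * z * (s * y * s⁻¹)⁻¹) * s = y * (s⁻¹ * z * s) * y⁻¹ by group,
        hsz', show s⁻¹ * (z * n) * s = s⁻¹ * z * s * (s⁻¹ * n * s) by group, hsz'] at h'
      exact h')
    (fun h => hey fun r hr => by
      obtain ⟨n, hn, he⟩ := h (s * r * s⁻¹) ⟨r, hr, by simp⟩
      refine ⟨s⁻¹ * n * s, by simpa using (mem_normalizer_iff.1 (inv_mem H.sNN) n).1 hn, ?_⟩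
      have h' := congrArg (fun w => s⁻¹ * w * s) he
      simpa [mul_assoc] using h')
  have hres := Cfsg.Agent.S2858.result P1 P2 hgen Tb hTeq
    (fun P hP => by rcases hP with rfl | rfl <;> [exact s1.1; exact s2.1])
    (fun P hP => by rcases hP with rfl | rfl <;> [exact s1.2.1; exact s2.2.1])
    (fun K hKn hKT => by
      set K0 := (K.comap π).map L.subtype with hK0
      have hK0T : K0 ≤ T := by
        rintro _ ⟨g, hg, rfl⟩
        exact (hmemA T H.NT (H.TN.trans hXL) g).1 (hKT hg)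
      have hLK : L ≤ normalizer (K0 : Set G) := by
        intro l hl
        have hfwd : ∀ l ∈ L, ∀ q ∈ K0, l * q * l⁻¹ ∈ K0 := by
          rintro l hl _ ⟨g, hg, rfl⟩
          refine ⟨⟨l, hl⟩ * g * ⟨l, hl⟩⁻¹, ?_, rfl⟩
          show π _ ∈ K
          rw [map_mul, map_mul, map_inv]
          exact hKn.conj_mem _ hg _
        refine mem_normalizer_iff.2 fun q => ⟨hfwd l hl q, fun h => ?_⟩
        have := hfwd l⁻¹ (inv_mem hl) _ h
        simpa [mul_assoc] using this
      have hK0N := H.Nmax K0 hK0T (hXL.trans hLK) (hX'L.trans hLK)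
      rw [eq_bot_iff]
      intro q hq
      obtain ⟨g, rfl⟩ := hπs q
      exact mem_bot.2 ((QuotientGroup.eq_one_iff g).2 (hK0N ⟨g, hq, rfl⟩)))
    (fun P hP => by rcases hP with rfl | rfl <;> [exact s1.2.2.1; exact s2.2.2.1])
    (fun P hP => by rcases hP with rfl | rfl <;> [exact s1.2.2.2; exact s2.2.2.2])
  have hc1 := hcard X (H.NT.trans H.TN) hXL
  rw [H.cX] at hc1
  rcases hres with ⟨⟨e⟩, -⟩ | ⟨⟨e⟩, -⟩
  · left
    have := Nat.card_congr e.toEquiv
    rw [Nat.card_perm, Nat.card_fin, show Nat.factorial 4 = 24 from rfl] at this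
    rw [this] at hc1
    omega
  · right
    have := Nat.card_congr e.toEquiv
    rw [Nat.card_prod, Nat.card_perm, Nat.card_fin, show Nat.factorial 4 = 24 from rfl,
      Nat.card_congr (Multiplicative.toAdd (α := ZMod 2)), Nat.card_zmod] at this
    rw [this] at hc1
    omega

end Pair

end CfsgLib.Recog.ChainEight
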