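import Cfsg.Agent.Lib.Recog.ChainEight.Common
import Cfsg.Agent.Lib.Transfer.Frobenius
import Mathlib.GroupTheory.Subgroup.Simple
import Mathlib.Order.Fin.Basic

/-!
# Chain bounds and the choice of the parabolic
-/

set_option autoImplicit false
set_option linter.unusedSectionVars false

namespace CfsgLib.Recog.ChainEight

open Subgroup

variable {G : Type*} [Group G] [Finite G]

/-- A strictly increasing chain of length `n` ending at `X`. -/
def HasChain (n : ℕ) (X : Subgroup G) : Prop :=
  ∃ c : Fin (n + 1) → Subgroup G, StrictMono c ∧ c (Fin.last n) = X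

theorem HasChain.step {n : ℕ} {X Y : Subgroup G} (h : HasChain n X) (hXY : X < Y) :
    HasChain (n + 1) Y := by
  obtain ⟨c, hc, hcX⟩ := h
  refine ⟨Fin.snoc c Y, Fin.strictMono_iff_lt_succ.2 fun i => ?_, by simp⟩
  rcases Fin.eq_castSucc_or_eq_last i with ⟨j, rfl⟩ | rfl
  · rw [Fin.succ_castSucc, Fin.snoc_castSucc, Fin.snoc_castSucc]
    exact hc j.castSucc_lt_succ
  · rw [Fin.succ_last, Fin.snoc_castSucc, Fin.snoc_last, hcX]
    exact hXY

theorem hasChain_of_card {k : ℕ} : ∀ {T : Subgroup G}, Nat.card T = 2 ^ k → HasChain k T := by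
  induction k with
  | zero =>
    intro T _
    exact ⟨fun _ => T, fun i j hij => by omega, rfl⟩
  | succ k ih =>
    intro T hT
    have : Fact (Nat.Prime 2) := ⟨Nat.prime_two⟩
    obtain ⟨H, hH⟩ := Sylow.exists_subgroup_card_pow_prime (G := T) 2
      (n := k) (hT ▸ pow_dvd_pow 2 k.le_succ)
    have hH' : Nat.card (H.map T.subtype) = 2 ^ k := by
      rw [Subgroup.card_map_of_injective (subtype_injective T), hH]
    refine (ih hH').step (lt_of_le_of_ne (Subgroup.map_subtype_le H) fun h => ?_)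
    rw [h, hT, pow_succ] at hH'
    have : 0 < 2 ^ k := by positivity
    omega

/-- The hypotheses of the theorem. -/
structure Setup (S : Sylow 2 G) : Prop where
  simple : IsSimpleGroup G
  na : ∃ a b : G, a * b ≠ b * a
  cardS : Nat.card (S : Subgroup G) = 2 ^ 7
  chain : ∀ c : Fin 10 → Subgroup G, ¬ StrictAnti c

/-- A subgroup normalised by an element of odd order acting non-trivially. -/
def Good (R : Subgroup G) : Prop :=
  ∃ g ∈ normalizer (R : Set G), Odd (orderOf g) ∧ g ∉ centralizer (R : Set G)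

namespace Setup

variable {S : Sylow 2 G}

theorem bound (H : Setup S) {n : ℕ} {X : Subgroup G} (h : HasChain n X) : n ≤ 8 := by
  by_contra hn
  obtain ⟨c, hc, -⟩ := h
  refine H.chain (fun i => c ((Fin.castLE (by omega) (Fin.rev i)))) fun i j hij => ?_
  exact hc (Fin.strictMono_castLE _ (Fin.rev_lt_rev.2 hij))

theorem bound_one (H : Setup S) {k : ℕ} {T X : Subgroup G} (hT : Nat.card T = 2 ^ k) (h1 : T < X)
    (h2 : X ≠ ⊤) : k ≤ 6 := by
  have := H.bound (((hasChain_of_card hT).step h1).step (lt_top_iff_ne_top.2 h2))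
  omega

theorem bound_two (H : Setup S) {k : ℕ} {T X L : Subgroup G} (hT : Nat.card T = 2 ^ k)
    (h1 : T < X) (h2 : X < L) (h3 : L ≠ ⊤) : k ≤ 5 := by
  have := H.bound ((((hasChain_of_card hT).step h1).step h2).step (lt_top_iff_ne_top.2 h3))
  omega

/-- The Sylow `2`-subgroup is maximal. -/
theorem maxS (H : Setup S) {X : Subgroup G} (hX : (S : Subgroup G) ≤ X) (hX' : X ≠ ⊤) :
    X = S := by
  by_contra hne
  have := H.bound_one H.cardS (lt_of_le_of_ne hX fun h => hne h.symm) hX'
  omega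

theorem center_bot (H : Setup S) : center G = ⊥ := by
  have := H.simple
  refine (IsSimpleGroup.eq_bot_or_eq_top_of_normal _ inferInstance).resolve_right fun h => ?_
  obtain ⟨a, b, hab⟩ := H.na
  exact hab ((mem_center_iff.1 (h ▸ mem_top b : b ∈ center G)) a)

theorem not_isPGroup (H : Setup S) : ¬ IsPGroup 2 G := by
  intro h
  have : Fact (Nat.Prime 2) := ⟨Nat.prime_two⟩
  have := H.simple
  have : Nontrivial G := IsSimpleGroup.toNontrivial
  have hc := h.center_nontrivial
  rw [H.center_bot] at hc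
  exact not_nontrivial (⊥ : Subgroup G) hc

theorem centralizer_ne_top (H : Setup S) {c : G} (hc : c ≠ 1) :
    centralizer ({c} : Set G) ≠ ⊤ := by
  intro h
  refine hc (mem_bot.1 (H.center_bot ▸ mem_center_iff.2 fun g => ?_))
  exact mem_cent_singleton.1 (h ▸ mem_top g)

theorem notCentral (H : Setup S) (c : G) (hc : c ≠ 1) (q : G) (hq : q ∉ (S : Subgroup G))
    (hqc : q * c = c * q) : ∃ g ∈ (S : Subgroup G), g * c ≠ c * g := by
  by_contra! h
  have := H.maxS (fun g hg => mem_cent_singleton.2 (h g hg)) (H.centralizer_ne_top hc)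
  exact hq (this ▸ mem_cent_singleton.2 hqc)

/-- A central involution of `S`, with centralizer `S`. -/
theorem exists_z (H : Setup S) :
    ∃ z : G, z * z = 1 ∧ z ≠ 1 ∧ centralizer ({z} : Set G) = (S : Subgroup G) := by
  have : Fact (Nat.Prime 2) := ⟨Nat.prime_two⟩
  set P : Subgroup G := (S : Subgroup G) with hP
  have : Nontrivial P := Finite.one_lt_card_iff_nontrivial.1 (by rw [H.cardS]; norm_num)
  have := S.2.center_nontrivial
  obtain ⟨⟨x, hx⟩, hx1⟩ := exists_ne (1 : center P)
  have hxG : (x : G) ≠ 1 := fun h => hx1 (Subtype.ext (Subtype.ext h))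
  obtain ⟨k, hk, hk1⟩ := exists_pow_involution S.2 x.2 hxG
  refine ⟨(x : G) ^ (2 ^ k), by rw [← pow_add, ← two_mul, ← pow_succ', hk1], hk, ?_⟩
  refine H.maxS (fun g hg => mem_cent_singleton.2 ?_) (H.centralizer_ne_top hk)
  have hc : g * (x : G) = x * g := congrArg Subtype.val (mem_center_iff.1 hx ⟨g, hg⟩)
  exact (Commute.pow_right hc _).eq

theorem normalizer_ne_top (H : Setup S) {R : Subgroup G} (hR : IsPGroup 2 R) (h1 : R ≠ ⊥) :
    normalizer (R : Set G) ≠ ⊤ := by
  intro h
  have hn := normalizer_eq_top_iff.1 h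
  have := H.simple
  rcases IsSimpleGroup.eq_bot_or_eq_top_of_normal R hn with h' | h'
  · exact h1 h'
  · exact H.not_isPGroup ((h' ▸ hR).of_equiv topEquiv)

theorem exists_good (H : Setup S) : ∃ R : Subgroup G, IsPGroup 2 R ∧ Good R := by
  have : Fact (Nat.Prime 2) := ⟨Nat.prime_two⟩
  by_contra hcon
  push Not at hcon
  have hF : ∀ D : Subgroup G, IsPGroup 2 D → ∀ g ∈ normalizer (D : Set G),
      (orderOf g).Coprime 2 → g ∈ centralizer (D : Set G) := by
    intro D hD g hg hg2
    by_contra h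
    exact hcon D hD ⟨g, hg, Nat.coprime_two_right.1 hg2, h⟩
  have hN := CfsgLib.Transfer.hasNormalPComplement_of_controls_fusion S fun x hx y hy hxy =>
    CfsgLib.Transfer.exists_conj_eq_of_frobenius hF S hx hy hxy
  obtain ⟨N, hNn, hNc⟩ :=
    (CfsgLib.Transfer.hasNormalPComplement_iff_exists_isComplement' S).1 hN
  have := H.simple
  have hc := hNc.card_mul_card
  rcases IsSimpleGroup.eq_bot_or_eq_top_of_normal N hNn with h | h
  · refine H.not_isPGroup (IsPGroup.of_card (n := 7) ?_)
    rw [← hc, h, card_bot, one_mul, H.cardS]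
  · rw [h, card_top, H.cardS] at hc
    have : 0 < Nat.card G := Nat.card_pos
    omega

end Setup

/-- A maximal good pair. -/
structure Para (S : Sylow 2 G) (z : G) (R T : Subgroup G) : Prop extends Setup S where
  z2 : z * z = 1
  zne : z ≠ 1
  centz : centralizer ({z} : Set G) = (S : Subgroup G)
  R2 : IsPGroup 2 R
  good : Good R
  RT : R ≤ T
  TS : T ≤ (S : Subgroup G)
  Tdef : T = (S : Subgroup G) ⊓ normalizer (R : Set G)
  max : ∀ R' P : Subgroup G, Good R' → IsPGroup 2 P → R' ≤ P → P ≤ normalizer (R' : Set G) →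
    Nat.card P ≤ Nat.card T ∧ (Nat.card P = Nat.card T → Nat.card R' ≤ Nat.card R)

theorem good_map_conj {R : Subgroup G} (h : Good R) (g : G) :
    Good (R.map (MulAut.conj g).toMonoidHom) := by
  obtain ⟨q, hq, hodd, hqc⟩ := h
  refine ⟨g * q * g⁻¹, mem_normalizer_iff.2 fun x => ?_, ?_, fun hc => hqc ?_⟩
  · rw [mem_map_conj, mem_map_conj, mem_normalizer_iff.1 hq (g⁻¹ * x * g)]
    rw [show g⁻¹ * (g * q * g⁻¹ * x * (g * q * g⁻¹)⁻¹) * g = q * (g⁻¹ * x * g) * q⁻¹ by group]
  · have := MulEquiv.orderOf_eq (MulAut.conj g) q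
    rw [MulAut.conj_apply] at this
    rwa [this]
  · rw [mem_centralizer_iff] at hc ⊢
    intro r hr
    have := hc _ ⟨r, hr, rfl⟩
    have h2 := congrArg (fun e => g⁻¹ * e * g) this
    simpa [mul_assoc] using h2

end CfsgLib.Recog.ChainEight
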