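import Cfsg.Agent.Lib.Recog.ChainEight.Tools
import Cfsg.Agent.Lib.Transfer.Thompson
import Mathlib.GroupTheory.Transfer
import Mathlib.GroupTheory.Subgroup.Simple

/-!
# The transfer argument closing the groups of chain length eight
-/

set_option autoImplicit false
set_option linter.unusedSectionVars false

namespace CfsgLib.Recog.ChainEight

open Subgroup

variable {G : Type*} [Group G] [Finite G]

/-- The data reached in both non-maximal-class cases. -/
structure FinalData (S : Sylow 2 G) (z n : G) (M : Subgroup G) : Prop where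
  centz : centralizer ({z} : Set G) = (S : Subgroup G)
  z2 : z * z = 1
  z1 : z ≠ 1
  n2 : n * n = 1
  n1 : n ≠ 1
  nz : n ≠ z
  nS : n ∈ (S : Subgroup G)
  centn : ¬ IsPGroup 2 (centralizer ({n} : Set G))
  MS : M ≤ (S : Subgroup G)
  Mi : M.relIndex (S : Subgroup G) = 2
  Mn : ∀ g ∈ (S : Subgroup G), (g ∈ M ↔ g * n = n * g)
  flip : ∀ g ∈ (S : Subgroup G), g ∉ M → g * n * g⁻¹ = n * z
  big : 4 < Nat.card M
  inv : ∀ i ∈ M, i * i = 1 → i ≠ 1 → i ≠ z → i ≠ n → i ≠ n * z →
    ∀ x ∈ (S : Subgroup G), x * i = i * x → x ∈ M ∧ x * x ≠ i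

namespace FinalData

variable {S : Sylow 2 G} {z n : G} {M : Subgroup G}

theorem z_comm (D : FinalData S z n M) {g : G} (hg : g ∈ (S : Subgroup G)) : g * z = z * g := by
  rw [← D.centz] at hg
  exact mem_cent_singleton.1 hg

theorem mem_S (D : FinalData S z n M) {g : G} (hg : g * z = z * g) : g ∈ (S : Subgroup G) := by
  rw [← D.centz]
  exact mem_cent_singleton.2 hg

theorem zS (D : FinalData S z n M) : z ∈ (S : Subgroup G) := D.mem_S rfl

theorem nM (D : FinalData S z n M) : n ∈ M := (D.Mn n D.nS).2 rfl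

theorem zM (D : FinalData S z n M) : z ∈ M := (D.Mn z D.zS).2 (D.z_comm D.nS).symm

theorem centz_isPGroup (D : FinalData S z n M) : IsPGroup 2 (centralizer ({z} : Set G)) :=
  D.centz ▸ S.2

/-- `n` is not conjugate to `z`. -/
theorem not_conj_n (D : FinalData S z n M) (g : G) : g * n * g⁻¹ ≠ z := fun h =>
  D.centn (isPGroup_cent_of_conj h D.centz_isPGroup)

theorem exists_not_mem (D : FinalData S z n M) : ∃ g ∈ (S : Subgroup G), g ∉ M := by
  by_contra! h
  have := relIndex_eq_one.2 h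
  rw [D.Mi] at this
  omega

/-- `nz` is not conjugate to `z`. -/
theorem not_conj_nz (D : FinalData S z n M) (g : G) : g * (n * z) * g⁻¹ ≠ z := by
  obtain ⟨f, hf, hfM⟩ := D.exists_not_mem
  intro h
  rw [← D.flip f hf hfM] at h
  exact D.not_conj_n (g * f) (by rw [← h]; group)

theorem mul_mem_M (D : FinalData S z n M) {a b : G} (ha : a ∈ (S : Subgroup G)) (haM : a ∉ M)
    (hb : b ∈ (S : Subgroup G)) (hbM : b ∉ M) : a * b ∈ M := by
  have hi : (M.subgroupOf (S : Subgroup G)).index = 2 := D.Mi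
  exact (mul_mem_iff_of_index_two hi (a := ⟨a, ha⟩) (b := ⟨b, hb⟩)).2 (iff_of_false haM hbM)

theorem sq_mem_M (D : FinalData S z n M) {a : G} (ha : a ∈ (S : Subgroup G)) : a * a ∈ M := by
  have hi : (M.subgroupOf (S : Subgroup G)).index = 2 := D.Mi
  exact mul_self_mem_of_index_two hi (⟨a, ha⟩ : (S : Subgroup G))

theorem conj_mem_M (D : FinalData S z n M) {g a : G} (hg : g ∈ (S : Subgroup G)) (ha : a ∈ M) :
    g * a * g⁻¹ ∈ M := by
  by_cases hgM : g ∈ M
  · exact mul_mem (mul_mem hgM ha) (inv_mem hgM)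
  · refine D.mul_mem_M (mul_mem hg (D.MS ha)) (fun h => hgM ?_) (inv_mem hg)
      (fun h => hgM (by simpa using inv_mem h))
    simpa using mul_mem h (inv_mem ha)

/-- A non-involution outside `M` has `z` as its power involution. -/
theorem power_eq_z (D : FinalData S z n M) {x : G} (hx : x ∈ (S : Subgroup G)) (hxM : x ∉ M)
    {k : ℕ} (hk : x ^ (2 ^ k) ≠ 1) (hk1 : x ^ (2 ^ (k + 1)) = 1) (hk0 : 0 < k) :
    x ^ (2 ^ k) = z := by
  set i := x ^ (2 ^ k) with hi
  have hii : i * i = 1 := by rw [hi, ← pow_add, ← two_mul, ← pow_succ', hk1]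
  have hiM : i ∈ M := by
    obtain ⟨k', rfl⟩ : ∃ k', k = k' + 1 := ⟨k - 1, by omega⟩
    rw [hi, pow_succ', pow_mul]
    exact pow_mem (by rw [pow_two]; exact D.sq_mem_M hx) _
  have hxi : x * i = i * x := (Commute.self_pow x _).eq
  by_contra hne
  rcases eq_or_ne i n with hn | hn
  · exact hxM ((D.Mn x hx).2 (by rw [← hn, hxi]))
  rcases eq_or_ne i (n * z) with hz | hz
  · refine hxM ((D.Mn x hx).2 ?_)
    have h1 : n = i * z := by rw [hz, mul_assoc, D.z2, mul_one]
    rw [h1, ← mul_assoc, hxi, mul_assoc, D.z_comm hx, ← mul_assoc]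
  exact hxM (D.inv i hiM hii hk hne hn hz x hx hxi).1

/-- An involution outside `M` centralises a square root of `z` in `M`. -/
theorem exists_root (D : FinalData S z n M) {v : G} (hv : v ∈ (S : Subgroup G)) (hvM : v ∉ M)
    (hv2 : v * v = 1) : ∃ w ∈ M, w * w = z ∧ v * w = w * v := by
  classical
  set U : Subgroup G := four n z D.n2 D.z2 (D.z_comm D.nS) with hU
  have hUM : U ≤ M := by
    intro u hu
    rcases mem_four.1 hu with rfl | rfl | rfl | rfl
    exacts [one_mem _, D.nM, D.zM, mul_mem D.nM D.zM]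
  have hgU : ∀ g ∈ (S : Subgroup G), ∀ u ∈ U, g * u * g⁻¹ ∈ U := by
    intro g hg u hu
    have hgz : g * z * g⁻¹ = z := by rw [D.z_comm hg, mul_assoc, mul_inv_cancel, mul_one]
    have hgn : g * n * g⁻¹ = n ∨ g * n * g⁻¹ = n * z := by
      by_cases hgM : g ∈ M
      · left
        rw [(D.Mn g hg).1 hgM, mul_assoc, mul_inv_cancel, mul_one]
      · exact Or.inr (D.flip g hg hgM)
    have hgnz : g * (n * z) * g⁻¹ = g * n * g⁻¹ * (g * z * g⁻¹) := by group
    rcases mem_four.1 hu with rfl | rfl | rfl | rfl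
    · simp [one_mem]
    · rcases hgn with h | h <;> rw [h] <;> exact mem_four.2 (by simp)
    · rw [hgz]; exact mem_four.2 (by simp)
    · rw [hgnz, hgz]
      rcases hgn with h | h <;> rw [h]
      · exact mem_four.2 (by simp)
      · rw [mul_assoc, D.z2, mul_one]; exact mem_four.2 (by simp)
  set U' := U.subgroupOf (S : Subgroup G)
  have hU'n : U'.Normal := ⟨fun u hu g => hgU g g.2 u hu⟩
  set M' := M.subgroupOf (S : Subgroup G)
  have hM'n : M'.Normal := normal_of_index_eq_two D.Mi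
  have hne : M'.map (QuotientGroup.mk' U') ≠ ⊥ := by
    rw [Ne, Subgroup.map_eq_bot_iff, QuotientGroup.ker_mk']
    intro h
    have hMU : M ≤ U := fun m hm => h (x := ⟨m, D.MS hm⟩) hm
    have := (Nat.le_of_dvd Nat.card_pos (card_dvd_of_le hMU)).trans card_four_le
    have := D.big
    omega
  have := (S.2.to_quotient U').isNilpotent
  have := hM'n.map _ (QuotientGroup.mk'_surjective U')
  obtain ⟨⟨q, hq⟩, hq1⟩ := Subgroup.ne_bot_iff_exists_ne_one.1
    (CfsgLib.Solvable.normal_inf_center_ne_bot _ hne)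
  obtain ⟨w0, hw0, hw0q⟩ := hq.1
  subst hw0q
  have hwU : (w0 : G) ∉ U := fun h => hq1 (Subtype.ext ((QuotientGroup.eq_one_iff _).2 h))
  have hwM : (w0 : G) ∈ M := hw0
  have hcomm : v * (w0 : G) * v⁻¹ * (w0 : G)⁻¹ ∈ U := by
    have h := (mem_center_iff.1 hq.2) (QuotientGroup.mk' U' ⟨v, hv⟩)
    rw [← map_mul, ← map_mul, QuotientGroup.mk'_apply, QuotientGroup.mk'_apply,
      QuotientGroup.eq] at h
    have h1 : ((v * (w0 : G))⁻¹ * ((w0 : G) * v))⁻¹ ∈ U := inv_mem h
    have h2 := hgU _ (mul_mem hv w0.2) _ h1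
    simpa [mul_assoc] using hgU _ (mul_mem w0.2 hv) _ h1
  have hvinv : v⁻¹ = v := inv_eq_of_mul_eq_one_right hv2
  set u := v * (w0 : G) * v⁻¹ * (w0 : G)⁻¹ with hu
  have hvw : v * (w0 : G) * v⁻¹ = u * w0 := by rw [hu, inv_mul_cancel_right]
  have hvn : v * n * v⁻¹ = n * z := D.flip v hv hvM
  have hvz : v * z * v⁻¹ = z := by rw [D.z_comm hv, mul_assoc, mul_inv_cancel, mul_one]
  have huu : v * u * v⁻¹ * u = 1 := by
    rw [hu, hvinv]
    simp [mul_assoc]
    rw [← mul_assoc v v, hv2, one_mul]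
    simp [← mul_assoc, hv2]
  obtain ⟨w1, hw1M, hw1U, hw1⟩ : ∃ w1 ∈ M, w1 ∉ U ∧ v * w1 = w1 * v := by
    rcases mem_four.1 hcomm with h | h | h | h
    · exact ⟨w0, hwM, hwU, mul_inv_eq_iff_eq_mul.1 (by rw [hvw, h, one_mul])⟩
    · exfalso
      rw [h, hvn, mul_assoc, ← D.z_comm D.nS, ← mul_assoc, D.n2, one_mul] at huu
      exact D.z1 huu
    · refine ⟨(w0 : G) * n, mul_mem hwM D.nM, fun hU' => hwU ?_, ?_⟩
      · have hnU : n ∈ U := mem_four.2 (by simp)
        simpa [mul_assoc, D.n2] using mul_mem hU' hnU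
      · apply mul_inv_eq_iff_eq_mul.1
        have he : v * ((w0 : G) * n) * v⁻¹ = v * (w0 : G) * v⁻¹ * (v * n * v⁻¹) := by group
        rw [he, hvw, h, hvn, mul_assoc z, ← mul_assoc (w0 : G),
          D.z_comm (mul_mem w0.2 D.nS), ← mul_assoc z, D.z2, one_mul]
    · exfalso
      have he : v * (n * z) * v⁻¹ = v * n * v⁻¹ * (v * z * v⁻¹) := by group
      rw [h, he, hvn, hvz, mul_assoc n z z, D.z2, mul_one, ← mul_assoc, D.n2, one_mul] at huu
      exact D.z1 huu
  have hw11 : w1 ≠ 1 := fun h => hw1U (h ▸ one_mem _)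
  obtain ⟨k, hk, hk1⟩ := exists_pow_involution S.2 (D.MS hw1M) hw11
  have hcv : ∀ j : ℕ, v * w1 ^ j = w1 ^ j * v := fun j => (Commute.pow_right hw1 j).eq
  have hii : w1 ^ (2 ^ k) * w1 ^ (2 ^ k) = 1 := by rw [← pow_add, ← two_mul, ← pow_succ', hk1]
  have hiz : w1 ^ (2 ^ k) = z := by
    by_contra hne
    have hiM := pow_mem hw1M (2 ^ k)
    rcases eq_or_ne (w1 ^ (2 ^ k)) n with hn | hn
    · exact hvM ((D.Mn v hv).2 (hn ▸ hcv _))
    rcases eq_or_ne (w1 ^ (2 ^ k)) (n * z) with hz | hz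
    · refine hvM ((D.Mn v hv).2 ?_)
      have h1 : v * (n * z) = n * z * v := hz ▸ hcv _
      rw [← mul_assoc, mul_assoc n z v, ← D.z_comm hv, ← mul_assoc] at h1
      exact mul_right_cancel h1
    exact hvM (D.inv _ hiM hii hk hne hn hz v hv (hcv _)).1
  rcases Nat.eq_zero_or_pos k with rfl | hk0
  · exact absurd (mem_four.2 (Or.inr (Or.inr (Or.inl (by simpa using hiz))))) hw1U
  · refine ⟨w1 ^ (2 ^ (k - 1)), pow_mem hw1M _, ?_, hcv _⟩
    rw [← pow_add, ← two_mul, ← pow_succ', show k - 1 + 1 = k by omega, hiz]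

/-- No conjugate of `z` lies in `S \ M`. -/
theorem mem_M_of_conj_z (D : FinalData S z n M) {v h : G} (hv : v ∈ (S : Subgroup G))
    (hh : h * v * h⁻¹ = z) : v ∈ M := by
  by_contra hvM
  have hv2 : v * v = 1 := by
    have h1 : h * (v * v) * h⁻¹ = 1 := by
      rw [show h * (v * v) * h⁻¹ = h * v * h⁻¹ * (h * v * h⁻¹) by group, hh, D.z2]
    simpa using h1
  obtain ⟨w, hwM, hw, hvw⟩ := D.exists_root hv hvM hv2
  set z' := h * z * h⁻¹ with hz'
  set w' := h * w * h⁻¹ with hw'
  have hwz : w * v = v * w := hvw.symm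
  have hw'S : w' ∈ (S : Subgroup G) := by
    apply D.mem_S
    rw [hw', ← hh]
    exact conj_comm hwz
  have hww : w' * w' = z' := by rw [hw', hz', ← hw]; group
  have hz'M : z' ∈ M := hww ▸ D.sq_mem_M hw'S
  have hz'2 : z' * z' = 1 := by
    rw [hz', show h * z * h⁻¹ * (h * z * h⁻¹) = h * (z * z) * h⁻¹ by group, D.z2]; simp
  have hz'1 : z' ≠ 1 := by
    intro h1
    exact D.z1 (by simpa [hz'] using h1)
  have hne : z' ≠ z := by
    intro h1
    have hhS : h ∈ (S : Subgroup G) := D.mem_S (mul_inv_eq_iff_eq_mul.1 h1)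
    refine hvM ?_
    have h2 := D.conj_mem_M (inv_mem hhS) D.zM
    rwa [← hh, show h⁻¹ * (h * v * h⁻¹) * h⁻¹⁻¹ = v by group] at h2
  have hn' : z' ≠ n := fun h1 => D.not_conj_n h⁻¹ (by rw [← h1, hz']; group)
  have hnz' : z' ≠ n * z := fun h1 => D.not_conj_nz h⁻¹ (by rw [← h1, hz']; group)
  have hc : w' * z' = z' * w' := by rw [← hww]; exact (mul_assoc _ _ _).symm
  exact (D.inv z' hz'M hz'2 hz'1 hne hn' hnz' w' hw'S hc).2 hww

theorem exists_non_involution (D : FinalData S z n M) :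
    ∃ x ∈ (S : Subgroup G), x ∉ M ∧ x * x ≠ 1 := by
  obtain ⟨v, hv, hvM⟩ := D.exists_not_mem
  by_cases hv2 : v * v = 1
  · obtain ⟨w, hwM, hw, hvw⟩ := D.exists_root hv hvM hv2
    refine ⟨v * w, mul_mem hv (D.MS hwM), fun h => hvM ?_, ?_⟩
    · simpa using mul_mem h (inv_mem hwM)
    · rw [show v * w * (v * w) = v * (w * v) * w by group, ← hvw, ← mul_assoc, hv2, one_mul,
        hw]
      exact D.z1
  · exact ⟨v, hv, hvM, hv2⟩

/-- No simple non-abelian group admits such data. -/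
theorem elim [IsSimpleGroup G] (D : FinalData S z n M) (hna : ∃ a b : G, a * b ≠ b * a) :
    False := by
  classical
  set P : Subgroup G := (S : Subgroup G) with hP
  set Q' : Subgroup P := M.subgroupOf P
  have hQi : Q'.index = 2 := D.Mi
  have : Q'.Normal := normal_of_index_eq_two hQi
  have hcard : Nat.card (P ⧸ Q') = 2 := by rw [← index_eq_card]; exact hQi
  have : Fact (Nat.Prime 2) := ⟨Nat.prime_two⟩
  have : IsCyclic (P ⧸ Q') := isCyclic_of_prime_card hcard
  let _ : CommGroup (P ⧸ Q') := IsCyclic.commGroup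
  let f : P →* P ⧸ Q' := QuotientGroup.mk' Q'
  obtain ⟨x, hx, hxM, hx2⟩ := D.exists_non_involution
  have hfx : f ⟨x, hx⟩ ≠ 1 := fun h => hxM (mem_subgroupOf.1 ((QuotientGroup.eq_one_iff _).1 h))
  obtain ⟨k, hk, hk1⟩ := exists_pow_involution S.2 hx (fun h => hxM (h ▸ one_mem _))
  have hk0 : 0 < k := by
    rcases Nat.eq_zero_or_pos k with rfl | h
    · exact absurd (by simpa [pow_two] using hk1) hx2
    · exact h
  have hxz := D.power_eq_z hx hxM hk hk1 hk0
  let τ := MonoidHom.transfer f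
  let _ : Fintype (Quotient (MulAction.orbitRel (zpowers x) (G ⧸ P))) := Fintype.ofFinite _
  have hmain : τ x = f ⟨x, hx⟩ := by
    change MonoidHom.transfer f x = _
    rw [MonoidHom.transfer_eq_prod_quotient_orbitRel_zpowers_quot]
    let q0 : Quotient (MulAction.orbitRel (zpowers x) (G ⧸ P)) := Quotient.mk'' ((1 : G) : G ⧸ P)
    have hfix : ∀ j : ℕ, x ^ j • ((1 : G) : G ⧸ P) = ((1 : G) : G ⧸ P) := fun j => by
      change ((x ^ j * 1 : G) : G ⧸ P) = _
      rw [QuotientGroup.eq, mul_one, mul_one]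
      exact inv_mem (pow_mem hx j)
    have hq0 : q0.out = ((1 : G) : G ⧸ P) := by
      have h := Quotient.exact' (Quotient.out_eq' q0)
      obtain ⟨⟨g, hg⟩, hgq⟩ := h
      obtain ⟨j, rfl⟩ : ∃ j : ℕ, x ^ j = g :=
        (mem_powers_iff_mem_zpowers.2 hg).imp fun _ h => h
      rw [← hgq]
      exact hfix j
    have hout : q0.out.out ∈ P := by
      rw [hq0]
      have h := QuotientGroup.eq.1 ((QuotientGroup.out_eq' ((1 : G) : G ⧸ P)))
      simpa using h
    rw [Finset.prod_eq_single q0]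
    · have hper : Function.minimalPeriod (x • ·) q0.out = 1 := by
        rw [Function.minimalPeriod_eq_one_iff_isFixedPt]
        change x • q0.out = q0.out
        rw [hq0]
        simpa using hfix 1
      have h1 : (⟨q0.out.out⁻¹ * x ^ Function.minimalPeriod (x • ·) q0.out * q0.out.out,
          QuotientGroup.out_conj_pow_minimalPeriod_mem P x q0.out⟩ : P) =
            (⟨q0.out.out, hout⟩ : P)⁻¹ * ⟨x, hx⟩ * ⟨q0.out.out, hout⟩ := by
        apply Subtype.ext
        simp only [Subgroup.coe_mul, Subgroup.coe_inv]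
        rw [hper, pow_one]
      rw [h1, map_mul, map_mul, map_inv, mul_comm, ← mul_assoc, mul_inv_cancel, one_mul]
    · intro q _ hq
      set m := Function.minimalPeriod (x • ·) q.out with hm
      set g := q.out.out with hg
      have hmem : g⁻¹ * x ^ m * g ∈ P := QuotientGroup.out_conj_pow_minimalPeriod_mem P x q.out
      refine (QuotientGroup.eq_one_iff _).2 (mem_subgroupOf.2 ?_)
      change g⁻¹ * x ^ m * g ∈ M
      have hgP : g ∉ P := by
        intro h
        apply hq
        have h1 : q.out = ((1 : G) : G ⧸ P) := by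
          rw [← QuotientGroup.out_eq' q.out, QuotientGroup.eq]
          simpa using inv_mem h
        rw [← Quotient.out_eq' q, h1]
      have hmdvd : m ∣ 2 ^ (k + 1) := by
        apply Function.IsPeriodicPt.minimalPeriod_dvd
        change ((x • ·)^[2 ^ (k + 1)]) q.out = q.out
        simp only [smul_iterate, hk1, one_smul]
      obtain ⟨j, hj, hmj⟩ := (Nat.dvd_prime_pow Nat.prime_two).1 hmdvd
      rcases Nat.lt_or_ge k j with hkj | hkj
      · have : j = k + 1 := by omega
        rw [hmj, this, hk1, mul_one, inv_mul_cancel]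
        exact one_mem _
      set c := g⁻¹ * x ^ m * g with hc
      set z' := g⁻¹ * z * g with hz'
      have hcz : c ^ (2 ^ (k - j)) = z' := by
        rw [hc, show g⁻¹ * x ^ m * g = g⁻¹ * x ^ m * g⁻¹⁻¹ by rw [inv_inv], conj_pow, inv_inv,
          ← pow_mul, hmj, ← pow_add, show j + (k - j) = k by omega, hxz]
      have hz'M : z' ∈ M := D.mem_M_of_conj_z (v := z') (h := g)
        (hcz ▸ pow_mem hmem _) (by rw [hz']; group)
      have hne : z' ≠ z := by
        intro h
        refine hgP (D.mem_S ?_)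
        have := congrArg (g * ·) h
        simpa [hz', mul_assoc] using this.symm
      have hz'2 : z' * z' = 1 := by
        rw [hz', show g⁻¹ * z * g * (g⁻¹ * z * g) = g⁻¹ * (z * z) * g by group, D.z2]; simp
      have hz'1 : z' ≠ 1 := by
        intro h1
        exact D.z1 (by simpa [hz', mul_assoc, inv_mul_eq_one] using h1)
      have hn' : z' ≠ n := fun h1 => D.not_conj_n g (by rw [← h1, hz']; group)
      have hnz' : z' ≠ n * z := fun h1 => D.not_conj_nz g (by rw [← h1, hz']; group)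
      refine (D.inv z' hz'M hz'2 hz'1 hne hn' hnz' c hmem ?_).1
      rw [← hcz]
      exact (Commute.self_pow c _).eq
    · exact fun h => absurd (Finset.mem_univ _) h
  rcases IsSimpleGroup.eq_bot_or_eq_top_of_normal τ.ker inferInstance with h | h
  · obtain ⟨a, b, hab⟩ := hna
    exact hab ((MonoidHom.ker_eq_bot_iff τ).1 h (by rw [map_mul, map_mul, mul_comm]))
  · exact hfx (hmain ▸ (h ▸ mem_top x : x ∈ τ.ker))

end FinalData

end CfsgLib.Recog.ChainEight
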