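import Cfsg.Agent.Lib.Recog.ChainEight.Common
import Cfsg.Agent.Lib.Recog.ChainEight.Final

/-!
# The amalgam case with a kernel of order four
-/

set_option autoImplicit false
set_option linter.unusedSectionVars false
set_option maxHeartbeats 800000

namespace CfsgLib.Recog.ChainEight

open Subgroup

variable {G : Type*} [Group G] [Finite G]

namespace Core

variable {S : Sylow 2 G} {z : G} {R T C : Subgroup G} {s y z1 v : G}

/-- `T⟨s⟩`. -/
def cover (D : Core S z R T C s y z1 v) : Subgroup G where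
  carrier := {x | x ∈ T ∨ s⁻¹ * x ∈ T}
  one_mem' := Or.inl (one_mem _)
  mul_mem' := by
    rintro a b (ha | ha) (hb | hb)
    · exact Or.inl (mul_mem ha hb)
    · refine Or.inr ?_
      have := mul_mem (D.conjT_iff.2 ha) hb
      simpa [mul_assoc] using this
    · refine Or.inr ?_
      have := mul_mem ha hb
      simpa [mul_assoc] using this
    · refine Or.inl ?_
      have := mul_mem (mul_mem (D.sN _ ha) D.s2) hb
      simpa [mul_assoc] using this
  inv_mem' := by
    rintro a (ha | ha)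
    · exact Or.inl (inv_mem ha)
    · refine Or.inr ?_
      have := inv_mem (mul_mem (D.sN _ ha) D.s2)
      simpa [mul_assoc] using this

theorem T_le_cover (D : Core S z R T C s y z1 v) : T ≤ D.cover := fun _ h => Or.inl h

theorem s_mem_cover (D : Core S z R T C s y z1 v) : s ∈ D.cover :=
  Or.inr (by simp [one_mem])

theorem cover_le (D : Core S z R T C s y z1 v) : D.cover ≤ (S : Subgroup G) := by
  rintro x (h | h)
  · exact D.TS h
  · have := mul_mem D.hs (D.TS h)
    simpa using this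

theorem relIndex_cover (D : Core S z R T C s y z1 v) : T.relIndex D.cover = 2 := by
  rw [relIndex, index_eq_two_iff]
  refine ⟨⟨s, D.s_mem_cover⟩, fun ⟨b, hb⟩ => ?_⟩
  by_cases hbT : b ∈ T
  · refine Or.inr ⟨mem_subgroupOf.2 hbT, fun h => D.sT ?_⟩
    have := mul_mem (inv_mem hbT) (mem_subgroupOf.1 h)
    simpa using this
  · refine Or.inl ⟨mem_subgroupOf.2 ?_, fun h => hbT (mem_subgroupOf.1 h)⟩
    have := mul_mem (D.sN _ (hb.resolve_left hbT)) D.s2
    show b * s ∈ T
    simpa [mul_assoc] using this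

theorem cover_card (D : Core S z R T C s y z1 v) (hC : Nat.card C = 4) :
    Nat.card D.cover = 64 := by
  rw [card_eq_mul_relIndex D.T_le_cover, D.relIndex_cover, D.cardT, D.cardR, hC]

theorem cover_relIndex (D : Core S z R T C s y z1 v) (hC : Nat.card C = 4) :
    D.cover.relIndex (S : Subgroup G) = 2 :=
  relIndex_eq_two_of_card D.cover_le (by rw [D.cover_card hC, D.cardS]; norm_num)

theorem cover_conj (D : Core S z R T C s y z1 v) (hC : Nat.card C = 4) {g a : G}
    (hg : g ∈ (S : Subgroup G)) (ha : a ∈ D.cover) : g * a * g⁻¹ ∈ D.cover := by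
  have : (D.cover.subgroupOf (S : Subgroup G)).Normal :=
    normal_of_index_eq_two (D.cover_relIndex hC)
  exact this.conj_mem ⟨a, D.cover_le ha⟩ ha ⟨g, hg⟩

theorem cover_swap (D : Core S z R T C s y z1 v) {x r : G} (hx : x ∈ D.cover) (hxT : x ∉ T)
    (hr : r ∈ R) : x * r * x⁻¹ ∈ R.map (MulAut.conj s).toMonoidHom :=
  ⟨_, D.TnormR _ (hx.resolve_left hxT) r hr, by simp [mul_assoc]⟩

theorem cover_swap' (D : Core S z R T C s y z1 v) {x r : G} (hx : x ∈ D.cover) (hxT : x ∉ T)
    (hr : r ∈ R.map (MulAut.conj s).toMonoidHom) : x * r * x⁻¹ ∈ R := by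
  have := D.s_swap (D.T_normR' (hx.resolve_left hxT) hr)
  simpa [mul_assoc] using this

theorem cover_Zt (D : Core S z R T C s y z1 v) {x r : G} (hx : x ∈ D.cover)
    (hr : r ∈ R ⊓ R.map (MulAut.conj s).toMonoidHom) :
    x * r * x⁻¹ ∈ R ⊓ R.map (MulAut.conj s).toMonoidHom := by
  by_cases hxT : x ∈ T
  · rwa [← D.mem_Zt hr x hxT, mul_inv_cancel_right]
  · exact ⟨D.cover_swap' hx hxT hr.2, D.cover_swap hx hxT hr.1⟩

/-- An element of `T⟨s⟩` centralising an element of `R` outside the centre lies in `R`. -/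
theorem cover_cent (D : Core S z R T C s y z1 v) {x r : G} (hx : x ∈ D.cover) (hr : r ∈ R)
    (hrZ : r ∉ R ⊓ R.map (MulAut.conj s).toMonoidHom) (h : x * r = r * x) : x ∈ R := by
  by_cases hxT : x ∈ T
  · exact D.cent_eq hxT hr hrZ h
  · refine absurd ⟨hr, ?_⟩ hrZ
    have := D.cover_swap hx hxT hr
    rwa [h, mul_inv_cancel_right] at this

theorem cover_cent' (D : Core S z R T C s y z1 v) {x r : G} (hx : x ∈ D.cover)
    (hr : r ∈ R.map (MulAut.conj s).toMonoidHom)
    (hrZ : r ∉ R ⊓ R.map (MulAut.conj s).toMonoidHom) (h : x * r = r * x) :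
    x ∈ R.map (MulAut.conj s).toMonoidHom := by
  by_cases hxT : x ∈ T
  · exact D.cent_eq' hxT hr hrZ h
  · refine absurd ⟨?_, hr⟩ hrZ
    have := D.cover_swap' hx hxT hr
    rwa [h, mul_inv_cancel_right] at this

theorem false_of_four_elementary (D : Core S z R T C s y z1 v) (hC : Nat.card C = 4)
    (hel : ∀ c ∈ C, c * c = 1) : False := by
  classical
  set P : Subgroup G := (S : Subgroup G) with hP
  set M := D.cover with hM
  set R' := R.map (MulAut.conj s).toMonoidHom with hR'
  set Z := R ⊓ R' with hZ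
  have hs2 : ∀ c ∈ C, s * (c * c) * s⁻¹ ∈ C := fun c hc => by simp [hel c hc, one_mem]
  have hR2 : ∀ r ∈ R, r * r = 1 := fun r hr => by
    obtain ⟨c, hc, h⟩ := D.sqC r hr
    rw [h, hel c hc]
  have hMi : M.relIndex P = 2 := D.cover_relIndex hC
  have key : ∀ g ∈ P, g ∉ M → ∀ ζ ∈ Z, g⁻¹ * ζ * g ∈ R := by
    intro g hg hgM
    set B := R.map (MulAut.conj g).toMonoidHom with hB
    obtain ⟨r0, hr0, hx0⟩ : ∃ r ∈ R, g * r * g⁻¹ ∉ T := by
      by_contra! hall
      have hcov : ∀ b ∈ B, b ∈ R ∨ b ∈ R' := by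
        rintro _ ⟨r, hr, rfl⟩
        refine D.invol_mem hs2 (by simpa using hall r hr) ?_
        show g * r * g⁻¹ * (g * r * g⁻¹) = 1
        rw [show g * r * g⁻¹ * (g * r * g⁻¹) = g * (r * r) * g⁻¹ by group, hR2 r hr]
        simp
      by_cases h1 : B ≤ R
      · exact hgM (D.T_le_cover (D.normR g hg fun r hr => h1 ⟨r, hr, by simp⟩))
      · obtain ⟨b, hb, hbR⟩ := SetLike.not_le_iff_exists.1 h1
        have h2 : B ≤ R' := by
          intro a ha
          rcases hcov a ha with haR | haR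
          · rcases hcov _ (mul_mem ha hb) with h | h
            · exact absurd (by simpa using mul_mem (inv_mem haR) h) hbR
            · simpa using mul_mem h (inv_mem ((hcov b hb).resolve_left hbR))
          · exact haR
        refine hgM (Or.inr (D.normR _ (mul_mem (inv_mem D.hs) hg) fun r hr => ?_))
        have := mem_map_conj.1 (h2 ⟨r, hr, rfl⟩)
        simpa [mul_assoc] using this
    set x := g * r0 * g⁻¹ with hx
    have hxM : x ∈ M := D.cover_conj hC hg (D.T_le_cover (D.RT hr0))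
    have hsub : B ⊓ T ≤ Z := by
      rintro b ⟨hbB, hbT⟩
      obtain ⟨r, hr, rfl⟩ := hbB
      simp only [MulEquiv.coe_toMonoidHom, MulAut.conj_apply] at hbT ⊢
      have hcomm : x * (g * r * g⁻¹) = g * r * g⁻¹ * x := conj_comm (D.comm r0 hr0 r hr)
      have hb2 : g * r * g⁻¹ * (g * r * g⁻¹) = 1 := by
        rw [show g * r * g⁻¹ * (g * r * g⁻¹) = g * (r * r) * g⁻¹ by group, hR2 r hr]; simp
      by_contra hbZ
      rcases D.invol_mem hs2 hbT hb2 with h | h
      · exact hx0 (D.RT (D.cover_cent hxM h hbZ hcomm))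
      · exact hx0 (D.map_le (D.cover_cent' hxM h hbZ hcomm))
    have hle : T.relIndex B ≤ 2 := by
      rw [← D.relIndex_cover]
      refine relIndex_le_of_le_right ?_ (by rw [D.relIndex_cover]; omega)
      rintro _ ⟨r, hr, rfl⟩
      simpa using D.cover_conj hC hg (D.T_le_cover (D.RT hr))
    have hcard : 8 ≤ Nat.card ↥(B ⊓ T) := by
      have h1 := card_eq_mul_relIndex (inf_le_left : B ⊓ T ≤ B)
      rw [inf_relIndex_left, card_map_conj, D.cardR, hC] at h1
      nlinarith
    have heq : B ⊓ T = Z := Subgroup.eq_of_le_of_card_ge hsub (by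
      rw [D.card_Zt, hC]; omega)
    intro ζ hζ
    exact mem_map_conj.1 ((heq.ge hζ).1)
  obtain ⟨g, hg, hgM⟩ : ∃ g ∈ P, g ∉ M := by
    by_contra! h
    have := relIndex_eq_one.2 h
    omega
  have hgs : g * s ∉ M := fun h => hgM (by simpa using mul_mem h (inv_mem D.s_mem_cover))
  have hgZ : ∀ ζ ∈ Z, g⁻¹ * ζ * g ∈ Z := fun ζ hζ => by
    refine ⟨key g hg hgM ζ hζ, mem_map_conj.2 ?_⟩
    have := key (g * s) (mul_mem hg D.hs) hgs ζ hζ
    simpa [mul_assoc] using this
  -- `s` centralises `C`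
  have hsC : ∀ c ∈ C, s * c = c * s := by
    obtain ⟨r0, hr0, hx0⟩ : ∃ r ∈ R, g * r * g⁻¹ ∉ T := by
      by_contra! hall
      have hle : R.map (MulAut.conj g).toMonoidHom ≤ T := by
        rintro _ ⟨r, hr, rfl⟩; simpa using hall r hr
      have hcov : ∀ r ∈ R, g * r * g⁻¹ ∈ Z := by
        intro r hr
        by_contra hZ'
        have hb2 : g * r * g⁻¹ * (g * r * g⁻¹) = 1 := by
          rw [show g * r * g⁻¹ * (g * r * g⁻¹) = g * (r * r) * g⁻¹ by group, hR2 r hr]; simp
        have hcm : ∀ a ∈ R, g * a * g⁻¹ * (g * r * g⁻¹) = g * r * g⁻¹ * (g * a * g⁻¹) :=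
          fun a ha => conj_comm (D.comm a ha r hr)
        rcases D.invol_mem hs2 (hall r hr) hb2 with h | h
        · refine hgM (D.T_le_cover (D.normR g hg fun a ha => ?_))
          exact D.cent_eq (hall a ha) h hZ' (hcm a ha)
        · refine hgM (Or.inr (D.normR _ (mul_mem (inv_mem D.hs) hg) fun a ha => ?_))
          have := mem_map_conj.1 (D.cent_eq' (hall a ha) h hZ' (hcm a ha))
          simpa [mul_assoc] using this
      have hsub : R.map (MulAut.conj g).toMonoidHom ≤ Z := by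
        rintro _ ⟨r, hr, rfl⟩; simpa using hcov r hr
      have := Nat.le_of_dvd Nat.card_pos (card_dvd_of_le hsub)
      rw [card_map_conj, D.cardR, D.card_Zt, hC] at this
      omega
    intro c hc
    set x := g * r0 * g⁻¹ with hx
    have hxM : x ∈ M := D.cover_conj hC hg (D.T_le_cover (D.RT hr0))
    have h1 := key g hg hgM c (D.C_le_Zt hc)
    have h2 := conj_comm (g := g) (D.comm r0 hr0 _ h1)
    have h2' : x * c = c * x := by simpa [hx, mul_assoc] using h2
    have ht := hxM.resolve_left hx0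
    have h3 := D.CT c hc _ ht
    calc s * c = s * (c * (s⁻¹ * x)) * (s⁻¹ * x)⁻¹ := by group
      _ = s * ((s⁻¹ * x) * c) * (s⁻¹ * x)⁻¹ := by rw [h3]
      _ = (x * c) * (x⁻¹ * s) := by group
      _ = c * s := by rw [h2']; group
  have hMC : ∀ m ∈ M, ∀ c ∈ C, m * c = c * m := by
    rintro m (hm | hm) c hc
    · exact D.CT c hc m hm
    · calc m * c = s * ((s⁻¹ * m) * c) := by group
        _ = s * c * (s⁻¹ * m) := by rw [D.CT c hc _ hm]; group
        _ = c * m := by rw [hsC c hc]; group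
  -- a common element of `C` and its conjugate
  obtain ⟨d, hd, hd1, hgd⟩ : ∃ d ∈ C, d ≠ 1 ∧ g⁻¹ * d * g ∈ C := by
    obtain ⟨a, ha1⟩ : ∃ a : C, a ≠ 1 := by
      have : Nontrivial C := Finite.one_lt_card_iff_nontrivial.1 (by omega)
      exact exists_ne 1
    by_cases haC : g⁻¹ * a * g ∈ C
    · exact ⟨a, a.2, fun h => ha1 (Subtype.ext h), haC⟩
    obtain ⟨b, hb1, hba⟩ : ∃ b : C, b ≠ 1 ∧ b ≠ a := by
      by_contra! h
      have : ∀ b : C, b ∈ ({1, a} : Finset C) := fun b => by
        rcases eq_or_ne b 1 with rfl | hb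
        · simp
        · simp [h b hb]
      let _ := Fintype.ofFinite C
      have h1 := Finset.card_le_card (s := (Finset.univ : Finset C)) (t := {1, a}) fun b _ => this b
      rw [Finset.card_univ, ← Nat.card_eq_fintype_card, hC] at h1
      have := (Finset.card_le_two (a := (1 : C)) (b := a))
      omega
    by_cases hbC : g⁻¹ * b * g ∈ C
    · exact ⟨b, b.2, fun h => hb1 (Subtype.ext h), hbC⟩
    refine ⟨(a : G) * b, mul_mem a.2 b.2, fun h => hba ?_, ?_⟩
    · apply Subtype.ext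
      have hinv : (a : G)⁻¹ = a := inv_eq_of_mul_eq_one_right (hel _ a.2)
      rw [← hinv]
      exact (inv_eq_of_mul_eq_one_right h).symm
    · have := mul_mem_of_relIndex_two (relIndex_eq_two_of_card D.C_le_Zt D.card_Zt)
        (hgZ _ (D.C_le_Zt a.2)) haC (hgZ _ (D.C_le_Zt b.2)) hbC
      simpa [mul_assoc] using this
  set d' := g⁻¹ * d * g with hd'
  have hg2 : g * g ∈ M := by
    have hi : (M.subgroupOf P).index = 2 := hMi
    exact mul_self_mem_of_index_two hi (⟨g, hg⟩ : P)
  have hgd' : g⁻¹ * d' * g = d := by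
    rw [hd', show g⁻¹ * (g⁻¹ * d * g) * g = (g * g)⁻¹ * (d * (g * g)) by group,
      ← hMC _ hg2 d hd, inv_mul_cancel_left]
  obtain ⟨w, hwC, hw1, hwg⟩ : ∃ w ∈ C, w ≠ 1 ∧ g⁻¹ * w * g = w := by
    by_cases h : d' = d
    · exact ⟨d, hd, hd1, h⟩
    refine ⟨d * d', mul_mem hd hgd, fun h1 => h ?_, ?_⟩
    · rw [← inv_eq_of_mul_eq_one_right h1, inv_eq_of_mul_eq_one_right (hel d hd)]
    · rw [show g⁻¹ * (d * d') * g = g⁻¹ * d * g * (g⁻¹ * d' * g) by group, ← hd', hgd']
      exact D.comm _ (D.CR hgd) _ (D.CR hd)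
  have hgw : g * w = w * g := by
    have := congrArg (g * ·) hwg
    simpa [mul_assoc] using this.symm
  obtain ⟨f, hf, hne⟩ := D.notCentral w hw1 y D.yS (D.yC w hwC)
  refine hne ?_
  by_cases hfM : f ∈ M
  · exact hMC f hfM w hwC
  · have hp := mul_mem_of_relIndex_two hMi hf hfM (inv_mem hg) (fun h => hgM (inv_mem_iff.1 h))
    have := hMC _ hp w hwC
    calc f * w = f * g⁻¹ * (g * w) := by group
      _ = f * g⁻¹ * w * g := by rw [hgw]; group
      _ = w * f := by rw [this]; group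

/-- The data for the transfer argument when `C` is cyclic of order four. -/
theorem false_of_four [IsSimpleGroup G] (hna : ∃ a b : G, a * b ≠ b * a)
    (D : Core S z R T C s y z1 v) (hC : Nat.card C = 4) : False := by
  classical
  by_cases hel : ∀ c ∈ C, c * c = 1
  · exact D.false_of_four_elementary hC hel
  push Not at hel
  obtain ⟨u, hu, hu2⟩ := hel
  set n := u * u with hn
  set P : Subgroup G := (S : Subgroup G) with hP
  set M := D.cover with hM
  set R' := R.map (MulAut.conj s).toMonoidHom with hR'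
  set Z := R ⊓ R' with hZ
  have hnC : n ∈ C := mul_mem hu hu
  have hu4 : u ^ 4 = 1 := by
    have h := pow_card_eq_one' (x := (⟨u, hu⟩ : C))
    rw [hC] at h
    simpa using congrArg Subtype.val h
  have hnn : n * n = 1 := by rw [hn, ← hu4]; simp [pow_succ, mul_assoc]
  have hu1 : u ≠ 1 := fun h => hu2 (by rw [hn, h, mul_one])
  have hordu : orderOf u = 2 ^ 2 := by
    have : Fact (Nat.Prime 2) := ⟨Nat.prime_two⟩
    refine orderOf_eq_prime_pow ?_ (by norm_num; exact hu4)
    simpa [pow_two] using hu2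
  have hCz : C = zpowers u := (Subgroup.eq_of_le_of_card_ge (zpowers_le.2 hu)
    (by rw [Nat.card_zpowers, hordu, hC]; norm_num)).symm
  have hCcases : ∀ c ∈ C, c = 1 ∨ c = n ∨ c = u ∨ c = u * n := by
    intro c hc
    rw [hCz] at hc
    obtain ⟨j, rfl⟩ := mem_powers_iff_mem_zpowers.2 hc
    show u ^ j = 1 ∨ u ^ j = n ∨ u ^ j = u ∨ u ^ j = u * n
    rw [← pow_mod_orderOf, hordu]
    have h4 : j % 2 ^ 2 = 0 ∨ j % 2 ^ 2 = 1 ∨ j % 2 ^ 2 = 2 ∨ j % 2 ^ 2 = 3 := by omega
    rcases h4 with h | h | h | h <;> rw [h]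
    · simp
    · simp
    · simp [hn, pow_two]
    · simp [hn, pow_succ, mul_assoc]
  have hCsq : ∀ c ∈ C, c * c = 1 ∨ c * c = n := by
    intro c hc
    rcases hCcases c hc with rfl | rfl | rfl | rfl
    · left; simp
    · left; exact hnn
    · right; rfl
    · right
      have hun : n * u = u * n := by rw [hn, mul_assoc]
      rw [mul_assoc u n (u * n), ← mul_assoc n u n, hun, mul_assoc u n n, hnn, mul_one]
  have hsq : ∀ r ∈ R, r * r = 1 ∨ r * r = n := fun r hr => by
    obtain ⟨c, hc, h⟩ := D.sqC r hr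
    rw [h]; exact hCsq c hc
  have hzn : n ≠ z := fun h => D.z_not_mem_C (h ▸ hnC)
  have hnP : n ∈ P := D.TS (D.RT (D.CR hnC))
  have hnz : n * z = z * n := D.z_comm hnP
  have hsn : s * n * s⁻¹ = n := by
    have h1 := D.s_Zt (D.C_le_Zt hu)
    have e : s * n * s⁻¹ = s * u * s⁻¹ * (s * u * s⁻¹) := by rw [hn]; group
    rw [e]
    rcases hsq _ h1.1 with h | h
    · refine absurd ?_ hu2
      rw [← e] at h
      exact conj_eq_one_iff.1 h
    · exact h
  have hMn1 : ∀ m ∈ M, m * n = n * m := by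
    rintro m (hm | hm)
    · exact D.CT n hnC m hm
    · have h1 := D.CT n hnC _ hm
      have h2 : s * n = n * s := mul_inv_eq_iff_eq_mul.1 hsn
      calc m * n = s * ((s⁻¹ * m) * n) := by group
        _ = s * n * (s⁻¹ * m) := by rw [h1]; group
        _ = n * m := by rw [h2]; group
  have hMi : M.relIndex P = 2 := D.cover_relIndex hC
  have hMP : M ≤ P := D.cover_le
  obtain ⟨g0, hg0, hg0n⟩ := D.notCentral n hu2 y D.yS (D.yC n hnC)
  have hg0M : g0 ∉ M := fun h => hg0n (hMn1 g0 h)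
  have hMn : ∀ g ∈ P, (g ∈ M ↔ g * n = n * g) := by
    refine fun g hg => ⟨hMn1 g, fun h => ?_⟩
    by_contra hgM
    refine hg0n ?_
    have h1 := hMn1 _ (mul_mem_of_relIndex_two hMi hg0 hg0M hg hgM)
    calc g0 * n = g0 * (n * g) * g⁻¹ := by group
      _ = g0 * g * n * g⁻¹ := by rw [← h]; group
      _ = n * g0 := by rw [h1]; group
  -- the four group `U`
  set U := four n z hnn D.z2 hnz with hU
  have hZinv : ∀ x ∈ Z, x * x = 1 → x ∈ U := by
    have hz1U : z = z1 ∨ z = z1 * n := by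
      rcases D.Zt_cases D.z_mem_Zt with h | h
      · exact absurd h D.z_not_mem_C
      · have hc : z1 * z * (z1 * z) = 1 := by
          rw [show z1 * z * (z1 * z) = z1 * (z * z1) * z by group,
            ← D.z_comm (D.TS (D.RT D.z1R)), ← mul_assoc z1 z1 z, D.z12, one_mul, D.z2]
        rcases hCcases _ h with h' | h' | h' | h'
        · left; rw [← inv_eq_of_mul_eq_one_right h', inv_eq_of_mul_eq_one_right D.z12]
        · right; rw [← h', ← mul_assoc, D.z12, one_mul]
        · exact absurd (by rw [hn, ← h']; exact hc) hu2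
        · refine absurd ?_ hu2
          rw [h', show u * n * (u * n) = u * (n * u) * n by group,
            show n * u = u * n by rw [hn, mul_assoc], ← mul_assoc u u n, mul_assoc, hnn,
            mul_one] at hc
          exact hc
    intro x hx hx2
    rcases D.Zt_cases hx with h | h
    · rcases hCcases x h with h' | h' | h' | h'
      · exact mem_four.2 (Or.inl h')
      · exact mem_four.2 (Or.inr (Or.inl h'))
      · exact absurd (by rw [hn, ← h']; exact hx2) hu2
      · refine absurd ?_ hu2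
        rw [h', show u * n * (u * n) = u * (n * u) * n by group,
          show n * u = u * n by rw [hn, mul_assoc], ← mul_assoc u u n, mul_assoc, hnn,
          mul_one] at hx2
        exact hx2
    · have hxx : z1 * x * (z1 * x) = 1 := by
        rw [show z1 * x * (z1 * x) = z1 * (x * z1) * x by group,
          D.z1T x (D.RT hx.1), ← mul_assoc z1 z1 x, D.z12, one_mul, hx2]
      rcases hCcases _ h with h' | h' | h' | h'
      · have : x = z1 := by rw [← inv_eq_of_mul_eq_one_right h', inv_eq_of_mul_eq_one_right D.z12]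
        rw [this]
        rcases hz1U with h'' | h''
        · exact mem_four.2 (Or.inr (Or.inr (Or.inl h''.symm)))
        · refine mem_four.2 (Or.inr (Or.inr (Or.inr ?_)))
          rw [h'', ← D.z1T n (D.RT (D.CR hnC)), ← mul_assoc, hnn, one_mul]
      · have : x = z1 * n := by rw [← h', ← mul_assoc, D.z12, one_mul]
        rw [this]
        rcases hz1U with h'' | h''
        · refine mem_four.2 (Or.inr (Or.inr (Or.inr ?_)))
          rw [h'', D.z1T n (D.RT (D.CR hnC))]
        · exact mem_four.2 (Or.inr (Or.inr (Or.inl h''.symm)))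
      · exact absurd (by rw [hn, ← h']; exact hxx) hu2
      · refine absurd ?_ hu2
        rw [h', show u * n * (u * n) = u * (n * u) * n by group,
          show n * u = u * n by rw [hn, mul_assoc], ← mul_assoc u u n, mul_assoc, hnn,
          mul_one] at hxx
        exact hxx
  have hUZ : U ≤ Z := by
    intro a ha
    rcases mem_four.1 ha with rfl | rfl | rfl | rfl
    exacts [one_mem _, D.C_le_Zt hnC, D.z_mem_Zt, mul_mem (D.C_le_Zt hnC) D.z_mem_Zt]
  have hU2 : ∀ a ∈ U, a * a = 1 := by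
    intro a ha
    rcases mem_four.1 ha with rfl | rfl | rfl | rfl
    · simp
    · exact hnn
    · exact D.z2
    · rw [show n * z * (n * z) = n * (z * n) * z by group, ← hnz, ← mul_assoc n n z, hnn,
        one_mul, D.z2]
  have hconjM : ∀ g ∈ P, ∀ a ∈ M, g * a * g⁻¹ ∈ M := fun g hg a ha => D.cover_conj hC hg ha
  have hflip : ∀ g ∈ P, g ∉ M → g * n * g⁻¹ = n * z := by
    intro g hg hgM
    have hcen : ∀ t ∈ T, g * n * g⁻¹ * t = t * (g * n * g⁻¹) := by
      intro t ht
      have h1 := hconjM g⁻¹ (inv_mem hg) t (D.T_le_cover ht)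
      rw [inv_inv] at h1
      have h2 := conj_comm (g := g) (hMn1 _ h1)
      simpa [mul_assoc] using h2.symm
    have hmem := (D.central_iff (mul_mem (mul_mem hg hnP) (inv_mem hg))).1 hcen
    have hsq1 : g * n * g⁻¹ * (g * n * g⁻¹) = 1 := by
      rw [show g * n * g⁻¹ * (g * n * g⁻¹) = g * (n * n) * g⁻¹ by group, hnn]; simp
    rcases mem_four.1 (hZinv _ ⟨hmem.1, hmem.2⟩ hsq1) with h | h | h | h
    · exact absurd (conj_eq_one_iff.1 h) hu2
    · exact absurd ((hMn g hg).2 (mul_inv_eq_iff_eq_mul.1 h)) hgM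
    · exact absurd (isPGroup_cent_of_conj h D.isPGroup_centz) (D.not_isPGroup_centC hnC)
    · exact h
  have hUconj : ∀ g ∈ P, ∀ a ∈ U, g * a * g⁻¹ ∈ U := by
    intro g hg a ha
    have hgz : g * z * g⁻¹ = z := by rw [D.z_comm hg, mul_assoc, mul_inv_cancel, mul_one]
    have hgn : g * n * g⁻¹ ∈ U := by
      by_cases hgM : g ∈ M
      · rw [hMn1 g hgM, mul_inv_cancel_right]; exact mem_four.2 (by simp)
      · rw [hflip g hg hgM]; exact mem_four.2 (by simp)
    rcases mem_four.1 ha with rfl | rfl | rfl | rfl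
    · simp [one_mem]
    · exact hgn
    · rw [hgz]; exact mem_four.2 (by simp)
    · rw [show g * (n * z) * g⁻¹ = g * n * g⁻¹ * (g * z * g⁻¹) by group, hgz]
      exact mul_mem hgn (mem_four.2 (by simp))
  have hs2 : ∀ c ∈ C, s * (c * c) * s⁻¹ ∈ C := fun c hc => by
    rcases hCsq c hc with h | h <;> rw [h]
    · simp [one_mem]
    · rw [hsn]; exact hnC
  have hcardZ : Nat.card Z = 8 := by rw [D.card_Zt, hC]
  -- conjugates of `R` by elements outside `M` are not in `T`
  have hnotle : ∀ g ∈ P, g ∉ M → ¬ ∀ r ∈ R, g * r * g⁻¹ ∈ T := by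
    intro g hg hgM hall
    set B := R.map (MulAut.conj g).toMonoidHom with hB
    have hBT : B ≤ T := by rintro _ ⟨r, hr, rfl⟩; simpa using hall r hr
    have hsub : B ⊓ R ≤ Z := by
      rintro b ⟨hb, hbR⟩
      by_contra hbZ
      obtain ⟨r, hr, rfl⟩ := hb
      refine hgM (D.T_le_cover (D.normR g hg fun a ha => ?_))
      exact D.cent_eq (hall a ha) hbR hbZ (conj_comm (D.comm a ha r hr))
    have hle : R.relIndex B ≤ 2 := by
      rw [← D.relR]
      exact relIndex_le_of_le_right hBT (by rw [D.relR]; omega)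
    have h8 : 8 ≤ Nat.card ↥(B ⊓ R) := by
      have h1 := card_eq_mul_relIndex (inf_le_left : B ⊓ R ≤ B)
      rw [inf_relIndex_left, card_map_conj, D.cardR, hC] at h1
      nlinarith
    have heq : B ⊓ R = Z := Subgroup.eq_of_le_of_card_ge hsub (by omega)
    have huB : g⁻¹ * u * g ∈ R := mem_map_conj.1 (heq.ge (D.C_le_Zt hu)).1
    have e : g⁻¹ * u * g * (g⁻¹ * u * g) = g⁻¹ * n * g := by rw [hn]; group
    rcases hsq _ huB with h | h <;> rw [e] at h
    · refine hu2 ?_
      have := congrArg (fun a => g * a * g⁻¹) h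
      simpa [mul_assoc, hn] using this
    · refine hgM ((hMn g hg).2 ?_)
      have := congrArg (g * ·) h
      simpa [mul_assoc] using this.symm
  -- elements of `R ∖ Z` leave `T`
  have hout : ∀ g ∈ P, g ∉ M → ∀ a, a ∈ R ∨ a ∈ R' → a ∉ Z → g⁻¹ * a * g ∉ T := by
    have main : ∀ g ∈ P, g ∉ M → ∀ a ∈ R, a ∉ Z → g⁻¹ * a * g ∉ T := by
      intro g hg hgM a ha haZ ha0
      set a0 := g⁻¹ * a * g with hadef
      have hga : g * a0 * g⁻¹ = a := by rw [hadef]; group
      have hcl : ∀ t ∈ T, t * a0 = a0 * t → g * t * g⁻¹ ∈ R := by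
        intro t ht h
        refine D.cover_cent (hconjM g hg t (D.T_le_cover ht)) ha haZ ?_
        have := conj_comm (g := g) h
        rwa [hga] at this
      set B := R.map (MulAut.conj g⁻¹).toMonoidHom with hB
      have hBmem : ∀ t, g * t * g⁻¹ ∈ R → t ∈ B := fun t h => mem_map_conj.2 (by simpa using h)
      have hlt : Nat.card ↥(B ⊓ T) < 16 := by
        have hne : B ⊓ T ≠ B := by
          intro h
          refine hnotle g⁻¹ (inv_mem hg) (fun h' => hgM (inv_mem_iff.1 h')) fun r hr => ?_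
          exact (h.ge ⟨r, hr, rfl⟩).2
        have h1 : Nat.card B = 16 := by rw [hB, card_map_conj, D.cardR, hC]
        have h2 : ¬ Nat.card B ≤ Nat.card ↥(B ⊓ T) := fun h =>
          hne (Subgroup.eq_of_le_of_card_ge inf_le_left h)
        omega
      by_cases ha0Z : a0 ∈ Z
      · have hle : T ≤ B ⊓ T := fun t ht => ⟨hBmem t (hcl t ht (D.mem_Zt ha0Z t ht).symm), ht⟩
        have := Nat.le_of_dvd Nat.card_pos (card_dvd_of_le hle)
        rw [D.cardT, D.cardR, hC] at this
        omega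
      · have hZle : Z ≤ B ⊓ T := fun t ht => ⟨hBmem t (hcl t (D.RT ht.1)
          (D.mem_Zt ht a0 ha0)), D.RT ht.1⟩
        have h0 : a0 ∈ B ⊓ T := ⟨hBmem a0 (hga ▸ ha), ha0⟩
        have h1 := card_eq_mul_relIndex hZle
        rw [hcardZ] at h1
        have hne1 : Z.relIndex (B ⊓ T) ≠ 1 := fun h => ha0Z (relIndex_eq_one.1 h h0)
        have hne0 : Z.relIndex (B ⊓ T) ≠ 0 := fun h => by
          rw [h, mul_zero] at h1; exact Nat.card_pos.ne' h1
        omega
    intro g hg hgM a ha haZ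
    rcases ha with ha | ha
    · exact main g hg hgM a ha haZ
    · have h1 := main (s⁻¹ * g) (mul_mem (inv_mem D.hs) hg)
        (fun h => hgM (by simpa using mul_mem D.s_mem_cover h)) _ (mem_map_conj.1 ha)
        (fun h => haZ (by
          have := D.s_Zt h
          rwa [show s * (s⁻¹ * a * s) * s⁻¹ = a by group] at this))
      simpa [mul_assoc] using h1
  -- the centres are inside both
  have hZT : ∀ g ∈ P, g ∉ M → ∀ ζ ∈ Z, g⁻¹ * ζ * g ∈ T := by
    intro g hg hgM
    set T' := T.map (MulAut.conj g).toMonoidHom with hT'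
    have hT'M : T' ≤ M := by
      rintro _ ⟨t, ht, rfl⟩; simpa using hconjM g hg t (D.T_le_cover ht)
    have hi : T'.relIndex M = 2 := relIndex_eq_two_of_card hT'M (by
      rw [card_map_conj, D.cover_card hC, D.cardT, D.cardR, hC])
    have hle : T'.relIndex R ≤ 2 := by
      rw [← hi]
      exact relIndex_le_of_le_right (D.RT.trans D.T_le_cover) (by rw [hi]; omega)
    have hsub : R ⊓ T' ≤ Z := fun a ha => by
      by_contra haZ
      exact hout g hg hgM a (Or.inl ha.1) haZ (mem_map_conj.1 ha.2)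
    have h8 : 8 ≤ Nat.card ↥(R ⊓ T') := by
      have h1 := card_eq_mul_relIndex (inf_le_left : R ⊓ T' ≤ R)
      rw [inf_relIndex_left, D.cardR, hC] at h1
      nlinarith
    have heq : R ⊓ T' = Z := Subgroup.eq_of_le_of_card_ge hsub (by omega)
    exact fun ζ hζ => mem_map_conj.1 (heq.ge hζ).2
  have hsqR' : ∀ r ∈ R', r * r = 1 ∨ r * r = n := by
    rintro _ ⟨r, hr, rfl⟩
    show s * r * s⁻¹ * (s * r * s⁻¹) = 1 ∨ s * r * s⁻¹ * (s * r * s⁻¹) = n
    rw [show s * r * s⁻¹ * (s * r * s⁻¹) = s * (r * r) * s⁻¹ by group]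
    rcases hsq r hr with h | h <;> rw [h]
    · simp
    · exact Or.inr hsn
  -- involutions of `T`
  have hinvT : ∀ i ∈ T, i * i = 1 → i ∉ U → ∀ x ∈ P, x * i = i * x → x ∈ M ∧ x * x ≠ i := by
    intro i hi hi2 hiU x hx hxi
    have hiZ : i ∉ Z := fun h => hiU (hZinv i h hi2)
    have hiR := D.invol_mem hs2 hi hi2
    have hxM : x ∈ M := by
      by_contra hxM
      refine hout x hx hxM i hiR hiZ ?_
      rw [mul_assoc, ← hxi, inv_mul_cancel_left]
      exact hi
    refine ⟨hxM, fun h => hiU ?_⟩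
    have hx2 : x * x = 1 ∨ x * x = n := by
      rcases hiR with h' | h'
      · exact hsq x (D.cover_cent hxM h' hiZ hxi)
      · exact hsqR' x (D.cover_cent' hxM h' hiZ hxi)
    rcases hx2 with h' | h' <;> rw [h] at h' <;> rw [h'] <;> exact mem_four.2 (by simp)
  -- every involution of `M ∖ U` lies in `T` or in its conjugate
  have hshape : ∀ i ∈ M, i * i = 1 → i ∈ T ∨ g0⁻¹ * i * g0 ∈ T := by
    intro i hiM hi2
    by_contra! hcon
    have hg0' : g0⁻¹ ∈ P := inv_mem hg0
    have hg0M' : g0⁻¹ ∉ M := fun h => hg0M (inv_mem_iff.1 h)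
    set x := g0 * v * g0⁻¹ with hx
    have hvM : v ∈ M := D.T_le_cover (D.RT D.vR)
    have hxM : x ∈ M := hconjM g0 hg0 v hvM
    have hvZ := D.v_not_mem_Zt
    have hxT : x ∉ T := by
      have := hout g0⁻¹ hg0' hg0M' v (Or.inl D.vR) hvZ
      simpa [hx] using this
    have hix := mul_mem_of_relIndex_two D.relIndex_cover hiM hcon.1 hxM hxT
    set p := i * x * v with hp
    have hpT : p ∈ T := mul_mem hix (D.RT D.vR)
    have hi'M : g0⁻¹ * i * g0 ∈ M := by simpa using hconjM g0⁻¹ hg0' i hiM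
    have hv'M : g0⁻¹ * v * g0 ∈ M := by simpa using hconjM g0⁻¹ hg0' v hvM
    have hv'T := hout g0 hg0 hg0M v (Or.inl D.vR) hvZ
    have hiv : g0⁻¹ * i * g0 * v ∉ T := fun h => hcon.2 (by
      simpa using mul_mem h (inv_mem (D.RT D.vR)))
    have hp' : g0⁻¹ * p * g0 ∈ T := by
      have := mul_mem_of_relIndex_two D.relIndex_cover (mul_mem hi'M hvM) hiv hv'M hv'T
      simpa [hp, hx, mul_assoc] using this
    -- the element `w`
    set w := g0 * u * g0⁻¹ with hw
    have huZ : u ∈ Z := D.C_le_Zt hu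
    have hwT : w ∈ T := by simpa [hw] using hZT g0⁻¹ hg0' hg0M' u huZ
    have hwu : g0⁻¹ * w * g0 = u := by rw [hw]; group
    have hwZ : w ∉ Z := by
      intro h
      have e : w * w = n * z := by
        rw [← hflip g0 hg0 hg0M, hw, hn]; group
      rcases hsq w h.1 with h' | h' <;> rw [e] at h'
      · exact hzn (by rw [← inv_eq_of_mul_eq_one_right h', inv_eq_of_mul_eq_one_right hnn])
      · exact D.zne (by simpa using h')
    have hwR : w ∉ R := fun h => hout g0 hg0 hg0M w (Or.inl h) hwZ (hwu ▸ D.RT huZ.1)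
    -- work in `M / U`
    set U' := U.subgroupOf M
    have hU'n : U'.Normal := ⟨fun a ha g => hUconj g (hMP g.2) a ha⟩
    have hmk : ∀ a b : M, QuotientGroup.mk' U' a = QuotientGroup.mk' U' b ↔
        (a : G)⁻¹ * b ∈ U := by
      intro a b
      rw [QuotientGroup.mk'_apply, QuotientGroup.mk'_apply, QuotientGroup.eq]; rfl
    set π := QuotientGroup.mk' U'
    have hZcases : ∀ ζ ∈ Z, ζ ∈ U ∨ u⁻¹ * ζ ∈ U := by
      intro ζ hζ
      rcases hsq ζ hζ.1 with h | h
      · exact Or.inl (hZinv ζ hζ h)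
      · refine Or.inr (hZinv _ (mul_mem (inv_mem huZ) hζ) ?_)
        have h1 := D.comm _ hζ.1 _ (inv_mem (D.CR hu))
        rw [show u⁻¹ * ζ * (u⁻¹ * ζ) = u⁻¹ * (ζ * u⁻¹) * ζ by group, h1,
          show u⁻¹ * (u⁻¹ * ζ) * ζ = (u * u)⁻¹ * (ζ * ζ) by group, h, hn]
        group
    have hucen : ∀ a ∈ M, u⁻¹ * (a * u * a⁻¹) ∈ U := by
      intro a ha
      refine (hZcases _ (D.cover_Zt ha huZ)).resolve_left fun h => hu2 ?_
      have := hU2 _ h
      rw [show a * u * a⁻¹ * (a * u * a⁻¹) = a * (u * u) * a⁻¹ by group] at this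
      exact conj_eq_one_iff.1 this
    have hwcen : ∀ a ∈ M, w⁻¹ * (a * w * a⁻¹) ∈ U := by
      intro a ha
      have ha' : g0⁻¹ * a * g0 ∈ M := by simpa using hconjM g0⁻¹ hg0' a ha
      have := hUconj g0 hg0 _ (hucen _ ha')
      simpa [hw, mul_assoc] using this
    have hwM : w ∈ M := D.T_le_cover hwT
    have hcen : ∀ b : M, (∀ a ∈ M, (b : G)⁻¹ * (a * b * a⁻¹) ∈ U) →
        ∀ q : M ⧸ U', q * π b = π b * q := by
      intro b hb q
      obtain ⟨a, rfl⟩ := QuotientGroup.mk'_surjective U' q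
      show π a * π b = π b * π a
      rw [← map_mul, ← map_mul, eq_comm, hmk]
      have := hUconj _ (inv_mem (hMP a.2)) _ (hb a a.2)
      simpa [mul_assoc] using this
    have hpP : ∃ ζ ∈ Z, p = ζ * w⁻¹ ∨ p = ζ := by
      by_cases hpR : p ∈ R
      · refine ⟨p, ?_, Or.inr rfl⟩
        by_contra h
        exact hout g0 hg0 hg0M p (Or.inl hpR) h hp'
      · refine ⟨p * w, ?_, Or.inl (by group)⟩
        have h1 := mul_mem_of_relIndex_two D.relR hpT hpR hwT hwR
        by_contra h
        refine hout g0 hg0 hg0M _ (Or.inl h1) h ?_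
        have := mul_mem hp' (hwu ▸ D.RT huZ.1 : g0⁻¹ * w * g0 ∈ T)
        simpa [mul_assoc] using this
    obtain ⟨ζ, hζ, hpζ⟩ := hpP
    have hζM : ζ ∈ M := D.T_le_cover (D.RT hζ.1)
    have hζc : (∀ q : M ⧸ U', q * π ⟨ζ, hζM⟩ = π ⟨ζ, hζM⟩ * q) ∧
        π ⟨ζ, hζM⟩ * π ⟨ζ, hζM⟩ = 1 := by
      refine ⟨hcen ⟨ζ, hζM⟩ fun a ha => ?_, ?_⟩
      · rcases hZcases ζ hζ with h | h
        · exact mul_mem (inv_mem h) (hUconj a (hMP ha) ζ h)
        · have h1 := mul_mem (mul_mem (inv_mem h) (hucen a ha)) (hUconj a (hMP ha) _ h)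
          simpa [mul_assoc] using h1
      · rw [← map_mul, ← map_one π, hmk]
        rcases hsq ζ hζ.1 with h | h <;> simp [h, one_mem, mem_four, hU,
          inv_eq_of_mul_eq_one_right hnn]
    have hwc : (∀ q : M ⧸ U', q * π ⟨w, hwM⟩ = π ⟨w, hwM⟩ * q) ∧
        π ⟨w, hwM⟩ * π ⟨w, hwM⟩ = 1 := by
      refine ⟨hcen ⟨w, hwM⟩ hwcen, ?_⟩
      rw [← map_mul, ← map_one π, hmk]
      have : w * w ∈ U := by
        rw [hw, show g0 * u * g0⁻¹ * (g0 * u * g0⁻¹) = g0 * n * g0⁻¹ by rw [hn]; group]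
        exact hUconj g0 hg0 n (mem_four.2 (by simp))
      simpa using inv_mem this
    have hpM : p ∈ M := D.T_le_cover hpT
    have hpc : (∀ q : M ⧸ U', q * π ⟨p, hpM⟩ = π ⟨p, hpM⟩ * q) ∧
        π ⟨p, hpM⟩ * π ⟨p, hpM⟩ = 1 := by
      rcases hpζ with h | h
      · have e : π ⟨p, hpM⟩ = π ⟨ζ, hζM⟩ * π ⟨w, hwM⟩ := by
          rw [← inv_eq_of_mul_eq_one_right hwc.2, ← map_inv, ← map_mul]
          exact congrArg π (Subtype.ext h)
        rw [e]
        refine ⟨fun q => ?_, ?_⟩
        · rw [← mul_assoc, hζc.1, mul_assoc, hwc.1, ← mul_assoc]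
        · rw [mul_assoc, ← mul_assoc (π ⟨w, hwM⟩), ← hwc.1, mul_assoc, hwc.2, mul_one, hζc.2]
      · have e : (⟨p, hpM⟩ : M) = ⟨ζ, hζM⟩ := Subtype.ext h
        rw [e]; exact hζc
    set a := π ⟨v, hvM⟩ with ha
    set b := π ⟨x, hxM⟩ with hb
    have ha2 : a * a = 1 := by
      rw [ha, ← map_mul, ← map_one π]
      exact congrArg π (Subtype.ext D.v2)
    have hb2 : b * b = 1 := by
      rw [hb, ← map_mul, ← map_one π]
      refine congrArg π (Subtype.ext ?_)
      show x * x = 1
      rw [hx, show g0 * v * g0⁻¹ * (g0 * v * g0⁻¹) = g0 * (v * v) * g0⁻¹ by group, D.v2]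
      simp
    have hi_eq : π ⟨i, hiM⟩ = π ⟨p, hpM⟩ * a * b := by
      rw [ha, hb, ← map_mul, ← map_mul]
      refine congrArg π (Subtype.ext ?_)
      show i = p * v * x
      have hx1 : x * x = 1 := by
        rw [hx, show g0 * v * g0⁻¹ * (g0 * v * g0⁻¹) = g0 * (v * v) * g0⁻¹ by group, D.v2]
        simp
      rw [hp, mul_assoc (i * x) v v, D.v2, mul_one, mul_assoc, hx1, mul_one]
    have hsq' : a * b * (a * b) = 1 := by
      have h1 : π ⟨i, hiM⟩ * π ⟨i, hiM⟩ = 1 := by
        rw [← map_mul, ← map_one π]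
        exact congrArg π (Subtype.ext hi2)
      rw [hi_eq, mul_assoc (π ⟨p, hpM⟩) a b] at h1
      rwa [mul_assoc (π ⟨p, hpM⟩) (a * b), ← mul_assoc (a * b) (π ⟨p, hpM⟩) (a * b), hpc.1,
        ← mul_assoc (π ⟨p, hpM⟩), ← mul_assoc (π ⟨p, hpM⟩), hpc.2, one_mul] at h1
    have hcom : a * b = b * a := by
      rw [← inv_eq_of_mul_eq_one_right hsq', mul_inv_rev, inv_eq_of_mul_eq_one_right ha2,
        inv_eq_of_mul_eq_one_right hb2]
    rw [ha, hb, ← map_mul, ← map_mul, hmk] at hcom
    have h3 : v * (x * v * x⁻¹) ∈ U := by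
      have := hUconj x (hMP hxM) _ hcom
      simpa [mul_assoc, inv_eq_of_mul_eq_one_right D.v2] using this
    have h4 : x * v * x⁻¹ ∈ R := by
      have := mul_mem D.vR (hUZ h3).1
      rwa [← mul_assoc, D.v2, one_mul] at this
    have h5 := D.cover_Zt (inv_mem hxM)
      (show x * v * x⁻¹ ∈ Z from ⟨h4, D.cover_swap hxM hxT D.vR⟩)
    exact hvZ (by simpa [mul_assoc] using h5)
  have hFD : FinalData S z n M :=
    { centz := D.centz, z2 := D.z2, z1 := D.zne, n2 := hnn, n1 := hu2, nz := hzn, nS := hnP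
      centn := D.not_isPGroup_centC hnC, MS := hMP, Mi := hMi, Mn := hMn, flip := hflip
      big := by rw [D.cover_card hC]; omega
      inv := by
        intro i hiM hi2 hi1 hiz hin hinz x hx hxi
        have hiU : i ∉ U := fun h => by
          rcases mem_four.1 h with h | h | h | h
          exacts [hi1 h, hin h, hiz h, hinz h]
        rcases hshape i hiM hi2 with h | h
        · exact hinvT i h hi2 hiU x hx hxi
        · have hiU' : g0⁻¹ * i * g0 ∉ U := fun h' => hiU (by
            simpa [mul_assoc] using hUconj g0 hg0 _ h')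
          have hi2' : g0⁻¹ * i * g0 * (g0⁻¹ * i * g0) = 1 := by
            rw [show g0⁻¹ * i * g0 * (g0⁻¹ * i * g0) = g0⁻¹ * (i * i) * g0 by group, hi2]; simp
          have hx' : g0⁻¹ * x * g0 ∈ P := mul_mem (mul_mem (inv_mem hg0) hx) hg0
          have hxi' : g0⁻¹ * x * g0 * (g0⁻¹ * i * g0) = g0⁻¹ * i * g0 * (g0⁻¹ * x * g0) := by
            have := conj_comm (g := g0⁻¹) hxi
            simpa using this
          obtain ⟨h1, h2⟩ := hinvT _ h hi2' hiU' _ hx' hxi'
          refine ⟨?_, fun h' => h2 ?_⟩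
          · have := hconjM g0 hg0 _ h1
            simpa [mul_assoc] using this
          · rw [← h']; group }
  exact hFD.elim hna

end Core

end CfsgLib.Recog.ChainEight
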