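import Cfsg.Agent.S0348
import Cfsg.Agent.Lib.Classical.SLOrder
import Cfsg.Agent.Lib.Classical.PSLTwoPerm
import Mathlib.Algebra.CharP.Two

/-!
# Picking `PSL₂(127)` from the classification of CIT groups
-/

set_option autoImplicit false

namespace CfsgLib.Recog.ChainEight

open Matrix

/-- In characteristic two an element of `SL₂` of order dividing `64` squares to one. -/
theorem sl_two_sq_eq_one {F : Type*} [Field F] [CharP F 2]
    (g : Matrix.SpecialLinearGroup (Fin 2) F) (h : g ^ 64 = 1) : g * g = 1 := by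
  have htr : ∀ x : Matrix.SpecialLinearGroup (Fin 2) F,
      Matrix.trace ((x * x : Matrix.SpecialLinearGroup (Fin 2) F) : Matrix (Fin 2) (Fin 2) F) =
        Matrix.trace (x : Matrix (Fin 2) (Fin 2) F) ^ 2 := by
    intro x
    rw [Matrix.trace_fin_two, Matrix.trace_fin_two, Matrix.SpecialLinearGroup.coe_mul]
    simp only [Matrix.mul_apply, Fin.sum_univ_two]
    rw [CharTwo.add_sq, pow_two, pow_two]
    rw [mul_comm (x.1 1 0) (x.1 0 1)]
    have := CharTwo.add_self_eq_zero (x.1 0 1 * x.1 1 0)
    linear_combination this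
  have hpow : ∀ k : ℕ, Matrix.trace ((g ^ (2 ^ k) : Matrix.SpecialLinearGroup (Fin 2) F) :
      Matrix (Fin 2) (Fin 2) F) = Matrix.trace (g : Matrix (Fin 2) (Fin 2) F) ^ (2 ^ k) := by
    intro k
    induction k with
    | zero => simp
    | succ k ih => rw [pow_succ, pow_mul, pow_two, htr, ih, pow_mul]
  have hτ : Matrix.trace (g : Matrix (Fin 2) (Fin 2) F) = 0 := by
    have h6 := hpow 6
    rw [show (2 : ℕ) ^ 6 = 64 by norm_num, h, Matrix.SpecialLinearGroup.coe_one,
      Matrix.trace_fin_two] at h6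
    simp only [Matrix.one_apply_eq, CharTwo.add_self_eq_zero] at h6
    exact (pow_eq_zero_iff (by norm_num)).1 h6.symm
  rw [Matrix.trace_fin_two] at hτ
  have h11 : g.1 1 1 = g.1 0 0 := by
    rw [← add_left_cancel_iff (a := g.1 0 0), hτ, CharTwo.add_self_eq_zero]
  have hdet := g.2
  rw [Matrix.det_fin_two, h11] at hdet
  have h2 : (2 : F) = 0 := CharTwo.two_eq_zero
  apply Subtype.ext
  rw [Matrix.SpecialLinearGroup.coe_mul, Matrix.SpecialLinearGroup.coe_one]
  ext i j
  fin_cases i <;> fin_cases j <;>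
    simp [Matrix.mul_apply, Fin.sum_univ_two, h11]
  · linear_combination hdet + g.1 0 1 * g.1 1 0 * h2
  · linear_combination g.1 0 0 * g.1 0 1 * h2
  · linear_combination g.1 0 0 * g.1 1 0 * h2
  · linear_combination hdet + g.1 0 1 * g.1 1 0 * h2

theorem two_pow_mul_odd_inj {a b m n : ℕ} (hm : Odd m) (hn : Odd n) (h : 2 ^ a * m = 2 ^ b * n) :
    a = b := by
  have h1 : ∀ {a b m n : ℕ}, Odd n → 2 ^ a * m = 2 ^ b * n → a ≤ b := by
    intro a b m n hn h
    have hd : 2 ^ a ∣ 2 ^ b * n := ⟨m, h.symm⟩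
    have hc : Nat.Coprime (2 ^ a) n := Nat.Coprime.pow_left a (Nat.coprime_two_left.2 hn)
    exact (Nat.pow_dvd_pow_iff_le_right (by norm_num)).1 (hc.dvd_of_dvd_mul_right hd)
  exact le_antisymm (h1 hn h) (h1 hm h.symm)

/-- The CIT groups with Sylow `2`-subgroups of order `128` having an element of order `64`. -/
theorem recognise {G : Type*} [Group G] [Finite G] [IsSimpleGroup G]
    (hna : ∃ a b : G, a * b ≠ b * a)
    (hCIT : ∀ t : G, orderOf t = 2 → IsPGroup 2 (Subgroup.centralizer ({t} : Set G)))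
    (S : Sylow 2 G) (hS : Nat.card (S : Subgroup G) = 2 ^ 7) (a : G) (ha : orderOf a = 64) :
    ∃ (F : Type) (_ : Field F) (_ : Fintype F), Fintype.card F = 127 ∧
      Nonempty (G ≃* Matrix.ProjectiveSpecialLinearGroup (Fin 2) F) := by
  have : Fact (Nat.Prime 2) := ⟨Nat.prime_two⟩
  obtain ⟨m, hm, hcard⟩ : ∃ m, Odd m ∧ Nat.card G = 2 ^ 7 * m := by
    refine ⟨(S : Subgroup G).index, Nat.not_even_iff_odd.1 fun h =>
      S.not_dvd_index (even_iff_two_dvd.1 h), ?_⟩
    rw [← hS, Subgroup.card_mul_index]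
  rcases Cfsg.Agent.S0348.result hna hCIT with
    ⟨F, hF, hFt, hq, ⟨e⟩⟩ | ⟨F, hF, hFt, hq, ⟨e⟩⟩ | ⟨-, k, -, hk⟩
  · have hG := Nat.card_congr e.toEquiv
    have h := CfsgLib.Classical.card_psl_two_mul (F := F)
    rw [← hG, hcard] at h
    rcases hq with hq | ⟨n, hq⟩ | ⟨hp, k, hk⟩
    · rw [hq] at h
      norm_num at h
      omega
    · exfalso
      have hn1 : 1 ≤ n := by
        by_contra h0
        have := Fintype.one_lt_card (α := F)
        rw [hq, show n = 0 by omega] at this
        norm_num at this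
      obtain ⟨k, rfl⟩ : ∃ k, n = k + 1 := ⟨n - 1, by omega⟩
      rw [hq] at h
      have hg : Nat.gcd 2 (2 ^ (k + 1) - 1) = 1 := by
        refine Nat.coprime_two_left.2 ?_
        exact Nat.Even.sub_odd Nat.one_le_two_pow ⟨2 ^ k, by ring⟩ odd_one
      rw [hg, one_mul] at h
      have hodd : Odd ((2 ^ (k + 1)) ^ 2 - 1) :=
        Nat.Even.sub_odd (Nat.one_le_pow _ _ (by positivity))
          (Even.pow_of_ne_zero ⟨2 ^ k, by ring⟩ two_ne_zero) odd_one
      have hn7 := two_pow_mul_odd_inj hm hodd h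
      -- an element of order 64 is impossible in characteristic two
      obtain ⟨p, hp⟩ := CharP.exists F
      obtain ⟨j, hpp, hj⟩ := FiniteField.card F p
      have : p = 2 := by
        have h1 : p ∣ 2 ^ (k + 1) := hq ▸ hj ▸ dvd_pow_self p j.pos.ne'
        exact (Nat.prime_dvd_prime_iff_eq hpp Nat.prime_two).1 (hpp.dvd_of_dvd_pow h1)
      subst this
      obtain ⟨g, hg'⟩ := QuotientGroup.mk'_surjective
        (Subgroup.center (Matrix.SpecialLinearGroup (Fin 2) F)) (e a)
      have hcen : Subgroup.center (Matrix.SpecialLinearGroup (Fin 2) F) = ⊥ := by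
        rw [← Subgroup.card_eq_one, CfsgLib.Classical.card_center_sl, Fintype.card_fin, hq, hg]
      have h64 : g ^ 64 = 1 := by
        rw [← Subgroup.mem_bot, ← hcen]
        apply (QuotientGroup.eq_one_iff _).1
        rw [← QuotientGroup.mk'_apply, map_pow, hg', ← map_pow, ← ha, pow_orderOf_eq_one,
          map_one]
      have h2 := congrArg (QuotientGroup.mk'
        (Subgroup.center (Matrix.SpecialLinearGroup (Fin 2) F))) (sl_two_sq_eq_one g h64)
      rw [map_mul, map_one, hg', ← map_mul, map_eq_one_iff _ e.injective, ← pow_two] at h2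
      have := Nat.le_of_dvd two_pos (orderOf_dvd_of_pow_eq_one h2)
      omega
    · refine ⟨F, hF, hFt, ?_, ⟨e⟩⟩
      rcases hk with hk | hk
      · exfalso
        rw [hk] at hp h
        match k, hp, h with
        | 0, _, h => norm_num at h; omega
        | 1, _, h => norm_num at h; omega
        | j + 2, hp, h =>
          have hg : Nat.gcd 2 (2 ^ (j + 2) + 1 - 1) = 2 := by
            rw [Nat.add_sub_cancel]
            exact Nat.gcd_eq_left (dvd_pow_self 2 (by omega))
          rw [hg] at h
          have hsq : (2 ^ (j + 2) + 1) ^ 2 - 1 = 2 ^ (j + 3) * (2 ^ (j + 1) + 1) := by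
            rw [Nat.sub_eq_iff_eq_add (Nat.one_le_pow _ _ (by positivity))]; ring
          rw [hsq, ← mul_assoc, ← pow_succ', mul_left_comm] at h
          have hodd : Odd ((2 ^ (j + 2) + 1) * (2 ^ (j + 1) + 1)) :=
            (Even.add_one (⟨2 ^ (j + 1), by ring⟩ : Even (2 ^ (j + 2)))).mul
              (Even.add_one (⟨2 ^ j, by ring⟩ : Even (2 ^ (j + 1))))
          have hj := two_pow_mul_odd_inj hm hodd h
          obtain rfl : j = 5 := by omega
          norm_num at hp
      · match k, hk with
        | 0, hk => simp at hk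
        | 1, hk => simp at hk; exact absurd (hk ▸ hp) Nat.not_prime_one
        | j + 2, hk =>
          have hcardF : Fintype.card F = 2 ^ (j + 2) - 1 := by omega
          have h4 : 4 ≤ 2 ^ (j + 2) := by
            calc 4 = 2 ^ 2 := by norm_num
              _ ≤ _ := Nat.pow_le_pow_right two_pos (by omega)
          have hg : Nat.gcd 2 (Fintype.card F - 1) = 2 := by
            refine Nat.gcd_eq_left ?_
            have : 2 ^ (j + 2) = 4 * 2 ^ j := by ring
            omega
          rw [hg] at h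
          have hsq : Fintype.card F ^ 2 - 1 = 2 ^ (j + 3) * (2 ^ (j + 1) - 1) := by
            obtain ⟨w, hw⟩ : ∃ w, 2 ^ (j + 1) = w + 1 :=
              ⟨2 ^ (j + 1) - 1, by have := Nat.one_le_two_pow (n := j + 1); omega⟩
            have e2 : 2 ^ (j + 3) = 4 * (w + 1) := by rw [← hw]; ring
            have e1 : Fintype.card F = 2 * w + 1 := by
              have : 2 ^ (j + 2) = 2 * (w + 1) := by rw [← hw]; ring
              omega
            rw [e1, e2, hw, Nat.add_sub_cancel,
              Nat.sub_eq_iff_eq_add (Nat.one_le_pow _ _ (by omega))]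
            ring
          rw [hsq, ← mul_assoc, ← pow_succ', mul_left_comm] at h
          have hodd : Odd (Fintype.card F * (2 ^ (j + 1) - 1)) := by
            refine Odd.mul ?_ (Nat.Even.sub_odd Nat.one_le_two_pow ⟨2 ^ j, by ring⟩ odd_one)
            rw [hcardF]
            exact Nat.Even.sub_odd Nat.one_le_two_pow ⟨2 ^ (j + 1), by ring⟩ odd_one
          have hj := two_pow_mul_odd_inj hm hodd h
          obtain rfl : j = 5 := by omega
          rw [hcardF]; norm_num
  · exfalso
    have h := CfsgLib.Classical.card_psl_mul (F := F) (n := 3) (by norm_num)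
    rw [hq, ← Nat.card_congr e.toEquiv, hcard] at h
    simp only [Fin.prod_univ_three] at h
    norm_num at h
    omega
  · exfalso
    rw [hcard, ← pow_mul, mul_assoc] at hk
    have hodd : Odd (((2 ^ ((2 * k + 1) * 2)) + 1) * (2 ^ (2 * k + 1) - 1)) := by
      refine Odd.mul (Even.add_one ⟨2 ^ ((2 * k + 1) * 2 - 1), ?_⟩)
        (Nat.Even.sub_odd Nat.one_le_two_pow ⟨2 ^ (2 * k), by ring⟩ odd_one)
      rw [show (2 * k + 1) * 2 = (2 * k + 1) * 2 - 1 + 1 by omega, pow_succ]
      simp [mul_two]
    have := two_pow_mul_odd_inj hm hodd hk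
    omega

end CfsgLib.Recog.ChainEight
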