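import Cfsg.Agent.Lib.Recog.ChainEight.Common
import Cfsg.Agent.Lib.Recog.ChainEight.Recognise
import Cfsg.Agent.Lib.Transfer.Thompson
import Cfsg.Agent.S0112
import Cfsg.Agent.S0113
import Mathlib.GroupTheory.SpecificGroups.Cyclic

/-!
# The amalgam case with trivial kernel: maximal class
-/

set_option autoImplicit false
set_option linter.unusedSectionVars false
set_option maxHeartbeats 800000

namespace CfsgLib.Recog.ChainEight

open Subgroup

variable {G : Type*} [Group G] [Finite G]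

/-- In a cyclic group there is at most one involution. -/
theorem cyclic_involution_unique {H : Type*} [Group H] [Finite H] [IsCyclic H] {a b : H}
    (ha : a * a = 1) (hb : b * b = 1) (ha1 : a ≠ 1) (hb1 : b ≠ 1) : a = b := by
  classical
  let _ := Fintype.ofFinite H
  by_contra hab
  have h := IsCyclic.card_pow_eq_one_le (α := H) (n := 2) two_pos
  have hsub : ({1, a, b} : Finset H) ⊆ Finset.univ.filter fun x => x ^ 2 = 1 := by
    intro x hx
    simp only [Finset.mem_insert, Finset.mem_singleton] at hx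
    rw [Finset.mem_filter]
    refine ⟨Finset.mem_univ _, ?_⟩
    rcases hx with rfl | rfl | rfl
    · simp
    · rw [pow_two, ha]
    · rw [pow_two, hb]
  have h3 : ({1, a, b} : Finset H).card = 3 :=
    Finset.card_eq_three.2 ⟨1, a, b, ha1.symm, hb1.symm, hab, rfl⟩
  have := Finset.card_le_card hsub
  omega

namespace Core

variable {S : Sylow 2 G} {z : G} {R T C : Subgroup G} {s y z1 v : G}

theorem cit_of_one [IsSimpleGroup G] (hna : ∃ a b : G, a * b ≠ b * a)
    (D : Core S z R T C s y z1 v) (hC : Nat.card C = 1)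
    (hconj : ∀ r ∈ R, r ≠ 1 → ∃ g : G, g * r * g⁻¹ = z) :
    ∃ (F : Type) (_ : Field F) (_ : Fintype F), Fintype.card F = 127 ∧
      Nonempty (G ≃* Matrix.ProjectiveSpecialLinearGroup (Fin 2) F) := by
  classical
  have : Fact (Nat.Prime 2) := ⟨Nat.prime_two⟩
  set P : Subgroup G := (S : Subgroup G) with hP
  have hR2 : ∀ r ∈ R, r * r = 1 := fun r hr => by
    obtain ⟨c, hc, h⟩ := D.sqC r hr
    rw [Subgroup.card_eq_one.1 hC, mem_bot] at hc
    rw [h, hc, mul_one]
  have hRP : R ≤ P := D.RT.trans D.TS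
  have hcardR : Nat.card (R.subgroupOf P) = 2 ^ 2 := by
    rw [Nat.card_congr (subgroupOfEquivOfLe hRP).toEquiv, D.cardR, hC]; norm_num
  have hcent : centralizer ((R.subgroupOf P : Subgroup P) : Set P) = R.subgroupOf P := by
    refine le_antisymm (fun q hq => ?_) fun q hq => ?_
    · refine mem_subgroupOf.2 (D.self q q.2 fun r hr => ?_)
      exact (congrArg Subtype.val (mem_centralizer_iff.1 hq ⟨r, hRP hr⟩ hr)).symm
    · rw [mem_centralizer_iff]
      exact fun a ha => Subtype.ext (D.comm _ ha _ hq)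
  have hclass := Cfsg.Agent.S0112.result 7 D.cardS (R.subgroupOf P) hcardR hcent
  obtain ⟨A', hA'c, hA'i⟩ := Cfsg.Agent.S0113.result 7 (by norm_num) D.cardS hclass
  obtain ⟨a', ha'⟩ := hA'c.exists_generator
  set A : Subgroup G := A'.map P.subtype with hA
  have hAP : A ≤ P := Subgroup.map_subtype_le A'
  have hAcard' : Nat.card A' = 64 := by
    have := card_mul_index A'
    rw [hA'i, D.cardS] at this
    omega
  have hAcard : Nat.card A = 64 := by
    rw [hA, Subgroup.card_map_of_injective (subtype_injective P), hAcard']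
  have hAi : A.relIndex P = 2 :=
    relIndex_eq_two_of_card hAP (by rw [hAcard, D.cardS]; norm_num)
  have hAn : ∀ g ∈ P, ∀ x ∈ A, g * x * g⁻¹ ∈ A := by
    intro g hg x hx
    have : (A.subgroupOf P).Normal := normal_of_index_eq_two hAi
    exact this.conj_mem ⟨x, hAP hx⟩ hx ⟨g, hg⟩
  have hAuniq : ∀ x ∈ A, ∀ x' ∈ A, x * x = 1 → x' * x' = 1 → x ≠ 1 → x' ≠ 1 → x = x' := by
    rintro _ ⟨x, hx, rfl⟩ _ ⟨x', hx', rfl⟩ h h' h1 h1'
    have := hA'c
    have := cyclic_involution_unique (H := A') (a := ⟨x, hx⟩) (b := ⟨x', hx'⟩)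
      (Subtype.ext (Subtype.ext h)) (Subtype.ext (Subtype.ext h'))
      (fun e => h1 (congrArg (fun t : A' => ((t : P) : G)) e))
      (fun e => h1' (congrArg (fun t : A' => ((t : P) : G)) e))
    exact congrArg (fun t : A' => ((t : P) : G)) this
  have hAcomm : ∀ x ∈ A, ∀ x' ∈ A, x * x' = x' * x := by
    rintro _ ⟨x, hx, rfl⟩ _ ⟨x', hx', rfl⟩
    have := hA'c.isMulCommutative.is_comm.comm ⟨x, hx⟩ ⟨x', hx'⟩
    exact congrArg (fun t : A' => ((t : P) : G)) this
  have hAcen : ∀ x ∈ A, x * x = 1 → ∀ g ∈ P, g * x = x * g := by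
    intro x hx hx2 g hg
    rcases eq_or_ne x 1 with rfl | hx1
    · simp
    refine mul_inv_eq_iff_eq_mul.1 (hAuniq _ (hAn g hg x hx) x hx ?_ hx2 ?_ hx1)
    · rw [show g * x * g⁻¹ * (g * x * g⁻¹) = g * (x * x) * g⁻¹ by group, hx2]; simp
    · exact fun h => hx1 (conj_eq_one_iff.1 h)
  have hnotcen : ¬ ∀ g ∈ P, ∀ r ∈ R, g * r = r * g := by
    intro h
    have hle : P ≤ R := fun g hg => D.self g hg (h g hg)
    have := Nat.le_of_dvd Nat.card_pos (card_dvd_of_le hle)
    rw [D.cardR, hC, D.cardS] at this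
    omega
  -- every element of `R` is a product of `z` and an element of `R ∖ ⟨z⟩`
  have hR4 : ∀ r ∈ R, r ≠ 1 → r ≠ z → ∀ r' ∈ R,
      r' = 1 ∨ r' = z ∨ r' = r ∨ r' = z * r := by
    intro r hr hr1 hrz r' hr'
    set F := four z r D.z2 (hR2 r hr) (D.comm z D.zR r hr) with hF
    have hle : F ≤ R := by
      intro t ht
      rcases mem_four.1 ht with rfl | rfl | rfl | rfl
      exacts [one_mem _, D.zR, hr, mul_mem D.zR hr]
    have hFcard : 4 ≤ Nat.card F := by
      have hne1 : z * r ≠ 1 := fun h => hrz (by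
        rw [← inv_eq_of_mul_eq_one_right h, inv_eq_of_mul_eq_one_right D.z2])
      have h4 : ({1, z, r, z * r} : Finset G).card = 4 := by
        rw [Finset.card_insert_of_notMem (by simp [D.zne.symm, hr1.symm, hne1.symm]),
          Finset.card_insert_of_notMem (by simp [hrz.symm, hr1]),
          Finset.card_insert_of_notMem (by simp [D.zne]), Finset.card_singleton]
      rw [← SetLike.coe_sort_coe, Nat.card_coe_set_eq, ← h4, ← Set.ncard_coe_finset]
      refine Set.ncard_le_ncard (fun t ht => ?_) (Set.toFinite _)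
      simp only [Finset.coe_insert, Finset.coe_singleton, Set.mem_insert_iff,
        Set.mem_singleton_iff] at ht
      exact mem_four.2 ht
    have heq : F = R := Subgroup.eq_of_le_of_card_ge hle (by rw [D.cardR, hC]; omega)
    exact mem_four.1 (heq.ge hr')
  obtain ⟨r0, hr0, hr01, hr0z⟩ : ∃ r ∈ R, r ≠ 1 ∧ r ≠ z := by
    by_contra! h
    exact hnotcen fun g hg r hr => by
      rcases eq_or_ne r 1 with rfl | h1
      · simp
      · rw [h r hr h1]; exact D.z_comm hg
  have hzA : z ∈ A := by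
    by_contra hzA
    refine hnotcen ?_
    have hcz : ∀ r ∈ R, r ≠ 1 → r ≠ z → r ∈ A → False := by
      intro r hr hr1 hrz hrA
      refine hnotcen fun g hg r' hr' => ?_
      rcases hR4 r hr hr1 hrz r' hr' with rfl | rfl | rfl | rfl
      · simp
      · exact D.z_comm hg
      · exact hAcen _ hrA (hR2 _ hr) g hg
      · rw [← mul_assoc, D.z_comm hg, mul_assoc, hAcen _ hrA (hR2 _ hr) g hg, ← mul_assoc]
    exfalso
    by_cases hr0A : r0 ∈ A
    · exact hcz r0 hr0 hr01 hr0z hr0A
    · refine hcz (z * r0) (mul_mem D.zR hr0) (fun h => hr0z ?_) (fun h => hr01 ?_)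
        (mul_mem_of_relIndex_two hAi (hRP D.zR) hzA (hRP hr0) hr0A)
      · rw [← inv_eq_of_mul_eq_one_right h, inv_eq_of_mul_eq_one_right D.z2]
      · simpa using h
  obtain ⟨b, hbR, hbA⟩ : ∃ b ∈ R, b ∉ A := by
    by_contra! h
    exact hr0z (hAuniq r0 (h r0 hr0) z hzA (hR2 r0 hr0) D.z2 hr01 D.zne)
  have hb1 : b ≠ 1 := fun h => hbA (h ▸ one_mem _)
  have hbz : b ≠ z := fun h => hbA (h ▸ hzA)
  have hb2 : b * b = 1 := hR2 b hbR
  obtain ⟨g1, hg1⟩ := hconj b hbR hb1
  -- the commutators with `b`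
  let ψ : A →* A :=
    { toFun := fun u => ⟨b * u * b⁻¹ * (u : G)⁻¹,
        mul_mem (hAn b (hRP hbR) u u.2) (inv_mem u.2)⟩
      map_one' := Subtype.ext (by simp)
      map_mul' := fun u w => Subtype.ext (by
        show b * ((u : G) * w) * b⁻¹ * ((u : G) * w)⁻¹ =
          b * u * b⁻¹ * (u : G)⁻¹ * (b * w * b⁻¹ * (w : G)⁻¹)
        have h1 := hAcomm (u : G)⁻¹ (inv_mem u.2) _
          (mul_mem (hAn b (hRP hbR) w w.2) (inv_mem w.2))
        rw [mul_assoc (b * (u : G) * b⁻¹) (u : G)⁻¹, h1]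
        group) }
  set I : Subgroup G := ψ.range.map A.subtype with hI
  have hImem : ∀ x, x ∈ I ↔ ∃ u ∈ A, b * u * b⁻¹ * u⁻¹ = x := by
    intro x
    constructor
    · rintro ⟨_, ⟨u, rfl⟩, rfl⟩
      exact ⟨u, u.2, rfl⟩
    · rintro ⟨u, hu, rfl⟩
      exact ⟨ψ ⟨u, hu⟩, ⟨⟨u, hu⟩, rfl⟩, rfl⟩
  have hIA : I ≤ A := Subgroup.map_subtype_le _
  have hker : Nat.card ψ.ker ≤ 2 := by
    have hsub : ∀ u : A, u ∈ ψ.ker → (u : G) = 1 ∨ (u : G) = z := by
      intro u hu
      have h : b * (u : G) * b⁻¹ * (u : G)⁻¹ = 1 := congrArg Subtype.val (MonoidHom.mem_ker.1 hu)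
      have hbu : b * (u : G) = u * b := mul_inv_eq_iff_eq_mul.1 (mul_inv_eq_one.1 h)
      have huR : (u : G) ∈ R := by
        refine D.self u (hAP u.2) fun r hr => ?_
        rcases hR4 b hbR hb1 hbz r hr with rfl | rfl | rfl | rfl
        · simp
        · exact D.z_comm (hAP u.2)
        · exact hbu.symm
        · rw [← mul_assoc, D.z_comm (hAP u.2), mul_assoc, ← hbu, ← mul_assoc]
      rcases hR4 b hbR hb1 hbz _ huR with h1 | h1 | h1 | h1
      · exact Or.inl h1
      · exact Or.inr h1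
      · exact absurd (h1 ▸ u.2) hbA
      · exfalso
        have := mul_mem hzA u.2
        rw [h1, ← mul_assoc, D.z2, one_mul] at this
        exact hbA this
    rw [← SetLike.coe_sort_coe, Nat.card_coe_set_eq]
    refine (Set.ncard_le_ncard (t := (({1, ⟨z, hzA⟩} : Finset A) : Set A)) ?_).trans ?_
    · intro u hu
      rcases hsub u hu with h | h
      · simp [Subtype.ext_iff, h]
      · simp [Subtype.ext_iff, h]
    · rw [Set.ncard_coe_finset]; exact Finset.card_le_two
  have hker' : Nat.card ψ.ker = 2 := by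
    have hz : (⟨z, hzA⟩ : A) ∈ ψ.ker := by
      refine MonoidHom.mem_ker.2 (Subtype.ext ?_)
      show b * z * b⁻¹ * z⁻¹ = 1
      rw [D.z_comm (hRP hbR), mul_inv_cancel_right, mul_inv_cancel]
    have : Nontrivial ψ.ker := ⟨⟨⟨z, hzA⟩, hz⟩, 1, fun h => D.zne
      (congrArg (fun t : ψ.ker => ((t : A) : G)) h)⟩
    have := Finite.one_lt_card (α := ψ.ker)
    omega
  have hIcard : Nat.card I = 32 := by
    rw [hI, Subgroup.card_map_of_injective (subtype_injective A)]
    have h1 := Subgroup.card_mul_index ψ.ker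
    rw [Subgroup.index_ker, hker', hAcard] at h1
    omega
  have hIi : I.relIndex A = 2 := relIndex_eq_two_of_card hIA (by rw [hIcard, hAcard])
  have hIb : ∀ x ∈ I, b * x * b⁻¹ ∈ I := by
    intro x hx
    obtain ⟨u, hu, rfl⟩ := (hImem x).1 hx
    refine (hImem _).2 ⟨b * u * b⁻¹, hAn b (hRP hbR) u hu, ?_⟩
    group
  -- the subgroup of index two used in the transfer
  let Q : Subgroup G :=
    { carrier := {g | g ∈ I ∨ b * g ∈ I}
      one_mem' := Or.inl (one_mem _)
      mul_mem' := by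
        rintro p q (hp | hp) (hq | hq)
        · exact Or.inl (mul_mem hp hq)
        · refine Or.inr ?_
          have := mul_mem (hIb p hp) hq
          simpa [mul_assoc] using this
        · refine Or.inr ?_
          have := mul_mem hp hq
          simpa [mul_assoc] using this
        · refine Or.inl ?_
          have := mul_mem (hIb _ hp) hq
          have e : b * (b * p) * b⁻¹ * (b * q) = b * b * p * q := by group
          rw [e, hb2, one_mul] at this
          exact this
      inv_mem' := by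
        rintro p (hp | hp)
        · exact Or.inl (inv_mem hp)
        · refine Or.inr ?_
          have := hIb _ (inv_mem hp)
          simpa [mul_assoc, inv_eq_of_mul_eq_one_right hb2, hb2] using this }
  have hbinv : b⁻¹ = b := inv_eq_of_mul_eq_one_right hb2
  have hQP : Q ≤ P := by
    rintro g (hg | hg)
    · exact hAP (hIA hg)
    · have := mul_mem (hRP hbR) (hAP (hIA hg))
      rwa [← mul_assoc, hb2, one_mul] at this
  obtain ⟨a0, ha0, ha0I⟩ : ∃ a0 ∈ A, a0 ∉ I := by
    by_contra! h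
    have := relIndex_eq_one.2 h
    omega
  have hQi : Q.relIndex P = 2 := by
    rw [relIndex, index_eq_two_iff]
    refine ⟨⟨a0, hAP ha0⟩, fun g => ?_⟩
    have hba0 : b * a0 ∉ I := fun h => hbA (by
      simpa using mul_mem (hIA h) (inv_mem ha0))
    by_cases hgA : (g : G) ∈ A
    · have hbg : ∀ x ∈ A, b * x ∉ I := fun x hx h => hbA (by
        simpa using mul_mem (hIA h) (inv_mem hx))
      have h1 : (g : G) * a0 ∈ Q ↔ (g : G) * a0 ∈ I :=
        ⟨fun h => h.resolve_right (hbg _ (mul_mem hgA ha0)), Or.inl⟩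
      have h2 : (g : G) ∈ Q ↔ (g : G) ∈ I := ⟨fun h => h.resolve_right (hbg _ hgA), Or.inl⟩
      show Xor ((g : G) * a0 ∈ Q) ((g : G) ∈ Q)
      rw [h1, h2]
      by_cases hgI : (g : G) ∈ I
      · exact Or.inr ⟨hgI, fun h => ha0I (by simpa using mul_mem (inv_mem hgI) h)⟩
      · exact Or.inl ⟨mul_mem_of_relIndex_two hIi hgA hgI ha0 ha0I, hgI⟩
    · have hbg : b * (g : G) ∈ A := mul_mem_of_relIndex_two hAi (hRP hbR) hbA g.2 hgA
      have hga : (g : G) * a0 ∉ A := fun h => hgA (by simpa using mul_mem h (inv_mem ha0))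
      have h1 : (g : G) * a0 ∈ Q ↔ b * (g : G) * a0 ∈ I :=
        ⟨fun h => by
          have := h.resolve_left (fun h => hga (hIA h))
          rwa [← mul_assoc] at this,
          fun h => Or.inr (by rwa [← mul_assoc])⟩
      have h2 : (g : G) ∈ Q ↔ b * (g : G) ∈ I :=
        ⟨fun h => h.resolve_left (fun h => hgA (hIA h)), Or.inr⟩
      show Xor ((g : G) * a0 ∈ Q) ((g : G) ∈ Q)
      rw [h1, h2]
      by_cases hgI : b * (g : G) ∈ I
      · exact Or.inr ⟨hgI, fun h => ha0I (by simpa [mul_assoc] using mul_mem (inv_mem hgI) h)⟩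
      · exact Or.inl ⟨mul_mem_of_relIndex_two hIi hbg hgI ha0 ha0I, hgI⟩
  have hQinv : ∀ x ∈ Q, x * x = 1 → x ≠ 1 → ∃ g : G, g * x * g⁻¹ = z := by
    rintro x (hx | hx) hx2 hx1
    · exact ⟨1, by rw [hAuniq x (hIA hx) z hzA hx2 D.z2 hx1 D.zne]; simp⟩
    · obtain ⟨u, -, hu⟩ := (hImem _).1 hx
      have hxe : x = u * b * u⁻¹ := by
        have h1 : b * (b * x) = b * (b * u * b⁻¹ * u⁻¹) := by rw [hu]
        rw [← mul_assoc, hb2, one_mul, hbinv] at h1
        rw [h1, show b * (b * u * b * u⁻¹) = b * b * (u * b * u⁻¹) by group, hb2, one_mul]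
      refine ⟨g1 * u⁻¹, ?_⟩
      rw [hxe, ← hg1]; group
  have hinv : ∀ x ∈ P, x * x = 1 → x ≠ 1 → ∃ g : G, g * x * g⁻¹ = z := by
    intro x hx hx2 hx1
    rcases CfsgLib.Transfer.thompson_transfer_involution S hQP hQi
      (by rw [pow_two, hx2]) hx with ⟨N, hN, hN2, hxN⟩ | ⟨g, hg⟩
    · exfalso
      rcases IsSimpleGroup.eq_bot_or_eq_top_of_normal N hN with h | h
      · have hG := Subgroup.card_mul_index N
        rw [hN2, h, card_bot] at hG
        have h128 := Subgroup.card_le_card_group P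
        rw [D.cardS] at h128
        omega
      · exact hxN (h ▸ mem_top x)
    · obtain ⟨h, hh⟩ := hQinv _ hg
        (by rw [show g * x * g⁻¹ * (g * x * g⁻¹) = g * (x * x) * g⁻¹ by group, hx2]; simp)
        (fun h => hx1 (conj_eq_one_iff.1 h))
      exact ⟨h * g, by rw [← hh]; group⟩
  have hCIT : ∀ t : G, orderOf t = 2 → IsPGroup 2 (centralizer ({t} : Set G)) := by
    intro t ht
    have htp : IsPGroup 2 (zpowers t) :=
      IsPGroup.of_card (n := 1) (by rw [Nat.card_zpowers, ht, pow_one])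
    obtain ⟨S', hS'⟩ := htp.exists_le_sylow
    obtain ⟨g, hg⟩ := MulAction.exists_smul_eq G S S'
    have htS : g⁻¹ * t * g ∈ P := by
      have h1 := hS' (mem_zpowers t)
      rw [← hg] at h1
      exact CfsgLib.Transfer.sylow_smul_mem_iff.1 h1
    have ht2 : t * t = 1 := by rw [← pow_two, ← ht, pow_orderOf_eq_one]
    have ht1 : t ≠ 1 := fun h => by rw [h, orderOf_one] at ht; omega
    obtain ⟨h, hh⟩ := hinv _ htS
      (by rw [show g⁻¹ * t * g * (g⁻¹ * t * g) = g⁻¹ * (t * t) * g by group, ht2]; simp)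
      (fun e => ht1 (by
        have := congrArg (fun w => g * w * g⁻¹) e
        simpa [mul_assoc] using this))
    exact isPGroup_cent_of_conj (g := h * g⁻¹) (by rw [← hh]; group) D.isPGroup_centz
  refine recognise hna hCIT S D.cardS ((a' : P) : G) ?_
  rw [Subgroup.orderOf_coe, Subgroup.orderOf_coe, orderOf_eq_card_of_forall_mem_zpowers ha',
    hAcard']

end Core

end CfsgLib.Recog.ChainEight
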