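import Cfsg.Agent.Lib.Recog.ChainEight.Common
import Cfsg.Agent.Lib.Recog.ChainEight.Final
import Cfsg.Agent.S0112
import Cfsg.Agent.S0113
import Mathlib.GroupTheory.SpecificGroups.Cyclic

/-!
# The amalgam case with a kernel of order two
-/

set_option autoImplicit false
set_option linter.unusedSectionVars false
set_option maxHeartbeats 800000

namespace CfsgLib.Recog.ChainEight

open Subgroup

variable {G : Type*} [Group G] [Finite G]

/-- In a cyclic group there is at most one involution. -/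
theorem involution_unique {H : Type*} [Group H] [Finite H] [IsCyclic H] {a b : H}
    (ha : a * a = 1) (hb : b * b = 1) (ha1 : a ≠ 1) (hb1 : b ≠ 1) : a = b := by
  classical
  let _ := Fintype.ofFinite H
  by_contra hab
  have h := IsCyclic.card_pow_eq_one_le (α := H) (n := 2) two_pos
  have hsub : ({1, a, b} : Finset H) ⊆ Finset.univ.filter fun x => x ^ 2 = 1 := by
    intro x hx
    simp only [Finset.mem_insert, Finset.mem_singleton] at hx
    rw [Finset.mem_filter]
    refine ⟨Finset.mem_univ _, ?_⟩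
    rcases hx with rfl | rfl | rfl
    · simp
    · rw [pow_two, ha]
    · rw [pow_two, hb]
  have h3 : ({1, a, b} : Finset H).card = 3 :=
    Finset.card_eq_three.2 ⟨1, a, b, ha1.symm, hb1.symm, hab, rfl⟩
  have := Finset.card_le_card hsub
  omega

namespace Core

variable {S : Sylow 2 G} {z : G} {R T C : Subgroup G} {s y z1 v : G}

theorem exists_c (hC : Nat.card C = 2) : ∃ c, c ∈ C ∧ c ≠ 1 ∧ c * c = 1 ∧
    ∀ x ∈ C, x = 1 ∨ x = c := by
  classical
  obtain ⟨c, hc1, huniq⟩ := (Nat.card_eq_two_iff' (1 : C)).1 hC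
  refine ⟨c, c.2, fun h => hc1 (Subtype.ext h), ?_, fun x hx => ?_⟩
  · have := pow_card_eq_one' (x := c)
    rw [hC, pow_two] at this
    exact congrArg Subtype.val this
  · by_cases h : x = 1
    · exact Or.inl h
    · exact Or.inr (congrArg Subtype.val
        (huniq ⟨x, hx⟩ fun h' => h (congrArg Subtype.val h')))

theorem elementary_two (D : Core S z R T C s y z1 v) (hC : Nat.card C = 2) {r : G}
    (hr : r ∈ R) : r * r = 1 := by
  obtain ⟨c, hc, hc1, hcc, hall⟩ := exists_c hC
  obtain ⟨d, hd, hrd⟩ := D.sqC r hr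
  rcases hall d hd with rfl | rfl
  · simpa using hrd
  · rw [hrd, hcc]

/-- The centre of `T` is the four group `⟨z, c⟩`. -/
theorem Zt_eq (D : Core S z R T C s y z1 v) (hC : Nat.card C = 2) {c : G} (hc : c ∈ C)
    (hc1 : c ≠ 1) {x : G} :
    x ∈ R ⊓ R.map (MulAut.conj s).toMonoidHom ↔ x = 1 ∨ x = z ∨ x = c ∨ x = z * c := by
  obtain ⟨c', hc', -, hcc, hall⟩ := exists_c hC
  obtain rfl : c = c' := (hall c hc).resolve_left hc1
  have hz1c : z = z1 ∨ z = z1 * c := by
    rcases D.Zt_cases D.z_mem_Zt with h | h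
    · exact absurd h D.z_not_mem_C
    · rcases hall _ h with h' | h'
      · left
        have := congrArg (z1 * ·) h'
        simpa [← mul_assoc, D.z12] using this
      · right
        have := congrArg (z1 * ·) h'
        simpa [← mul_assoc, D.z12] using this
  constructor
  · intro hx
    rcases D.Zt_cases hx with h | h
    · rcases hall x h with rfl | rfl <;> simp
    · rcases hall _ h with h' | h' <;>
      · have := congrArg (z1 * ·) h'
        simp only [← mul_assoc, D.z12, one_mul, mul_one] at this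
        subst this
        rcases hz1c with h'' | h'' <;> subst h'' <;> simp [mul_assoc, hcc]
  · rintro (rfl | rfl | rfl | rfl)
    exacts [one_mem _, D.z_mem_Zt, D.C_le_Zt hc, mul_mem D.z_mem_Zt (D.C_le_Zt hc)]

/-- The data for the transfer argument when `|C| = 2`. -/
theorem false_of_two [IsSimpleGroup G] (hna : ∃ a b : G, a * b ≠ b * a)
    (D : Core S z R T C s y z1 v) (hC : Nat.card C = 2) : False := by
  classical
  have : Fact (Nat.Prime 2) := ⟨Nat.prime_two⟩
  obtain ⟨c, hc, hc1, hcc, hall⟩ := exists_c hC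
  set P : Subgroup G := (S : Subgroup G) with hP
  set Z := R ⊓ R.map (MulAut.conj s).toMonoidHom with hZ
  have hZeq : ∀ {x : G}, x ∈ Z ↔ x = 1 ∨ x = z ∨ x = c ∨ x = z * c := D.Zt_eq hC hc hc1
  have hcP : c ∈ P := D.TS (D.RT (D.CR hc))
  have hzP : z ∈ P := D.TS (D.RT D.zR)
  have hzc : c ≠ z := fun h => D.z_not_mem_C (h ▸ hc)
  have hcz : c * z = z * c := D.z_comm hcP
  have hel : ∀ r ∈ R, r * r = 1 := fun r hr => D.elementary_two hC hr
  have hs2 : ∀ e ∈ C, s * (e * e) * s⁻¹ ∈ C := fun e he => by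
    rcases hall e he with rfl | rfl <;> simp [hcc, one_mem]
  have hconj_z : ∀ g ∈ P, g * z * g⁻¹ = z := fun g hg => by
    rw [D.z_comm hg, mul_assoc, mul_inv_cancel, mul_one]
  -- the normalizer of `Z` inside `S`
  set N : Subgroup G := P ⊓ normalizer (Z : Set G) with hN
  have hTN : T ≤ N := fun t ht => mem_inf.2 ⟨D.TS ht, by
    rw [mem_normalizer_iff]
    intro x
    constructor
    · intro hx; rwa [← D.mem_Zt hx t ht, mul_inv_cancel_right]
    · intro hx
      have h1 := D.mem_Zt hx t ht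
      rw [inv_mul_cancel_right] at h1
      have : t * x * t⁻¹ = x := mul_left_cancel (h1.symm.trans rfl)
      rwa [this] at hx⟩
  have hsN : s ∈ N := by
    refine mem_inf.2 ⟨D.hs, ?_⟩
    rw [mem_normalizer_iff]
    intro x
    refine ⟨fun hx => D.s_Zt hx, fun hx => ?_⟩
    have h1 := D.s_Zt hx
    have h2 : s * (s * x * s⁻¹) * s⁻¹ = (s * s) * x * (s * s)⁻¹ := by group
    rw [h2] at h1
    have h3 := D.mem_Zt h1 _ D.s2
    rw [inv_mul_cancel_right] at h3
    have : (s * s) * x * (s * s)⁻¹ = x := mul_left_cancel (h3.symm.trans rfl)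
    rwa [this] at h1
  have hNP : N = P := by
    by_contra hne
    obtain ⟨g, hgP, hgN, hgn⟩ := CfsgLib.Transfer.exists_mem_normalizer_not_mem S.2
      (lt_of_le_of_ne inf_le_left hne)
    refine hgn (mem_inf.2 ⟨hgP, ?_⟩)
    set c' := g * c * g⁻¹ with hc'
    have hc'Z : c' ∈ Z := by
      have hc'P : c' ∈ P := mul_mem (mul_mem hgP hcP) (inv_mem hgP)
      have hc'2 : c' * c' = 1 := by
        rw [hc', show g * c * g⁻¹ * (g * c * g⁻¹) = g * (c * c) * g⁻¹ by group, hcc]; simp
      have himg : ∀ a ∈ N, a * c' * a⁻¹ = c' ∨ a * c' * a⁻¹ = c' * z := by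
        intro a ha
        have ha' : g⁻¹ * a * g ∈ N := by
          refine (mem_normalizer_iff.1 hgN (g⁻¹ * a * g)).2 ?_
          rw [show g * (g⁻¹ * a * g) * g⁻¹ = a by group]
          exact ha
        have h1 := (mem_normalizer_iff.1 ha'.2 c).1 (hZeq.2 (by simp))
        have e1 : a * c' * a⁻¹ = g * (g⁻¹ * a * g * c * (g⁻¹ * a * g)⁻¹) * g⁻¹ := by
          rw [hc']; group
        rcases hZeq.1 h1 with h | h | h | h
        · exfalso
          exact hc1 (conj_eq_one_iff.1 h)
        · exfalso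
          refine hzc ?_
          have hz' := hconj_z _ ha'.1
          exact mul_left_cancel (mul_right_cancel (h.trans hz'.symm))
        · left; rw [e1, h]
        · right
          rw [e1, h, show g * (z * c) * g⁻¹ = g * z * g⁻¹ * (g * c * g⁻¹) by group,
            hconj_z g hgP, ← hc', ← D.z_comm hc'P]
      have hc'T : c' ∈ T := by
        refine D.normR c' hc'P fun r hr => ?_
        have e1 : c' * r * c'⁻¹ = r * (r⁻¹ * c' * r) * c'⁻¹ := by group
        rcases himg r⁻¹ (inv_mem (hTN (D.RT hr))) with h | h <;>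
          rw [inv_inv] at h <;> rw [e1, h]
        · simpa using hr
        · rw [D.z_comm hc'P, ← mul_assoc, mul_inv_cancel_right]
          exact mul_mem hr D.zR
      have hs' : s * c' * s⁻¹ = c' ∨ s * c' * s⁻¹ = c' * z := himg s hsN
      rcases D.invol_mem hs2 hc'T hc'2 with hR | hR
      · refine ⟨hR, ?_⟩
        have h1 : s * c' * s⁻¹ ∈ R.map (MulAut.conj s).toMonoidHom := ⟨c', hR, by simp⟩
        rcases hs' with h | h <;> rw [h] at h1
        · exact h1
        · have := mul_mem h1 D.z_mem_Zt.2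
          rwa [mul_assoc, D.z2, mul_one] at this
      · refine ⟨?_, hR⟩
        have h1 := D.s_swap hR
        rcases hs' with h | h <;> rw [h] at h1
        · exact h1
        · have := mul_mem h1 D.zR
          rwa [mul_assoc, D.z2, mul_one] at this
    have hmap : ∀ x ∈ Z, g * x * g⁻¹ ∈ Z := by
      intro x hx
      rcases hZeq.1 hx with rfl | rfl | rfl | rfl
      · simp [one_mem]
      · rw [hconj_z g hgP]; exact D.z_mem_Zt
      · exact hc'Z
      · rw [show g * (z * c) * g⁻¹ = g * z * g⁻¹ * c' by rw [hc']; group, hconj_z g hgP]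
        exact mul_mem D.z_mem_Zt hc'Z
    have hle : Z.map (MulAut.conj g).toMonoidHom ≤ Z := by
      rintro _ ⟨x, hx, rfl⟩; simpa using hmap x hx
    have heq := Subgroup.eq_of_le_of_card_ge hle (card_map_conj Z g).ge
    rw [mem_normalizer_iff]
    refine fun x => ⟨hmap x, fun hx => ?_⟩
    rw [← heq, mem_map_conj] at hx
    simpa [mul_assoc] using hx
  have hPN : ∀ g ∈ P, ∀ x ∈ Z, g * x * g⁻¹ ∈ Z := fun g hg x hx =>
    (mem_normalizer_iff.1 ((hNP.ge hg).2) x).1 hx
  -- the centraliser of `c`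
  set M : Subgroup G := P ⊓ centralizer ({c} : Set G) with hM
  have hMmem : ∀ g ∈ P, (g ∈ M ↔ g * c = c * g) := fun g hg =>
    ⟨fun h => mem_cent_singleton.1 h.2, fun h => ⟨hg, mem_cent_singleton.2 h⟩⟩
  have hflip : ∀ g ∈ P, g ∉ M → g * c * g⁻¹ = c * z := by
    intro g hg hgM
    rcases hZeq.1 (hPN g hg c (D.C_le_Zt hc)) with h | h | h | h
    · exact absurd (by simpa using h) hc1
    · exact absurd (mul_left_cancel (mul_right_cancel (h.trans (hconj_z g hg).symm))) hzc
    · exact absurd ((hMmem g hg).2 (by rw [← mul_inv_eq_iff_eq_mul, h])) hgM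
    · rw [h, hcz]
  obtain ⟨g0, hg0, hg0c⟩ := D.notCentral c hc1 y D.yS (D.yC c hc)
  have hg0M : g0 ∉ M := fun h => hg0c (mem_cent_singleton.1 h.2)
  have hMP : M ≤ P := inf_le_left
  have hTM : T ≤ M := fun t ht => (hMmem t (D.TS ht)).2 (D.CT c hc t ht)
  have hMi : M.relIndex P = 2 := by
    rw [relIndex, index_eq_two_iff]
    refine ⟨⟨g0, hg0⟩, fun b => ?_⟩
    by_cases hb : (b : G) ∈ M
    · refine Or.inr ⟨hb, fun h => hg0M ?_⟩
      have := mul_mem (inv_mem hb) (mem_subgroupOf.1 h)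
      simpa using this
    · refine Or.inl ⟨mem_subgroupOf.2 ((hMmem _ (mul_mem b.2 hg0)).2 ?_), hb⟩
      rw [← mul_inv_eq_iff_eq_mul]
      have e1 : (b : G) * g0 * c * ((b : G) * g0)⁻¹ = (b : G) * (g0 * c * g0⁻¹) * (b : G)⁻¹ := by
        group
      rw [e1, hflip g0 hg0 hg0M,
        show (b : G) * (c * z) * (b : G)⁻¹ = (b : G) * c * (b : G)⁻¹ * ((b : G) * z * (b : G)⁻¹) by
          group, hflip b b.2 hb, hconj_z b b.2, mul_assoc, D.z2, mul_one]
  have hMn : (M.subgroupOf P).Normal := normal_of_index_eq_two hMi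
  have hMcard : Nat.card M = 64 := by
    have := card_eq_mul_relIndex hMP
    rw [hMi, D.cardS] at this
    omega
  have hTcard : Nat.card T = 16 := by rw [D.cardT, D.cardR, hC]
  -- the quotient `M / Z`
  set Z' := Z.subgroupOf M
  have hZM : Z ≤ M := fun x hx => hTM (D.RT hx.1)
  have hZ'n : Z'.Normal := ⟨fun x hx g => hPN g (hMP g.2) x hx⟩
  set T' := (T.subgroupOf M).map (QuotientGroup.mk' Z') with hT'
  have hcardQ : Nat.card (M ⧸ Z') = 2 ^ 4 := by
    have h1 := card_eq_card_quotient_mul_card_subgroup Z'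
    have h2 : Nat.card Z' = 4 := by
      rw [Nat.card_congr (subgroupOfEquivOfLe hZM).toEquiv, D.card_Zt, hC]
    rw [h2, hMcard] at h1
    omega
  have hcardT' : Nat.card T' = 2 ^ 2 := by
    rw [hT']
    have hle : Z' ≤ T.subgroupOf M := fun x hx => D.RT hx.1
    have h1 : Nat.card (T.subgroupOf M) = 16 := by
      rw [Nat.card_congr (subgroupOfEquivOfLe hTM).toEquiv, hTcard]
    have h2 : Nat.card Z' = 4 := by
      rw [Nat.card_congr (subgroupOfEquivOfLe hZM).toEquiv, D.card_Zt, hC]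
    have h3 := card_eq_mul_relIndex hle
    rw [h1, h2] at h3
    rw [← Subgroup.relIndex_ker, QuotientGroup.ker_mk']
    omega
  set r0 : M := ⟨v, hTM (D.RT D.vR)⟩
  have hRmem : ∀ r ∈ R, r ∈ Z ∨ v * r ∈ Z := by
    intro r hr
    refine or_iff_not_imp_left.2 fun h => ?_
    refine mul_mem_of_relIndex_two (relIndex_eq_two_of_card (inf_le_left : Z ≤ R) ?_) D.vR
      D.v_not_mem_Zt hr h
    rw [D.card_Zt, D.cardR]; ring
  -- `T` is self-centralizing in the quotient
  have hnorm : ∀ m ∈ P, (m * v * m⁻¹ ∈ R) → m ∈ T := by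
    intro m hm hmv
    refine D.normR m hm fun r hr => ?_
    rcases hRmem r hr with h | h
    · exact (hPN m hm r h).1
    · have e : m * r * m⁻¹ = (m * v * m⁻¹)⁻¹ * (m * (v * r) * m⁻¹) := by group
      rw [e]
      exact mul_mem (inv_mem hmv) (hPN m hm _ h).1
  have hmk : ∀ a b : M, QuotientGroup.mk' Z' a = QuotientGroup.mk' Z' b ↔ (a : G)⁻¹ * b ∈ Z := by
    intro a b
    rw [QuotientGroup.mk'_apply, QuotientGroup.mk'_apply, QuotientGroup.eq]; rfl
  have hcent_r0 : ∀ m : M, QuotientGroup.mk' Z' m * QuotientGroup.mk' Z' r0 =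
      QuotientGroup.mk' Z' r0 * QuotientGroup.mk' Z' m → (m : G) ∈ T := by
    intro m hm
    rw [← map_mul, ← map_mul, hmk] at hm
    refine hnorm m (hMP m.2) ?_
    have h2 : (v * (m : G))⁻¹ * ((m : G) * v) ∈ Z := by
      have := inv_mem hm
      simpa [r0, mul_assoc] using this
    have h3 := hPN (m : G) (hMP m.2) _ h2
    have e : (m : G) * v * (m : G)⁻¹ =
        v * ((m : G) * ((v * (m : G))⁻¹ * ((m : G) * v)) * (m : G)⁻¹) := by group
    rw [e]
    exact mul_mem D.vR h3.1
  have hTmem : ∀ m : M, QuotientGroup.mk' Z' m ∈ T' ↔ (m : G) ∈ T := by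
    intro m
    refine ⟨fun h => ?_, fun h => ⟨m, h, rfl⟩⟩
    obtain ⟨t, ht, hte⟩ := h
    rw [hmk] at hte
    have hte' : ((t : G))⁻¹ * (m : G) ∈ R := hte.1
    have := mul_mem (mem_subgroupOf.1 ht) (D.RT hte')
    simpa using this
  have hcentT : centralizer (T' : Set (M ⧸ Z')) = T' := by
    refine le_antisymm (fun q hq => ?_) fun q hq => ?_
    · obtain ⟨m, rfl⟩ := QuotientGroup.mk'_surjective Z' q
      exact (hTmem m).2 (hcent_r0 m
        (mem_centralizer_iff.1 hq _ ((hTmem r0).2 (D.RT D.vR))).symm)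
    · rw [mem_centralizer_iff]
      have hcomm : ∀ a b : T', a * b = b * a :=
        (IsPGroup.isMulCommutative_of_card_eq_prime_sq hcardT').is_comm.comm
      exact fun a ha => congrArg Subtype.val (hcomm ⟨a, ha⟩ ⟨q, hq⟩)
  have hclass := Cfsg.Agent.S0112.result 4 hcardQ T' hcardT' hcentT
  obtain ⟨C8, hC8, hC8i⟩ := Cfsg.Agent.S0113.result 4 (by norm_num) hcardQ hclass
  have : C8.Normal := normal_of_index_eq_two hC8i
  -- the eight images of the conjugates of `v`
  have hvM : ∀ g : P, (g : G) * v * (g : G)⁻¹ ∈ M := fun g =>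
    hMn.conj_mem ⟨v, D.TS (D.RT D.vR)⟩ (hTM (D.RT D.vR)) g
  set f : P → M ⧸ Z' := fun g => QuotientGroup.mk' Z' ⟨_, hvM g⟩ with hf
  have hfsq : ∀ g, f g * f g = 1 := fun g => by
    simp only [hf, ← map_mul]
    rw [← map_one (QuotientGroup.mk' Z'), hmk]
    have hv := D.v2
    have : ((g : G) * v * (g : G)⁻¹) * ((g : G) * v * (g : G)⁻¹) = 1 := by
      rw [show (g : G) * v * (g : G)⁻¹ * ((g : G) * v * (g : G)⁻¹) =
        (g : G) * (v * v) * (g : G)⁻¹ by group, hv]
      simp
    simp [this, one_mem]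
  have hfne : ∀ g, f g ≠ 1 := fun g h => by
    simp only [hf] at h
    rw [← map_one (QuotientGroup.mk' Z'), hmk] at h
    refine D.v_not_mem_Zt ?_
    have h1 := hPN _ (inv_mem g.2) _ (inv_mem (show ((g : G) * v * (g : G)⁻¹)⁻¹ ∈ Z by simpa using h))
    simpa [mul_assoc, hZ] using h1
  have hcentral : ∀ q ∈ C8, q * q = 1 → q ≠ 1 → ∀ a : M ⧸ Z', a * q = q * a := by
    intro q hq hq2 hq1 a
    have hq' : a * q * a⁻¹ ∈ C8 := Normal.conj_mem inferInstance q hq a
    have := involution_unique (H := C8) (a := ⟨_, hq'⟩) (b := ⟨q, hq⟩)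
      (Subtype.ext (by
        show a * q * a⁻¹ * (a * q * a⁻¹) = 1
        rw [show a * q * a⁻¹ * (a * q * a⁻¹) = a * (q * q) * a⁻¹ by group, hq2]; simp))
      (Subtype.ext hq2) (fun h => hq1 (by simpa using congrArg Subtype.val h))
      (fun h => hq1 (by simpa using congrArg Subtype.val h))
    exact mul_inv_eq_iff_eq_mul.1 (congrArg Subtype.val this)
  have hfC8 : ∀ g, f g ∉ C8 := by
    intro g hg
    have hc8 := hcentral _ hg (hfsq g) (hfne g)
    have hMT : M ≤ T := by
      intro m hm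
      refine hcent_r0 ⟨m, hm⟩ ?_
      have hm' : (g : G) * m * (g : G)⁻¹ ∈ M := hMn.conj_mem ⟨m, hMP hm⟩ hm g
      have h1 := hc8 (QuotientGroup.mk' Z' ⟨_, hm'⟩)
      simp only [hf, ← map_mul, hmk] at h1 ⊢
      have h2 := hPN _ (inv_mem g.2) _ h1
      simpa [r0, mul_assoc] using h2
    have := Nat.le_of_dvd Nat.card_pos (card_dvd_of_le hMT)
    omega
  set F : P ⧸ T.subgroupOf P → {q : M ⧸ Z' // q ∉ C8} := fun x => ⟨f x.out, hfC8 _⟩ with hF
  have hFinj : Function.Injective F := by
    intro a b hab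
    have h1 : f a.out = f b.out := congrArg Subtype.val hab
    simp only [hf, hmk] at h1
    rw [← QuotientGroup.out_eq' a, ← QuotientGroup.out_eq' b, QuotientGroup.eq]
    refine mem_subgroupOf.2 (hnorm _ (mul_mem (inv_mem a.out.2) b.out.2) ?_)
    have h2 := hPN _ (inv_mem a.out.2) _ h1
    have e : ((a.out : G)⁻¹ * b.out) * v * ((a.out : G)⁻¹ * b.out)⁻¹ =
        v * ((a.out : G)⁻¹ * (((a.out : G) * v * (a.out : G)⁻¹)⁻¹ *
          ((b.out : G) * v * (b.out : G)⁻¹)) * (a.out : G)⁻¹⁻¹) := by group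
    simp only [Subgroup.coe_mul, Subgroup.coe_inv]
    rw [e]
    exact mul_mem D.vR h2.1
  have hFbij : Function.Bijective F := by
    refine hFinj.bijective_of_nat_card_le ?_
    have h1 : Nat.card (P ⧸ T.subgroupOf P) = 8 := by
      rw [← index_eq_card]
      have := card_eq_mul_relIndex D.TS
      rw [hTcard, D.cardS] at this
      change T.relIndex P = 8
      rw [hP]
      omega
    have h2 : Nat.card {q : M ⧸ Z' // q ∉ C8} = 8 := by
      have hc8 : Nat.card C8 = 8 := by
        have := card_mul_index C8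
        rw [hC8i, hcardQ] at this
        omega
      change Nat.card ((C8 : Set (M ⧸ Z'))ᶜ : Set (M ⧸ Z')) = 8
      rw [Nat.card_coe_set_eq, Set.ncard_compl, ← Nat.card_coe_set_eq, SetLike.coe_sort_coe, hc8,
        hcardQ]
      norm_num
    omega
  -- the shape of the involutions of `M`
  have hshape : ∀ i ∈ M, i * i = 1 → i ∉ Z →
      ∃ g ∈ P, g⁻¹ * i * g ∈ R ∧ g⁻¹ * i * g ∉ Z := by
    intro i hi hi2 hiZ
    have key : ∀ g : P, f g = QuotientGroup.mk' Z' ⟨i, hi⟩ →
        ∃ g ∈ P, g⁻¹ * i * g ∈ R ∧ g⁻¹ * i * g ∉ Z := by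
      intro g hg
      simp only [hf, hmk] at hg
      have h1 := hPN _ (inv_mem g.2) _ hg
      refine ⟨g, g.2, ?_, fun h => hiZ ?_⟩
      · have := mul_mem D.vR h1.1
        simpa [mul_assoc] using this
      · simpa [mul_assoc] using hPN _ g.2 _ h
    by_cases hiC : QuotientGroup.mk' Z' ⟨i, hi⟩ ∈ C8
    · exfalso
      have hne : QuotientGroup.mk' Z' ⟨i, hi⟩ ≠ 1 := fun h => hiZ (by
        rw [← map_one (QuotientGroup.mk' Z'), hmk] at h
        simpa using inv_mem h)
      have hsq : QuotientGroup.mk' Z' ⟨i, hi⟩ * QuotientGroup.mk' Z' ⟨i, hi⟩ = 1 := by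
        rw [← map_mul, ← map_one (QuotientGroup.mk' Z'), hmk]
        simp [hi2, one_mem]
      have hiT : i ∈ T :=
        hcent_r0 ⟨i, hi⟩ (hcentral _ hiC hsq hne _).symm
      have hv' : ∀ r ∈ R, r ∉ Z → v⁻¹ * r ∈ Z := fun r hr hrZ => by
        rw [inv_eq_of_mul_eq_one_right D.v2]
        exact (hRmem r hr).resolve_left hrZ
      rcases D.invol_mem hs2 hiT hi2 with h | h
      · refine hfC8 1 ?_
        have : f 1 = QuotientGroup.mk' Z' ⟨i, hi⟩ := by
          simp only [hf, hmk]
          simpa using hv' i h hiZ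
        rwa [this]
      · refine hfC8 ⟨s, D.hs⟩ ?_
        have : f ⟨s, D.hs⟩ = QuotientGroup.mk' Z' ⟨i, hi⟩ := by
          simp only [hf, hmk]
          have h1 := hv' _ (mem_map_conj.1 h) (fun hz => hiZ (by
            simpa [mul_assoc] using hPN s D.hs _ hz))
          simpa [mul_assoc] using hPN s D.hs _ h1
        rwa [this]
    · obtain ⟨x, hx⟩ := hFbij.2 ⟨_, hiC⟩
      exact key x.out (congrArg Subtype.val hx)
  have hbig : 4 < Nat.card M := by omega
  have hFD : FinalData S z c M :=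
    { centz := D.centz, z2 := D.z2, z1 := D.zne, n2 := hcc, n1 := hc1, nz := hzc, nS := hcP
      centn := D.not_isPGroup_centC hc, MS := hMP, Mi := hMi, Mn := hMmem, flip := hflip
      big := hbig
      inv := by
        intro i hiM hi2 hi1 hiz hic hicz x hx hxi
        have hiZ : i ∉ Z := fun h => by
          rcases hZeq.1 h with h | h | h | h
          exacts [hi1 h, hiz h, hic h, hicz (by rw [h, hcz])]
        obtain ⟨g, hg, hgR, hgZ⟩ := hshape i hiM hi2 hiZ
        set x' := g⁻¹ * x * g with hx'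
        set i' := g⁻¹ * i * g with hi'
        have hx'P : x' ∈ P := mul_mem (mul_mem (inv_mem hg) hx) hg
        have hcomm : x' * i' = i' * x' := by
          have := conj_comm (g := g⁻¹) hxi
          simpa [hx', hi'] using this
        have hx'T : x' ∈ T := by
          refine hnorm x' hx'P ?_
          have h1 := (hRmem i' hgR).resolve_left hgZ
          have h2 := hPN x' hx'P _ h1
          have e : x' * v * x'⁻¹ = x' * (v * i') * x'⁻¹ * (x' * i' * x'⁻¹)⁻¹ := by group
          rw [e, show x' * i' * x'⁻¹ = i' by rw [hcomm, mul_inv_cancel_right]]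
          exact mul_mem h2.1 (inv_mem hgR)
        have hx'R : x' ∈ R := D.cent_eq hx'T hgR hgZ hcomm
        have hex : g * x' * g⁻¹ = x := by rw [hx']; group
        refine ⟨?_, fun h => hi1 ?_⟩
        · have := hMn.conj_mem ⟨x', hx'P⟩ (hTM hx'T) ⟨g, hg⟩
          rw [← hex]; exact this
        · rw [← h, ← hex, show g * x' * g⁻¹ * (g * x' * g⁻¹) = g * (x' * x') * g⁻¹ by group,
            hel x' hx'R]
          simp }
  exact hFD.elim hna

end Core

end CfsgLib.Recog.ChainEight
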