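import Cfsg.Agent.Lib.Recog.ChainEight.Tools
import Cfsg.Agent.Lib.Transfer.Frobenius

/-!
# The amalgam configuration inside a Sylow 2-subgroup of order 128
-/

set_option autoImplicit false
set_option linter.unusedSectionVars false

namespace CfsgLib.Recog.ChainEight

open Subgroup

variable {G : Type*} [Group G] [Finite G]

/-- Cardinality of a subgroup through a smaller one. -/
theorem card_eq_mul_relIndex {H K : Subgroup G} (h : H ≤ K) :
    Nat.card K = Nat.card H * H.relIndex K := by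
  have := relIndex_mul_relIndex ⊥ H K bot_le h
  rw [relIndex_bot_left, relIndex_bot_left] at this
  exact this.symm

theorem relIndex_eq_two_of_card {H K : Subgroup G} (h : H ≤ K)
    (hc : Nat.card K = 2 * Nat.card H) : H.relIndex K = 2 := by
  have := card_eq_mul_relIndex h
  rw [hc, mul_comm] at this
  exact (Nat.eq_of_mul_eq_mul_left Nat.card_pos this).symm

/-- Two elements outside a subgroup of relative index two multiply into it. -/
theorem mul_mem_of_relIndex_two {H K : Subgroup G} (hi : H.relIndex K = 2) {a b : G}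
    (ha : a ∈ K) (haH : a ∉ H) (hb : b ∈ K) (hbH : b ∉ H) : a * b ∈ H :=
  (mul_mem_iff_of_index_two (H := H.subgroupOf K) hi (a := ⟨a, ha⟩) (b := ⟨b, hb⟩)).2
    (iff_of_false haH hbH)

/-- Membership in the image under conjugation. -/
theorem mem_map_conj {H : Subgroup G} {g x : G} :
    x ∈ H.map (MulAut.conj g).toMonoidHom ↔ g⁻¹ * x * g ∈ H := by
  constructor
  · rintro ⟨h, hh, rfl⟩
    simpa [mul_assoc] using hh
  · intro h
    exact ⟨_, h, by simp [mul_assoc]⟩

theorem card_map_conj (H : Subgroup G) (g : G) :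
    Nat.card (H.map (MulAut.conj g).toMonoidHom) = Nat.card H :=
  Subgroup.card_map_of_injective (MulAut.conj g).injective

/-- An element commuting with a subgroup and another commuting with it. -/
theorem comm_inv_right {a b : G} (h : a * b = b * a) : a * b⁻¹ = b⁻¹ * a :=
  (Commute.inv_right h).eq

/-- The configuration left by the amalgam method. -/
structure Core (S : Sylow 2 G) (z : G) (R T C : Subgroup G) (s y z1 v : G) : Prop where
  centz : centralizer ({z} : Set G) = (S : Subgroup G)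
  z2 : z * z = 1
  zne : z ≠ 1
  cardS : Nat.card (S : Subgroup G) = 2 ^ 7
  notCentral : ∀ c : G, c ≠ 1 → ∀ q : G, q ∉ (S : Subgroup G) → q * c = c * q →
    ∃ g ∈ (S : Subgroup G), g * c ≠ c * g
  RT : R ≤ T
  TS : T ≤ (S : Subgroup G)
  normR : ∀ x ∈ (S : Subgroup G), (∀ r ∈ R, x * r * x⁻¹ ∈ R) → x ∈ T
  TnormR : ∀ t ∈ T, ∀ r ∈ R, t * r * t⁻¹ ∈ R
  comm : ∀ a ∈ R, ∀ b ∈ R, a * b = b * a
  self : ∀ x ∈ (S : Subgroup G), (∀ r ∈ R, x * r = r * x) → x ∈ R
  cardT : Nat.card T = 2 * Nat.card R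
  cardR : Nat.card R = 4 * Nat.card C
  hs : s ∈ (S : Subgroup G)
  sT : s ∉ T
  s2 : s * s ∈ T
  sN : ∀ t ∈ T, s * t * s⁻¹ ∈ T
  CR : C ≤ R
  yC : ∀ c ∈ C, y * c = c * y
  yS : y ∉ (S : Subgroup G)
  yodd : Odd (orderOf y)
  CT : ∀ c ∈ C, ∀ t ∈ T, t * c = c * t
  z1R : z1 ∈ R
  z1C : z1 ∉ C
  z12 : z1 * z1 = 1
  z1T : ∀ t ∈ T, t * z1 = z1 * t
  vR : v ∈ R
  v2 : v * v = 1
  vnc : ∃ t ∈ T, t * v ≠ v * t
  zR : z ∈ R
  commV : ∀ t ∈ T, ∀ r ∈ R, t * r * t⁻¹ * r⁻¹ ∈ C → t * r = r * t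
  sqC : ∀ r ∈ R, ∃ c ∈ C, r * r = c * c

namespace Core

variable {S : Sylow 2 G} {z : G} {R T C : Subgroup G} {s y z1 v : G}

theorem isPGroup_centz (D : Core S z R T C s y z1 v) :
    IsPGroup 2 (centralizer ({z} : Set G)) := D.centz ▸ S.2

theorem y_ne (D : Core S z R T C s y z1 v) : y ≠ 1 := fun h => D.yS (h ▸ one_mem _)

theorem not_isPGroup_centC (D : Core S z R T C s y z1 v) {c : G} (hc : c ∈ C) :
    ¬ IsPGroup 2 (centralizer ({c} : Set G)) := by
  intro h
  obtain ⟨k, hk⟩ := h ⟨y, mem_cent_singleton.2 (D.yC c hc)⟩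
  have hk' : y ^ (2 ^ k) = 1 := by simpa using congrArg Subtype.val hk
  have h1 : orderOf y ∣ 2 ^ k := orderOf_dvd_of_pow_eq_one hk'
  have h2 := Nat.Coprime.pow_right k (Nat.coprime_two_right.2 D.yodd)
  exact D.y_ne (orderOf_eq_one_iff.1 (Nat.eq_one_of_dvd_coprimes h2 dvd_rfl h1))

theorem z_not_mem_C (D : Core S z R T C s y z1 v) : z ∉ C := fun h =>
  D.not_isPGroup_centC h D.isPGroup_centz

theorem z_comm (D : Core S z R T C s y z1 v) {g : G} (hg : g ∈ (S : Subgroup G)) :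
    g * z = z * g := by
  rw [← D.centz] at hg
  exact mem_cent_singleton.1 hg

/-- The second maximal abelian subgroup. -/
theorem map_le (D : Core S z R T C s y z1 v) : R.map (MulAut.conj s).toMonoidHom ≤ T := by
  rintro _ ⟨r, hr, rfl⟩
  simpa using D.sN r (D.RT hr)

theorem conjT_iff (D : Core S z R T C s y z1 v) {t : G} : s⁻¹ * t * s ∈ T ↔ t ∈ T := by
  constructor
  · intro h
    simpa [mul_assoc] using D.sN _ h
  · intro h
    have h1 := D.sN t h
    have h2 : (s * s)⁻¹ * (s * t * s⁻¹) * (s * s) ∈ T :=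
      mul_mem (mul_mem (inv_mem D.s2) h1) D.s2
    simpa [mul_assoc] using h2

theorem relR (D : Core S z R T C s y z1 v) : R.relIndex T = 2 :=
  relIndex_eq_two_of_card D.RT D.cardT

theorem relR' (D : Core S z R T C s y z1 v) :
    (R.map (MulAut.conj s).toMonoidHom).relIndex T = 2 :=
  relIndex_eq_two_of_card D.map_le (by rw [card_map_conj]; exact D.cardT)

theorem map_ne (D : Core S z R T C s y z1 v) : R.map (MulAut.conj s).toMonoidHom ≠ R := by
  intro h
  refine D.sT (D.normR s D.hs fun r hr => ?_)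
  rw [← h]
  exact ⟨r, hr, by simp⟩

/-- The centre of `T`. -/
theorem central_iff (D : Core S z R T C s y z1 v) {x : G} (hx : x ∈ (S : Subgroup G)) :
    (∀ t ∈ T, x * t = t * x) ↔ x ∈ R ∧ x ∈ R.map (MulAut.conj s).toMonoidHom := by
  constructor
  · intro h
    refine ⟨D.self x hx fun r hr => h r (D.RT hr), mem_map_conj.2 (D.self _ ?_ fun r hr => ?_)⟩
    · exact mul_mem (mul_mem (inv_mem D.hs) hx) D.hs
    · have h1 := h _ (D.map_le ⟨r, hr, rfl⟩)
      have h2 := congrArg (fun e => s⁻¹ * e * s) h1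
      simpa [mul_assoc] using h2
  · rintro ⟨hxR, hxR'⟩ t ht
    by_cases htR : t ∈ R
    · exact D.comm x hxR t htR
    · have hsub : ¬ R.map (MulAut.conj s).toMonoidHom ≤ R := fun hle =>
        D.map_ne (Subgroup.eq_of_le_of_card_ge hle (card_map_conj R s).ge)
      obtain ⟨r', hr', hr'R⟩ := SetLike.not_le_iff_exists.1 hsub
      have hp := mul_mem_of_relIndex_two D.relR ht htR (inv_mem (D.map_le hr'))
        (fun h => hr'R (inv_mem_iff.1 h))
      have h1 : x * r' = r' * x := by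
        have h3 := D.comm _ (mem_map_conj.1 hxR') _ (mem_map_conj.1 hr')
        have h4 := congrArg (fun e => s * e * s⁻¹) h3
        simpa [mul_assoc] using h4
      have h2 := D.comm x hxR _ hp
      calc x * t = x * (t * r'⁻¹ * r') := by rw [inv_mul_cancel_right]
        _ = t * r'⁻¹ * (x * r') := by rw [← mul_assoc, h2, mul_assoc]
        _ = t * r'⁻¹ * r' * x := by rw [h1, ← mul_assoc]
        _ = t * x := by rw [inv_mul_cancel_right]

/-- The centre of `T` as a subgroup. -/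
theorem mem_Zt (D : Core S z R T C s y z1 v) {x : G}
    (hx : x ∈ R ⊓ R.map (MulAut.conj s).toMonoidHom) : ∀ t ∈ T, x * t = t * x :=
  (D.central_iff (D.TS (D.RT hx.1))).2 hx

theorem C_le_Zt (D : Core S z R T C s y z1 v) :
    C ≤ R ⊓ R.map (MulAut.conj s).toMonoidHom := fun c hc =>
  (D.central_iff (D.TS (D.RT (D.CR hc)))).1 fun t ht => (D.CT c hc t ht).symm

theorem z1_mem_Zt (D : Core S z R T C s y z1 v) :
    z1 ∈ R ⊓ R.map (MulAut.conj s).toMonoidHom :=
  (D.central_iff (D.TS (D.RT D.z1R))).1 fun t ht => (D.z1T t ht).symm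

theorem z_mem_Zt (D : Core S z R T C s y z1 v) :
    z ∈ R ⊓ R.map (MulAut.conj s).toMonoidHom :=
  (D.central_iff (D.TS (D.RT D.zR))).1 fun _ ht => (D.z_comm (D.TS ht)).symm

theorem v_not_mem_Zt (D : Core S z R T C s y z1 v) :
    v ∉ R ⊓ R.map (MulAut.conj s).toMonoidHom := by
  intro h
  obtain ⟨t, ht, hne⟩ := D.vnc
  exact hne (D.mem_Zt h t ht).symm

theorem card_Zt (D : Core S z R T C s y z1 v) :
    Nat.card ↥(R ⊓ R.map (MulAut.conj s).toMonoidHom) = 2 * Nat.card C := by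
  set R' := R.map (MulAut.conj s).toMonoidHom with hR'
  have h1 := card_eq_mul_relIndex (inf_le_right : R ⊓ R' ≤ R')
  rw [inf_relIndex_right, card_map_conj] at h1
  have hle : R.relIndex R' ≤ 2 :=
    D.relR ▸ relIndex_le_of_le_right D.map_le (by rw [D.relR]; omega)
  have hne : R.relIndex R' ≠ 1 := fun h => D.map_ne
    (Subgroup.eq_of_le_of_card_ge (relIndex_eq_one.1 h) (card_map_conj R s).ge)
  have hne0 : R.relIndex R' ≠ 0 := fun h => by
    rw [h, mul_zero] at h1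
    exact Nat.card_pos.ne' h1
  have h2 : R.relIndex R' = 2 := by omega
  rw [h2] at h1
  have := D.cardR
  omega

/-- Every element of the centre of `T` lies in `C ∪ z₁C`. -/
theorem Zt_cases (D : Core S z R T C s y z1 v) {x : G}
    (hx : x ∈ R ⊓ R.map (MulAut.conj s).toMonoidHom) : x ∈ C ∨ z1 * x ∈ C := by
  refine or_iff_not_imp_left.2 fun h => ?_
  exact mul_mem_of_relIndex_two (relIndex_eq_two_of_card D.C_le_Zt D.card_Zt) D.z1_mem_Zt D.z1C
    hx h

theorem sq_Zt (D : Core S z R T C s y z1 v) {x : G}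
    (hx : x ∈ R ⊓ R.map (MulAut.conj s).toMonoidHom) : ∃ c ∈ C, x * x = c * c :=
  D.sqC x hx.1

/-- Conjugation by `s` swaps the two abelian subgroups. -/
theorem s_swap (D : Core S z R T C s y z1 v) {r : G}
    (hr : r ∈ R.map (MulAut.conj s).toMonoidHom) : s * r * s⁻¹ ∈ R := by
  have h1 := D.TnormR _ D.s2 _ (mem_map_conj.1 hr)
  simpa [mul_assoc] using h1

theorem s_Zt (D : Core S z R T C s y z1 v) {x : G}
    (hx : x ∈ R ⊓ R.map (MulAut.conj s).toMonoidHom) :
    s * x * s⁻¹ ∈ R ⊓ R.map (MulAut.conj s).toMonoidHom :=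
  ⟨D.s_swap hx.2, ⟨x, hx.1, by simp⟩⟩

theorem T_normR' (D : Core S z R T C s y z1 v) {t r : G} (ht : t ∈ T)
    (hr : r ∈ R.map (MulAut.conj s).toMonoidHom) :
    t * r * t⁻¹ ∈ R.map (MulAut.conj s).toMonoidHom := by
  rw [mem_map_conj] at hr ⊢
  have h1 := D.TnormR _ (D.conjT_iff.2 ht) _ hr
  simpa [mul_assoc] using h1

/-- `C_T(r) = R` for `r ∈ R` outside the centre. -/
theorem cent_eq (D : Core S z R T C s y z1 v) {t r : G} (ht : t ∈ T) (hr : r ∈ R)
    (hrZ : r ∉ R ⊓ R.map (MulAut.conj s).toMonoidHom) (h : t * r = r * t) : t ∈ R := by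
  by_contra htR
  refine hrZ ((D.central_iff (D.TS (D.RT hr))).1 fun u hu => ?_)
  by_cases huR : u ∈ R
  · exact D.comm r hr u huR
  · have hp := mul_mem_of_relIndex_two D.relR hu huR (inv_mem ht)
      (fun h => htR (inv_mem_iff.1 h))
    have h2 := D.comm r hr _ hp
    calc r * u = r * (u * t⁻¹) * t := by rw [mul_assoc, inv_mul_cancel_right]
      _ = u * t⁻¹ * (t * r) := by rw [h2, h, mul_assoc]
      _ = u * r := by rw [← mul_assoc, inv_mul_cancel_right]

theorem cent_eq' (D : Core S z R T C s y z1 v) {t r : G} (ht : t ∈ T)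
    (hr : r ∈ R.map (MulAut.conj s).toMonoidHom)
    (hrZ : r ∉ R ⊓ R.map (MulAut.conj s).toMonoidHom) (h : t * r = r * t) :
    t ∈ R.map (MulAut.conj s).toMonoidHom := by
  rw [mem_map_conj]
  refine D.cent_eq (D.conjT_iff.2 ht) (mem_map_conj.1 hr) (fun hz => hrZ ?_) ?_
  · simpa [mul_assoc] using D.s_Zt hz
  · have := congrArg (fun e => s⁻¹ * e * s) h
    simpa [mul_assoc] using this

/-- Elements of the third coset are not involutions, provided `C` meets no commutator. -/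
theorem third_sq (D : Core S z R T C s y z1 v)
    (hs2 : ∀ c ∈ C, s * (c * c) * s⁻¹ ∈ C)
    {m : G} (hm : m ∈ T) (hmR : m ∉ R) (hmR' : m ∉ R.map (MulAut.conj s).toMonoidHom) :
    m * m ≠ 1 := by
  intro hm2
  set R' := R.map (MulAut.conj s).toMonoidHom with hR'
  have hsub : ¬ R' ≤ R := fun hle =>
    D.map_ne (Subgroup.eq_of_le_of_card_ge hle (card_map_conj R s).ge)
  obtain ⟨r', hr', hr'R⟩ := SetLike.not_le_iff_exists.1 hsub
  set r := m * r'⁻¹ with hr
  have hrR : r ∈ R := mul_mem_of_relIndex_two D.relR hm hmR (inv_mem (D.map_le hr'))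
    (fun h => hr'R (inv_mem_iff.1 h))
  have hrR' : r ∉ R' := fun h => hmR' (by simpa [hr] using mul_mem h hr')
  -- squares
  obtain ⟨c, hc, hrc⟩ := D.sqC r hrR
  obtain ⟨d, hd, hrd⟩ := D.sqC _ (mem_map_conj.1 hr')
  have hr'sq : r' * r' ∈ C := by
    have h1 := hs2 d hd
    rw [← hrd] at h1
    simpa [mul_assoc] using h1
  have hr'inv : r'⁻¹ ∈ T := inv_mem (D.map_le hr')
  refine hrR' ?_
  by_contra hrZ
  have hcom : r' * r * r'⁻¹ * r⁻¹ ∈ C := by
    have h1 : r * r' = m := by rw [hr, inv_mul_cancel_right]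
    have h2 : r * r' * (r * r') = 1 := by rw [h1, hm2]
    have h3 : r' * r = r⁻¹ * r'⁻¹ := by
      have := congrArg (fun e => r⁻¹ * e * r'⁻¹) h2
      simpa [mul_assoc] using this
    have h4 : r' * r * r'⁻¹ * r⁻¹ = r⁻¹ * (r' * r')⁻¹ * r⁻¹ := by rw [h3]; group
    have h5 : r⁻¹ * (r' * r')⁻¹ * r⁻¹ = (r * r)⁻¹ * (r' * r')⁻¹ := by
      have h6 := D.comm r hrR _ (inv_mem (D.CR hr'sq))
      calc r⁻¹ * (r' * r')⁻¹ * r⁻¹ = r⁻¹ * r⁻¹ * (r * (r' * r')⁻¹) * r⁻¹ := by group
        _ = r⁻¹ * r⁻¹ * ((r' * r')⁻¹ * r) * r⁻¹ := by rw [h6]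
        _ = (r * r)⁻¹ * (r' * r')⁻¹ := by group
    rw [h4, h5, hrc]
    exact mul_mem (inv_mem (mul_mem hc hc)) (inv_mem hr'sq)
  have h6 := D.commV r' (D.map_le hr') r hrR hcom
  exact hr'R (D.cent_eq (D.map_le hr') hrR (fun h => hrZ h.2) h6)

theorem invol_mem (D : Core S z R T C s y z1 v)
    (hs2 : ∀ c ∈ C, s * (c * c) * s⁻¹ ∈ C) {m : G} (hm : m ∈ T) (hm2 : m * m = 1) :
    m ∈ R ∨ m ∈ R.map (MulAut.conj s).toMonoidHom := by
  by_contra! h
  exact D.third_sq hs2 hm h.1 h.2 hm2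

end Core

end CfsgLib.Recog.ChainEight
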