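import Cfsg.Agent.Lib.Recog.ChainEight.Parabolic

/-!
# The central module and an offender
-/

set_option autoImplicit false
set_option linter.unusedSectionVars false

namespace CfsgLib.Recog.ChainEight

open Subgroup

variable {G : Type*} [Group G] [Finite G]

/-- The product of two commuting subgroups. -/
def prodComm (A B : Subgroup G) (h : ∀ a ∈ A, ∀ b ∈ B, a * b = b * a) : Subgroup G where
  carrier := {x | ∃ a ∈ A, ∃ b ∈ B, x = a * b}
  one_mem' := ⟨1, one_mem _, 1, one_mem _, (mul_one 1).symm⟩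
  mul_mem' := by
    rintro _ _ ⟨a, ha, b, hb, rfl⟩ ⟨a', ha', b', hb', rfl⟩
    refine ⟨a * a', mul_mem ha ha', b * b', mul_mem hb hb', ?_⟩
    rw [mul_assoc, ← mul_assoc b a' b', ← h a' ha' b hb, mul_assoc a' b b', ← mul_assoc]
  inv_mem' := by
    rintro _ ⟨a, ha, b, hb, rfl⟩
    refine ⟨a⁻¹, inv_mem ha, b⁻¹, inv_mem hb, ?_⟩
    rw [mul_inv_rev, h a⁻¹ (inv_mem ha) b⁻¹ (inv_mem hb)]

theorem prodComm_sq {A B : Subgroup G} (h : ∀ a ∈ A, ∀ b ∈ B, a * b = b * a)
    (hA : ∀ a ∈ A, a * a = 1) (hB : ∀ b ∈ B, b * b = 1) :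
    ∀ x ∈ prodComm A B h, x * x = 1 := by
  rintro _ ⟨a, ha, b, hb, rfl⟩
  rw [mul_assoc, ← mul_assoc b a b, ← h a ha b hb, mul_assoc a b b, hB b hb, mul_one, hA a ha]

theorem elem_comm {A : Subgroup G} (hA : ∀ a ∈ A, a * a = 1) {a b : G} (ha : a ∈ A)
    (hb : b ∈ A) : a * b = b * a := by
  have h := hA _ (mul_mem ha hb)
  rw [← inv_eq_of_mul_eq_one_right h, mul_inv_rev, inv_eq_of_mul_eq_one_right (hA a ha),
    inv_eq_of_mul_eq_one_right (hA b hb)]

/-- The subgroup generated by the conjugates of `z` in `N(R)`. -/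
def vee (R : Subgroup G) (z : G) : Subgroup G :=
  Subgroup.closure {x | ∃ g ∈ normalizer (R : Set G), x = g * z * g⁻¹}

namespace Para

variable {S : Sylow 2 G} {z : G} {R T : Subgroup G}

theorem z_central (H : Para S z R T) {r : G} (hr : r ∈ R) : r * z = z * r :=
  H.z_comm (H.TS (H.RT hr))

theorem z_mem_vee (_H : Para S z R T) : z ∈ vee R z :=
  Subgroup.subset_closure ⟨1, one_mem _, by simp⟩

theorem conj_mem_vee (_H : Para S z R T) {g : G} (hg : g ∈ normalizer (R : Set G)) :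
    g * z * g⁻¹ ∈ vee R z :=
  Subgroup.subset_closure ⟨g, hg, rfl⟩

theorem vee_props (H : Para S z R T) {v : G} (hv : v ∈ vee R z) :
    v ∈ R ∧ (∀ r ∈ R, r * v = v * r) ∧ v * v = 1 := by
  refine Subgroup.closure_induction (p := fun v _ => v ∈ R ∧ (∀ r ∈ R, r * v = v * r) ∧ v * v = 1)
    ?_ ⟨one_mem _, fun r _ => by simp, one_mul 1⟩ ?_ ?_ hv
  · rintro _ ⟨g, hg, rfl⟩
    refine ⟨(mem_normalizer_iff.1 hg z).1 H.zR, fun r hr => ?_, ?_⟩
    · have h1 := (mem_normalizer_iff.1 (inv_mem hg) r).1 hr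
      have h2 := conj_comm (g := g) (H.z_central h1)
      simpa [mul_assoc] using h2
    · rw [show g * z * g⁻¹ * (g * z * g⁻¹) = g * (z * z) * g⁻¹ by group, H.z2]; simp
  · rintro a b _ _ ⟨ha, hac, ha2⟩ ⟨hb, hbc, hb2⟩
    refine ⟨mul_mem ha hb, fun r hr => ?_, ?_⟩
    · rw [← mul_assoc, hac r hr, mul_assoc, hbc r hr, mul_assoc]
    · rw [mul_assoc, ← mul_assoc b a b, ← hbc a ha, mul_assoc a b b, hb2, mul_one, ha2]
  · rintro a _ ⟨ha, hac, ha2⟩
    rw [inv_eq_of_mul_eq_one_right ha2]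
    exact ⟨ha, hac, ha2⟩

theorem vee_le (H : Para S z R T) : vee R z ≤ R := fun _ hv => (H.vee_props hv).1

theorem vee_conj (H : Para S z R T) {g v : G} (hg : g ∈ normalizer (R : Set G))
    (hv : v ∈ vee R z) : g * v * g⁻¹ ∈ vee R z := by
  have hle : vee R z ≤ (vee R z).comap (MulAut.conj g).toMonoidHom := by
    refine (Subgroup.closure_le _).2 ?_
    rintro _ ⟨h, hh, rfl⟩
    simpa [mul_assoc] using H.conj_mem_vee (mul_mem hg hh)
  simpa using hle hv

/-- `C_X(V) ≤ R`. -/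
theorem cent_vee (H : Para S z R T) {x : G} (hx : x ∈ normalizer (R : Set G))
    (hxv : ∀ v ∈ vee R z, x * v = v * x) : x ∈ R := by
  set X := normalizer (R : Set G) with hX
  set Q := X ⊓ centralizer (vee R z : Set G) with hQ
  have hRQ : R ≤ Q := fun r hr => mem_inf.2 ⟨le_normalizer hr,
    mem_centralizer_iff.2 fun v hv => ((H.vee_props hv).2.1 r hr).symm⟩
  have hQT : Q ≤ T := fun q hq => H.mem_T_of_comm (mem_inf.1 hq).1
    (mem_centralizer_iff.1 (mem_inf.1 hq).2 z H.z_mem_vee).symm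
  have hXQ : X ≤ normalizer (Q : Set G) := by
    intro g hg
    have hfwd : ∀ g ∈ X, ∀ q ∈ Q, g * q * g⁻¹ ∈ Q := by
      intro g hg q hq
      refine mem_inf.2 ⟨mul_mem (mul_mem hg (mem_inf.1 hq).1) (inv_mem hg),
        mem_centralizer_iff.2 fun v hv => ?_⟩
      have h1 := mem_centralizer_iff.1 (mem_inf.1 hq).2 _ (H.vee_conj (inv_mem hg) hv)
      have h2 := congrArg (fun e => g * e * g⁻¹) h1
      simpa [mul_assoc] using h2
    refine mem_normalizer_iff.2 fun q => ⟨hfwd g hg q, fun h => ?_⟩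
    have := hfwd g⁻¹ (inv_mem hg) _ h
    simpa [mul_assoc] using this
  by_cases hlt : R = Q
  · exact hlt ▸ mem_inf.2 ⟨hx, mem_centralizer_iff.2 fun v hv => (hxv v hv).symm⟩
  · exfalso
    refine H.X_not_le_T fun g hg => ?_
    exact H.key_eq (lt_of_le_of_ne hRQ hlt) hQT (H.TN.trans hXQ) hg (hXQ hg)

/-- Some element of an elementary abelian offender leaves `R`. -/
theorem offender (H : Para S z R T) : ∃ A : Subgroup G, A ≤ T ∧ (∀ a ∈ A, a * a = 1) ∧ ¬ A ≤ R ∧
    (A ⊓ R).relIndex (vee R z) ≤ (A ⊓ R).relIndex A := by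
  classical
  let K := {A : Subgroup G // A ≤ T ∧ ∀ a ∈ A, a * a = 1}
  have : Nonempty K := ⟨⟨⊥, bot_le, fun a ha => by simp [mem_bot.1 ha]⟩⟩
  obtain ⟨⟨A0, hA0T, hA0⟩, hmax⟩ := Finite.exists_max fun A : K => Nat.card A.1
  set m := Nat.card A0 with hm
  have hmax' : ∀ A : Subgroup G, A ≤ T → (∀ a ∈ A, a * a = 1) → Nat.card A ≤ m :=
    fun A h1 h2 => hmax ⟨A, h1, h2⟩
  by_cases hall : ∀ A : Subgroup G, A ≤ T → (∀ a ∈ A, a * a = 1) → Nat.card A = m → A ≤ R
  · exfalso
    set Fam := {A : Subgroup G | A ≤ T ∧ (∀ a ∈ A, a * a = 1) ∧ Nat.card A = m} with hFam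
    set J := sSup Fam with hJ
    have hJR : J ≤ R := sSup_le fun A hA => hall A hA.1 hA.2.1 hA.2.2
    have hzA0 : z ∈ A0 := by
      have hc : ∀ a ∈ A0, ∀ b ∈ zpowers z, a * b = b * a := by
        intro a ha b hb
        obtain ⟨j, rfl⟩ := mem_zpowers_iff.1 hb
        exact (Commute.zpow_right (H.z_comm (H.TS (hA0T ha))) j).eq
      have hzp : ∀ b ∈ zpowers z, b * b = 1 := by
        intro b hb
        obtain ⟨j, rfl⟩ := mem_zpowers_iff.1 hb
        rw [← (Commute.refl z).mul_zpow, H.z2, one_zpow]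
      have hle : A0 ≤ prodComm A0 (zpowers z) hc := fun a ha =>
        ⟨a, ha, 1, one_mem _, (mul_one a).symm⟩
      have hT : prodComm A0 (zpowers z) hc ≤ T := by
        rintro _ ⟨a, ha, b, hb, rfl⟩
        exact mul_mem (hA0T ha) (zpowers_le.2 (H.RT H.zR) hb)
      have heq := Subgroup.eq_of_le_of_card_ge hle (hmax' _ hT (prodComm_sq hc hA0 hzp))
      rw [heq]
      exact ⟨1, one_mem _, z, mem_zpowers z, (one_mul z).symm⟩
    have hzJ : z ∈ J := le_sSup (show A0 ∈ Fam from ⟨hA0T, hA0, rfl⟩) hzA0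
    have hconj : ∀ g : G, (∀ A ∈ Fam, A.map (MulAut.conj g).toMonoidHom ≤ T) →
        g ∈ normalizer (J : Set G) := by
      intro g hg
      have hle : J.map (MulAut.conj g).toMonoidHom ≤ J := by
        rw [map_le_iff_le_comap]
        refine sSup_le fun A hA => ?_
        rw [← map_le_iff_le_comap]
        refine le_sSup ⟨hg A hA, ?_, ?_⟩
        · rintro _ ⟨a, ha, rfl⟩
          rw [← map_mul, hA.2.1 a ha, map_one]
        · rw [card_map_conj]; exact hA.2.2
      have heq := Subgroup.eq_of_le_of_card_ge hle (card_map_conj J g).ge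
      rw [mem_normalizer_iff]
      intro w
      constructor
      · intro hw; exact hle ⟨w, hw, by simp⟩
      · intro hw
        rw [← heq, mem_map_conj] at hw
        simpa [mul_assoc] using hw
    obtain ⟨g, hg, hodd, hgc⟩ := H.good
    have hgJ : g ∈ normalizer (J : Set G) := hconj g fun A hA => by
      rintro _ ⟨a, ha, rfl⟩
      simpa using H.RT ((mem_normalizer_iff.1 hg a).1 (hall A hA.1 hA.2.1 hA.2.2 ha))
    have hgood : Good J := ⟨g, hgJ, hodd, fun h => hgc (by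
      rw [H.odd_mem_S (H.mem_S_of_comm (mem_centralizer_iff.1 h z hzJ).symm) hodd]
      exact one_mem _)⟩
    set P := (S : Subgroup G) ⊓ normalizer (T : Set G) with hP
    have hTP : T ≤ P := le_inf H.TS le_normalizer
    have hPJ : P ≤ normalizer (J : Set G) := fun p hp => hconj p fun A hA => by
      rintro _ ⟨a, ha, rfl⟩
      simpa using (mem_normalizer_iff.1 (mem_inf.1 hp).2 a).1 (hA.1 ha)
    have h := (H.max J P hgood (S.2.to_le inf_le_left)
      (hJR.trans (H.RT.trans hTP)) hPJ).1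
    have heq := Subgroup.eq_of_le_of_card_ge hTP h
    obtain ⟨s, hs, hsT, -, hsN⟩ := H.exists_s
    exact hsT (heq.ge (mem_inf.2 ⟨hs, hsN⟩))
  · push Not at hall
    obtain ⟨A, hAT, hA, hAm, hAR⟩ := hall
    refine ⟨A, hAT, hA, hAR, ?_⟩
    set D := A ⊓ R with hD
    have hc : ∀ a ∈ D, ∀ b ∈ vee R z, a * b = b * a := fun a ha b hb =>
      (H.vee_props hb).2.1 a (mem_inf.1 ha).2
    set E := prodComm D (vee R z) hc with hE
    have hVE : vee R z ≤ E := fun v hv => ⟨1, one_mem _, v, hv, (one_mul v).symm⟩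
    have hDE : D ≤ E := fun v hv => ⟨v, hv, 1, one_mem _, (mul_one v).symm⟩
    have hER : E ≤ T := by
      rintro _ ⟨a, ha, b, hb, rfl⟩
      exact H.RT (mul_mem (mem_inf.1 ha).2 (H.vee_le hb))
    have hEm : Nat.card E ≤ m := hmax' E hER
      (prodComm_sq hc (fun a ha => hA a (mem_inf.1 ha).1) fun b hb => (H.vee_props hb).2.2)
    have h1 : D.relIndex (vee R z) ≤ D.relIndex E :=
      relIndex_le_of_le_right hVE (fun h => by
        have := card_eq_mul_relIndex hDE
        rw [h, mul_zero] at this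
        exact Nat.card_pos.ne' this)
    have h2 : D.relIndex E ≤ D.relIndex A := by
      have e1 := card_eq_mul_relIndex hDE
      have e2 := card_eq_mul_relIndex (inf_le_left : D ≤ A)
      rw [hAm] at e2
      exact Nat.le_of_mul_le_mul_left (e1 ▸ e2 ▸ hEm) Nat.card_pos
    exact h1.trans h2

end Para

end CfsgLib.Recog.ChainEight
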