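import Cfsg.Agent.Lib.Recog.ChainEight.Base

/-!
# Basic properties of the parabolic
-/

set_option autoImplicit false
set_option linter.unusedSectionVars false

namespace CfsgLib.Recog.ChainEight

open Subgroup

variable {G : Type*} [Group G] [Finite G]

theorem exists_odd_pow (g : G) : ∃ a : ℕ, Odd (orderOf (g ^ (2 ^ a))) := by
  obtain ⟨a, m, hm, h⟩ := Nat.exists_eq_two_pow_mul_odd (orderOf_pos g).ne'
  refine ⟨a, ?_⟩
  rw [orderOf_pow, h, Nat.gcd_eq_right (dvd_mul_right _ _), Nat.mul_div_cancel_left _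
    (by positivity)]
  exact hm

theorem Setup.exists_para {S : Sylow 2 G} (H : Setup S) :
    ∃ z R T, Para S z R T := by
  classical
  have : Fact (Nat.Prime 2) := ⟨Nat.prime_two⟩
  obtain ⟨z, hz2, hz1, hzc⟩ := H.exists_z
  let K := {q : Subgroup G × Subgroup G //
    Good q.1 ∧ IsPGroup 2 q.2 ∧ q.1 ≤ q.2 ∧ q.2 ≤ normalizer (q.1 : Set G)}
  have : Nonempty K := by
    obtain ⟨R, hR, hg⟩ := H.exists_good
    exact ⟨⟨(R, R), hg, hR, le_rfl, le_normalizer⟩⟩
  let μ : K → ℕ := fun q => Nat.card q.1.2 * (Nat.card G + 1) + Nat.card q.1.1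
  obtain ⟨⟨⟨R0, P0⟩, hg0, hP0, hR0P0, hP0N⟩, hmax⟩ := Finite.exists_max μ
  obtain ⟨S', hS'⟩ := hP0.exists_le_sylow
  obtain ⟨g, hg⟩ := MulAction.exists_smul_eq G S S'
  set c := (MulAut.conj g⁻¹).toMonoidHom with hc
  set R := R0.map c with hR
  set T := (S : Subgroup G) ⊓ normalizer (R : Set G) with hT
  have hPT : P0.map c ≤ T := by
    rintro _ ⟨p, hp, rfl⟩
    refine mem_inf.2 ⟨?_, mem_normalizer_iff.2 fun x => ?_⟩
    · have h1 := hS' hp
      rw [← hg] at h1
      have h2 : g⁻¹ * p * g ∈ (S : Subgroup G) := CfsgLib.Transfer.sylow_smul_mem_iff.1 h1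
      simpa [hc] using h2
    · rw [hR, mem_map_conj, mem_map_conj, mem_normalizer_iff.1 (hP0N hp)]
      simp [hc, mul_assoc]
  have hRT : R ≤ T := (Subgroup.map_mono hR0P0).trans hPT
  have hcardR : Nat.card R = Nat.card R0 := card_map_conj _ _
  have hcardP : Nat.card P0 ≤ Nat.card T := by
    rw [← card_map_conj P0 g⁻¹]
    exact Nat.le_of_dvd Nat.card_pos (card_dvd_of_le hPT)
  have hT2 : IsPGroup 2 T := S.2.to_le inf_le_left
  have hgood : Good R := good_map_conj hg0 _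
  have hle : ∀ A : Subgroup G, Nat.card A ≤ Nat.card G := fun A => card_le_card_group A
  have hTm := hmax ⟨(R, T), hgood, hT2, hRT, inf_le_right⟩
  simp only [μ] at hTm
  have hPT' : Nat.card T = Nat.card P0 := by
    refine le_antisymm ?_ hcardP
    by_contra hlt
    nlinarith [hle R0]
  refine ⟨z, R, T,
    { toSetup := H
      z2 := hz2
      zne := hz1
      centz := hzc
      R2 := hT2.to_le hRT
      good := hgood
      RT := hRT
      TS := inf_le_left
      Tdef := rfl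
      max := ?_ }⟩
  intro R' P hR' hP hRP hPN
  have h := hmax ⟨(R', P), hR', hP, hRP, hPN⟩
  simp only [μ] at h
  refine ⟨?_, fun he => ?_⟩
  · rw [hPT']
    by_contra hlt
    nlinarith [hle R0]
  · rw [hcardR]
    rw [he, hPT'] at h
    omega

namespace Para

variable {S : Sylow 2 G} {z : G} {R T : Subgroup G}

theorem T2 (H : Para S z R T) : IsPGroup 2 T := S.2.to_le H.TS

theorem TN (H : Para S z R T) : T ≤ normalizer (R : Set G) := H.Tdef ▸ inf_le_right

theorem mem_T (H : Para S z R T) {x : G} (hx : x ∈ (S : Subgroup G))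
    (hx' : x ∈ normalizer (R : Set G)) : x ∈ T := by rw [H.Tdef]; exact ⟨hx, hx'⟩

theorem sylow_X (H : Para S z R T) {P : Subgroup G} (hP : IsPGroup 2 P) (hTP : T ≤ P)
    (hPN : P ≤ normalizer (R : Set G)) : P = T :=
  (Subgroup.eq_of_le_of_card_ge hTP (H.max R P H.good hP (H.RT.trans hTP) hPN).1).symm

theorem odd_mem_S (_H : Para S z R T) {g : G} (hg : g ∈ (S : Subgroup G))
    (hodd : Odd (orderOf g)) : g = 1 := by
  obtain ⟨k, hk⟩ := S.2 ⟨g, hg⟩
  have hk' : g ^ (2 ^ k) = 1 := by simpa using congrArg Subtype.val hk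
  exact orderOf_eq_one_iff.1 (Nat.eq_one_of_dvd_coprimes
    (Nat.Coprime.pow_right k (Nat.coprime_two_right.2 hodd)) dvd_rfl (orderOf_dvd_of_pow_eq_one hk'))

theorem R_ne_bot (H : Para S z R T) : R ≠ ⊥ := by
  intro h
  obtain ⟨g, -, -, hgc⟩ := H.good
  refine hgc (mem_centralizer_iff.2 fun x hx => ?_)
  rw [SetLike.mem_coe, h, mem_bot] at hx
  simp [hx]

theorem X_ne_top (H : Para S z R T) : normalizer (R : Set G) ≠ ⊤ :=
  H.toSetup.normalizer_ne_top H.R2 H.R_ne_bot

theorem T_lt_S (H : Para S z R T) : T < (S : Subgroup G) := by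
  refine lt_of_le_of_ne H.TS fun h => ?_
  have hX := H.toSetup.maxS (h.ge.trans H.TN) H.X_ne_top
  obtain ⟨g, hg, hodd, hgc⟩ := H.good
  exact hgc (H.odd_mem_S (hX.le hg) hodd ▸ one_mem _)

theorem exists_s (H : Para S z R T) :
    ∃ s ∈ (S : Subgroup G), s ∉ T ∧ s * s ∈ T ∧ s ∈ normalizer (T : Set G) := by
  have : Fact (Nat.Prime 2) := ⟨Nat.prime_two⟩
  obtain ⟨x, hx, hxN, hxT⟩ :=
    CfsgLib.Transfer.exists_mem_normalizer_not_mem S.2 H.T_lt_S
  obtain ⟨k, hk⟩ := S.2 ⟨x, hx⟩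
  have hk' : x ^ (2 ^ k) = 1 := by simpa using congrArg Subtype.val hk
  classical
  have hex : ∃ j, x ^ (2 ^ j) ∈ T := ⟨k, hk' ▸ one_mem _⟩
  have h0 : Nat.find hex ≠ 0 := fun h => hxT (by simpa [h] using Nat.find_spec hex)
  obtain ⟨j, hj⟩ := Nat.exists_eq_succ_of_ne_zero h0
  refine ⟨x ^ (2 ^ j), pow_mem hx _, Nat.find_min hex (by omega), ?_, pow_mem hxN _⟩
  have := Nat.find_spec hex
  rw [hj] at this
  rwa [← pow_add, ← two_mul, ← pow_succ']

theorem z_comm (H : Para S z R T) {g : G} (hg : g ∈ (S : Subgroup G)) : g * z = z * g := by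
  rw [← H.centz] at hg
  exact mem_cent_singleton.1 hg

theorem mem_S_of_comm (H : Para S z R T) {g : G} (hg : g * z = z * g) :
    g ∈ (S : Subgroup G) := by
  rw [← H.centz]
  exact mem_cent_singleton.2 hg

/-- `C_T(R) ≤ R`. -/
theorem self_T (H : Para S z R T) {x : G} (hx : x ∈ T) (hxc : x ∈ centralizer (R : Set G)) :
    x ∈ R := by
  have : Fact (Nat.Prime 2) := ⟨Nat.prime_two⟩
  set X := normalizer (R : Set G) with hX
  set Cx := (centralizer (R : Set G)).subgroupOf X with hCx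
  have hCn : Cx.Normal := by
    refine ⟨fun c hc g => ?_⟩
    rw [hCx, mem_subgroupOf, mem_centralizer_iff] at hc ⊢
    intro r hr
    have h1 := (mem_normalizer_iff.1 (inv_mem g.2) r).1 hr
    have h2 := hc _ h1
    have h3 := congrArg (fun e => (g : G) * e * (g : G)⁻¹) h2
    simpa [mul_assoc] using h3
  have hTx : IsPGroup 2 (T.subgroupOf X) := H.T2.comap_subtype
  obtain ⟨P, hP⟩ := hTx.exists_le_sylow
  have hPT : (P : Subgroup X) = T.subgroupOf X := by
    have h1 : T ≤ ((P : Subgroup X).map X.subtype) := fun t ht =>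
      ⟨⟨t, H.TN ht⟩, hP ht, rfl⟩
    have h2 := H.sylow_X (P.2.map X.subtype) h1 (Subgroup.map_subtype_le _)
    rw [← h2, subgroupOf, comap_map_eq_self_of_injective (subtype_injective X)]
  obtain ⟨Q, hQ⟩ := CfsgLib.Transfer.exists_sylow_eq_subgroupOf P Cx
  have hfr := Sylow.normalizer_sup_eq_top Q
  set K := (Q : Subgroup Cx).map Cx.subtype with hK
  have hKmem : ∀ y : X, y ∈ K ↔ (y : G) ∈ T ∧ (y : G) ∈ centralizer (R : Set G) := by
    intro y
    rw [hK, hQ, subgroupOf_map_subtype, mem_inf, hPT]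
    rfl
  obtain ⟨g, hg, hodd, hgc⟩ := H.good
  have hgtop : (⟨g, hg⟩ : X) ∈ normalizer (K : Set X) ⊔ Cx := hfr ▸ mem_top _
  rw [← SetLike.mem_coe, mul_normal] at hgtop
  obtain ⟨n, hn, c, hc, hnc⟩ := hgtop
  obtain ⟨a, ha⟩ := exists_odd_pow (n : G)
  -- `n ^ 2 ^ a` does not centralise `R`
  have hn0 : (n : G) ^ (2 ^ a) ∉ centralizer (R : Set G) := by
    intro h
    apply hgc
    have e : QuotientGroup.mk' Cx ⟨g, hg⟩ = QuotientGroup.mk' Cx n := by
      rw [← hnc]
      show QuotientGroup.mk' Cx (n * c) = _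
      rw [map_mul, (QuotientGroup.eq_one_iff c).2 hc |> fun h => (show QuotientGroup.mk' Cx c = 1 from h),
        mul_one]
    have h1 : QuotientGroup.mk' Cx ⟨g, hg⟩ ^ (2 ^ a) = 1 := by
      rw [e, ← map_pow]
      exact (QuotientGroup.eq_one_iff _).2 (by simpa [hCx, mem_subgroupOf] using h)
    have h2 : QuotientGroup.mk' Cx ⟨g, hg⟩ ^ orderOf g = 1 := by
      rw [← map_pow, show (⟨g, hg⟩ : X) ^ orderOf g = 1 from
        Subtype.ext (by simp [pow_orderOf_eq_one]), map_one]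
    have h3 : orderOf (QuotientGroup.mk' Cx ⟨g, hg⟩) = 1 := Nat.eq_one_of_dvd_coprimes
      (Nat.Coprime.pow_left a (Nat.coprime_two_left.2 hodd)) (orderOf_dvd_of_pow_eq_one h1)
      (orderOf_dvd_of_pow_eq_one h2)
    exact mem_subgroupOf.1 ((QuotientGroup.eq_one_iff _).1 (orderOf_eq_one_iff.1 h3))
  set Q' := R ⊔ (T ⊓ centralizer (R : Set G)) with hQ'
  have hQT : Q' ≤ T := sup_le H.RT inf_le_left
  have hnormQ : ∀ e ∈ X, (∀ y ∈ T ⊓ centralizer (R : Set G), e * y * e⁻¹ ∈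
      T ⊓ centralizer (R : Set G)) → e ∈ normalizer (Q' : Set G) := by
    intro e he hey
    have hle : Q'.map (MulAut.conj e).toMonoidHom ≤ Q' := by
      rw [hQ', Subgroup.map_sup]
      refine sup_le ?_ ?_
      · rintro _ ⟨r, hr, rfl⟩
        exact le_sup_left (a := R) (by simpa using (mem_normalizer_iff.1 he r).1 hr)
      · rintro _ ⟨y, hy, rfl⟩
        exact le_sup_right (a := R) (by simpa using hey y hy)
    have heq := Subgroup.eq_of_le_of_card_ge hle (card_map_conj Q' e).ge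
    rw [mem_normalizer_iff]
    intro w
    rw [← SetLike.mem_coe, ← SetLike.mem_coe]
    constructor
    · intro hw; exact hle ⟨w, hw, by simp⟩
    · intro hw
      rw [← heq, SetLike.mem_coe, mem_map_conj] at hw
      simpa [mul_assoc] using hw
  have hn' : (n : G) ^ (2 ^ a) ∈ normalizer (Q' : Set G) := by
    refine pow_mem (hnormQ n n.2 fun y hy => ?_) _
    have hyX : y ∈ X := H.TN hy.1
    have h1 := (mem_normalizer_iff.1 hn ⟨y, hyX⟩).1 ((hKmem _).2 ⟨hy.1, hy.2⟩)
    have h2 := (hKmem _).1 h1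
    exact mem_inf.2 ⟨by simpa using h2.1, by simpa using h2.2⟩
  have hTQ : T ≤ normalizer (Q' : Set G) := by
    intro t ht
    refine hnormQ t (H.TN ht) fun y hy =>
      mem_inf.2 ⟨mul_mem (mul_mem ht hy.1) (inv_mem ht), ?_⟩
    rw [mem_centralizer_iff]
    intro r hr
    have h1 := (mem_normalizer_iff.1 (inv_mem (H.TN ht)) r).1 hr
    have h2 := (mem_centralizer_iff.1 hy.2) _ h1
    have h3 := congrArg (fun e => t * e * t⁻¹) h2
    simpa [mul_assoc] using h3
  have hgoodQ : Good Q' :=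
    ⟨_, hn', ha, fun h => hn0 (centralizer_le (le_sup_left : R ≤ Q') h)⟩
  have hcard := (H.max Q' T hgoodQ H.T2 hQT hTQ).2 rfl
  have heq : R = Q' := Subgroup.eq_of_le_of_card_ge le_sup_left hcard
  exact heq ▸ le_sup_right (a := R) (mem_inf.2 ⟨hx, hxc⟩)

theorem zR (H : Para S z R T) : z ∈ R := by
  have hzS : z ∈ (S : Subgroup G) := H.mem_S_of_comm rfl
  have hzN : z ∈ centralizer (R : Set G) :=
    mem_centralizer_iff.2 fun r hr => H.z_comm (H.TS (H.RT hr))
  refine H.self_T (H.mem_T hzS ?_) hzN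
  rw [mem_normalizer_iff]
  intro x
  constructor
  · intro hx
    rw [← mem_centralizer_iff.1 hzN x hx, mul_inv_cancel_right]
    exact hx
  · intro hx
    have := mem_centralizer_iff.1 hzN _ hx
    rw [inv_mul_cancel_right] at this
    have e : z * x * z⁻¹ = x := mul_left_cancel (this.symm.trans rfl)
    rwa [e] at hx

theorem centralizer_le_R (H : Para S z R T) : centralizer (R : Set G) ≤ R := fun x hx =>
  H.self_T (H.mem_T (H.mem_S_of_comm (mem_centralizer_iff.1 hx z H.zR).symm)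
    (centralizer_le_normalizer _ hx)) hx

/-- Normalisers of larger `T`-invariant subgroups of `T` are `2`-groups. -/
theorem key (H : Para S z R T) {Q : Subgroup G} (hRQ : R < Q) (hQT : Q ≤ T)
    (hTQ : T ≤ normalizer (Q : Set G)) : IsPGroup 2 (normalizer (Q : Set G)) := by
  intro q
  obtain ⟨a, ha⟩ := exists_odd_pow (q : G)
  refine ⟨a, Subtype.ext ?_⟩
  push_cast
  set g := (q : G) ^ (2 ^ a)
  have hgN : g ∈ normalizer (Q : Set G) := pow_mem q.2 _
  by_cases hgc : g ∈ centralizer (Q : Set G)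
  · exact H.odd_mem_S (H.mem_S_of_comm
      (mem_centralizer_iff.1 hgc z (hRQ.le H.zR)).symm) ha
  · exfalso
    have hcard := (H.max Q T ⟨g, hgN, ha, hgc⟩ H.T2 hQT hTQ).2 rfl
    exact hRQ.ne (Subgroup.eq_of_le_of_card_ge hRQ.le hcard)

/-- In `N(R)`, such normalisers are `T`. -/
theorem key_eq (H : Para S z R T) {Q : Subgroup G} (hRQ : R < Q) (hQT : Q ≤ T)
    (hTQ : T ≤ normalizer (Q : Set G)) {x : G} (hx : x ∈ normalizer (R : Set G))
    (hxQ : x ∈ normalizer (Q : Set G)) : x ∈ T := by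
  have h := H.sylow_X (P := normalizer (R : Set G) ⊓ normalizer (Q : Set G))
    ((H.key hRQ hQT hTQ).to_le inf_le_right) (le_inf H.TN hTQ) inf_le_left
  exact h ▸ mem_inf.2 ⟨hx, hxQ⟩

theorem mem_T_of_comm (H : Para S z R T) {x : G} (hx : x ∈ normalizer (R : Set G))
    (hxz : x * z = z * x) : x ∈ T := H.mem_T (H.mem_S_of_comm hxz) hx

theorem T_ne_R (H : Para S z R T) : T ≠ R := by
  intro h
  obtain ⟨s, hs, hsT, -, hsN⟩ := H.exists_s
  refine hsT (H.mem_T hs ?_)
  rwa [h] at hsN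

theorem X_not_le_T (H : Para S z R T) : ¬ normalizer (R : Set G) ≤ T := by
  intro h
  obtain ⟨g, hg, hodd, hgc⟩ := H.good
  exact hgc (H.odd_mem_S (H.TS (h hg)) hodd ▸ one_mem _)

end Para

end CfsgLib.Recog.ChainEight
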