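import Cfsg.Agent.Lib.Recog.ChainEight.Common
import Mathlib.GroupTheory.Transfer
import Mathlib.GroupTheory.SpecificGroups.Cyclic

/-!
# Small groups with self-normalizing local 2-subgroups
-/

set_option autoImplicit false
set_option linter.unusedSectionVars false

namespace CfsgLib.Recog.ChainEight

open Subgroup

variable {Y : Type*} [Group Y] [Finite Y]

/-- All normalisers of non-trivial normal subgroups of `T` lie in `T`. -/
def SelfLocal (T : Subgroup Y) : Prop :=
  ∀ Q : Subgroup Y, Q ≠ ⊥ → Q ≤ T → T ≤ normalizer (Q : Set Y) → normalizer (Q : Set Y) ≤ T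

theorem not_normal_of_selfLocal {T : Sylow 2 Y} (hl : SelfLocal (T : Subgroup Y))
    (htop : (T : Subgroup Y) ≠ ⊤) {Q : Subgroup Y} [Q.Normal] (hQ : IsPGroup 2 Q) : Q = ⊥ := by
  have : Fact (Nat.Prime 2) := ⟨Nat.prime_two⟩
  by_contra h
  obtain ⟨P, hP⟩ := hQ.exists_le_sylow
  obtain ⟨g, hg⟩ := MulAction.exists_smul_eq Y T P
  have hQT : Q ≤ (T : Subgroup Y) := by
    intro q hq
    have h1 := hP (‹Q.Normal›.conj_mem q hq g)
    rw [← hg] at h1
    have h2 : g⁻¹ * (g * q * g⁻¹) * g ∈ (T : Subgroup Y) :=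
      CfsgLib.Transfer.sylow_smul_mem_iff.1 h1
    simpa [mul_assoc] using h2
  have := hl Q h hQT (by rw [normalizer_eq_top]; exact le_top)
  rw [normalizer_eq_top] at this
  exact htop (top_le_iff.1 this)

theorem coreFree {T : Sylow 2 Y} (hl : SelfLocal (T : Subgroup Y))
    (htop : (T : Subgroup Y) ≠ ⊤) : (T : Subgroup Y).normalCore = ⊥ :=
  not_normal_of_selfLocal hl htop (T.2.to_le (normalCore_le _))

theorem card_dvd_factorial {T : Sylow 2 Y} (hl : SelfLocal (T : Subgroup Y))
    (htop : (T : Subgroup Y) ≠ ⊤) :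
    Nat.card Y ∣ Nat.factorial (T : Subgroup Y).index := by
  have h := Subgroup.index_ker (MulAction.toPermHom Y (Y ⧸ (T : Subgroup Y)))
  rw [← normalCore_eq_ker, coreFree hl htop, index_bot] at h
  rw [h, index_eq_card, ← Nat.card_perm]
  exact Subgroup.card_subgroup_dvd_card _

/-- Index at most `7` forces `|T| ≤ 4`. -/
theorem small_false {T : Sylow 2 Y} (hl : SelfLocal (T : Subgroup Y))
    (htop : (T : Subgroup Y) ≠ ⊤) (hT : Nat.card (T : Subgroup Y) = 8)
    (hi : (T : Subgroup Y).index ≤ 7) : False := by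
  classical
  have : Fact (Nat.Prime 2) := ⟨Nat.prime_two⟩
  have hodd := T.not_dvd_index
  have hdvd := card_dvd_factorial hl htop
  have hY := card_mul_index (T : Subgroup Y)
  rw [hT] at hY
  have h1 : (T : Subgroup Y).index ≠ 1 := fun h => htop (index_eq_one.1 h)
  have hq : (T : Subgroup Y).index = 5 ∨ (T : Subgroup Y).index = 7 := by
    set i := (T : Subgroup Y).index
    have hd : 8 * i ∣ Nat.factorial i := hY ▸ hdvd
    clear hdvd hY
    interval_cases i <;> norm_num [Nat.factorial] at *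
  set q := (T : Subgroup Y).index with hqdef
  have hqp : q.Prime := by rcases hq with h | h <;> rw [h] <;> norm_num
  have : Fact q.Prime := ⟨hqp⟩
  obtain ⟨P⟩ := (inferInstance : Nonempty (Sylow q Y))
  have hPcard : Nat.card (P : Subgroup Y) = q := by
    obtain ⟨k, hk⟩ := P.2.exists_card_eq
    have h1 : q ∣ Nat.card (P : Subgroup Y) :=
      P.dvd_card_of_dvd_card (hY ▸ dvd_mul_left q 8)
    have h2 : q ^ k ∣ 8 * q := by
      rw [hY, ← hk]; exact Subgroup.card_subgroup_dvd_card _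
    rw [hk] at h1 ⊢
    match k, h1, h2 with
    | 0, h1, _ => rcases hq with h | h <;> rw [h] at h1 <;> norm_num at h1
    | 1, _, _ => rw [pow_one]
    | j + 2, _, h2 =>
      exfalso
      have : q ^ 2 ∣ 8 * q := (pow_dvd_pow q (by omega)).trans h2
      rcases hq with h | h <;> rw [h] at this <;> norm_num at this
  have hPcyc : IsCyclic (P : Subgroup Y) := isCyclic_of_prime_card hPcard
  have hPi : (P : Subgroup Y).index = 8 := by
    have := card_mul_index (P : Subgroup Y)
    rw [hPcard, ← hY] at this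
    exact Nat.eq_of_mul_eq_mul_left hqp.pos (by rw [this]; ring)
  have hn : Nat.card (Sylow q Y) ∣ 8 := hPi ▸ P.card_dvd_index
  have hmod := card_sylow_modEq_one q Y
  by_cases hN : (P : Subgroup Y).Normal
  · set K := (T : Subgroup Y) ⊓ centralizer ((P : Subgroup Y) : Set Y) with hK
    have hKn : ∀ g, g ∈ (T : Subgroup Y) → g ∈ normalizer (K : Set Y) := by
      intro g hg
      have hfwd : ∀ g ∈ (T : Subgroup Y), ∀ k ∈ K, g * k * g⁻¹ ∈ K := fun g hg k hk =>
        mem_inf.2 ⟨mul_mem (mul_mem hg (mem_inf.1 hk).1) (inv_mem hg),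
          mem_centralizer_iff.2 fun p hp => by
            have h1 := mem_centralizer_iff.1 (mem_inf.1 hk).2 _ (hN.conj_mem p hp g⁻¹)
            have h2 := congrArg (fun e => g * e * g⁻¹) h1
            simpa [mul_assoc] using h2⟩
      refine mem_normalizer_iff.2 fun k => ⟨hfwd g hg k, fun h => ?_⟩
      have := hfwd g⁻¹ (inv_mem hg) _ h
      simpa [mul_assoc] using this
    have hKbot : K = ⊥ := by
      by_contra hne
      have hle := hl K hne inf_le_left hKn
      have hPN : (P : Subgroup Y) ≤ normalizer (K : Set Y) := by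
        intro p hp
        refine mem_normalizer_iff.2 fun k => ?_
        constructor
        · intro hk
          have hc : p * k = k * p := mem_centralizer_iff.1 (mem_inf.1 hk).2 p hp
          rwa [hc, mul_inv_cancel_right]
        · intro hk
          have hc := mem_centralizer_iff.1 (mem_inf.1 hk).2 p hp
          rw [inv_mul_cancel_right] at hc
          have e : p * k * p⁻¹ = k := mul_left_cancel (hc.trans rfl)
          rwa [e] at hk
      have := card_dvd_of_le (hPN.trans hle)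
      rw [hPcard, hT] at this
      rcases hq with h | h <;> rw [h] at this <;> norm_num at this
    let φ : (T : Subgroup Y) →* MulAut (P : Subgroup Y) :=
      MulAut.conjNormal.comp (T : Subgroup Y).subtype
    have hinj : Function.Injective φ := by
      refine (injective_iff_map_eq_one φ).2 fun t ht => Subtype.ext (mem_bot.1 (hKbot ▸ ?_))
      refine mem_inf.2 ⟨t.2, mem_centralizer_iff.2 fun p hp => ?_⟩
      have h3 := congrArg Subtype.val (DFunLike.congr_fun ht (⟨p, hp⟩ : (P : Subgroup Y)))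
      have h2 : (t : Y) * p * (t : Y)⁻¹ = p := by simpa [φ] using h3
      conv_lhs => rw [← h2]
      group
    have h8 := Subgroup.card_range_dvd φ
    have h8' : 8 ∣ Nat.card (MulAut (P : Subgroup Y)) := by
      rw [← hT, ← Nat.card_congr (MonoidHom.ofInjective hinj).toEquiv.symm]
      exact Subgroup.card_subgroup_dvd_card _
    rw [IsCyclic.card_mulAut, hPcard] at h8'
    rw [Nat.totient_prime hqp] at h8'
    rcases hq with h | h <;> rw [h] at h8' <;> norm_num at h8'
  · have hne1 : Nat.card (Sylow q Y) ≠ 1 := by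
      intro h1
      have : Subsingleton (Sylow q Y) := (Nat.card_eq_one_iff_unique.1 h1).1
      exact hN P.normal_of_subsingleton
    have h8 : Nat.card (Sylow q Y) = 8 := by
      obtain ⟨j, hj, he⟩ := (Nat.dvd_prime_pow Nat.prime_two).1 (show _ ∣ 2 ^ 3 from hn)
      rw [he] at hmod hne1 ⊢
      rcases hq with h | h <;> rw [h] at hmod <;> interval_cases j <;>
        simp [Nat.ModEq] at hmod hne1 ⊢
    have hNP : normalizer ((P : Subgroup Y) : Set Y) = (P : Subgroup Y) := by
      refine (Subgroup.eq_of_le_of_card_ge le_normalizer ?_).symm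
      have h1 : Nat.card (normalizer ((P : Subgroup Y) : Set Y)) * 8 = Nat.card Y := by
        rw [← h8, P.card_eq_index_normalizer]; exact card_mul_index _
      rw [← hY] at h1
      rw [hPcard]
      omega
    have hP' : normalizer ((P : Subgroup Y) : Set Y) ≤ centralizer ((P : Subgroup Y) : Set Y) := by
      rw [hNP]
      intro p hp
      refine mem_centralizer_iff.2 fun r hr => ?_
      exact congrArg Subtype.val (hPcyc.isMulCommutative.is_comm.comm ⟨r, hr⟩ ⟨p, hp⟩)
    have hc := MonoidHom.ker_transferSylow_isComplement' P hP'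
    set N := (MonoidHom.transferSylow P hP').ker
    have hNc : Nat.card N = 8 := by
      rw [← hPi, hc.index_eq_card]
    have := not_normal_of_selfLocal hl htop (Q := N) (IsPGroup.of_card (n := 3) hNc)
    rw [this, card_bot] at hNc
    omega

/-- Abelian `T`: a complement inverted by the unique involution. -/
theorem complement_inverted {T : Sylow 2 Y} (hl : SelfLocal (T : Subgroup Y))
    (htop : (T : Subgroup Y) ≠ ⊤) (hbot : (T : Subgroup Y) ≠ ⊥)
    (hcomm : ∀ a ∈ (T : Subgroup Y), ∀ b ∈ (T : Subgroup Y), a * b = b * a) :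
    ∃ (O : Subgroup Y) (t : Y), O.Normal ∧ O ⊓ (T : Subgroup Y) = ⊥ ∧
      Nat.card O = (T : Subgroup Y).index ∧ t ∈ (T : Subgroup Y) ∧ t * t = 1 ∧ t ≠ 1 ∧
      (∀ u ∈ O, t * u * t⁻¹ = u⁻¹) ∧ (∀ a ∈ O, ∀ b ∈ O, a * b = b * a) ∧
      (∀ t' ∈ (T : Subgroup Y), t' * t' = 1 → t' ≠ 1 → t' = t) := by
  classical
  have : Fact (Nat.Prime 2) := ⟨Nat.prime_two⟩
  set P : Subgroup Y := (T : Subgroup Y) with hP
  have hnorm : ∀ t ∈ P, P ≤ normalizer ((zpowers t : Subgroup Y) : Set Y) := by
    intro t ht a ha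
    refine mem_normalizer_iff.2 fun x => ?_
    constructor
    · intro hx
      rwa [hcomm a ha x (zpowers_le.2 ht hx), mul_inv_cancel_right]
    · intro hx
      have hc := hcomm a ha _ (zpowers_le.2 ht hx)
      rw [inv_mul_cancel_right] at hc
      have e : a * x * a⁻¹ = x := mul_left_cancel (hc.trans rfl)
      rwa [e] at hx
  have hTN : normalizer (P : Set Y) ≤ centralizer (P : Set Y) := fun g hg =>
    mem_centralizer_iff.2 fun r hr => hcomm r hr g (hl P hbot le_rfl le_normalizer hg)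
  have hc := MonoidHom.ker_transferSylow_isComplement' T hTN
  set O := (MonoidHom.transferSylow T hTN).ker with hO
  have hOT : O ⊓ P = ⊥ := hc.disjoint.eq_bot
  have hOcard : Nat.card O = P.index := hc.index_eq_card.symm
  have hfree : ∀ t ∈ P, t ≠ 1 → ∀ u ∈ O, t * u = u * t → u = 1 := by
    intro t ht ht1 u hu htu
    refine mem_bot.1 (hOT ▸ mem_inf.2 ⟨hu, hl (zpowers t) (zpowers_ne_bot.2 ht1)
      (zpowers_le.2 ht) (hnorm t ht) ?_⟩)
    refine centralizer_le_normalizer _ (mem_centralizer_iff.2 fun x hx => ?_)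
    obtain ⟨j, rfl⟩ := mem_zpowers_iff.1 hx
    exact (Commute.zpow_left htu j).eq
  have hinv : ∀ t ∈ P, t * t = 1 → t ≠ 1 → ∀ u ∈ O, t * u * t⁻¹ = u⁻¹ := by
    intro t ht ht2 ht1
    have hOn : O.Normal := MonoidHom.normal_ker _
    let θ : O → O := fun u =>
      ⟨(u : Y)⁻¹ * (t * u * t⁻¹), mul_mem (inv_mem u.2) (hOn.conj_mem _ u.2 t)⟩
    have hθ : Function.Injective θ := by
      intro a b hab
      have h := congrArg Subtype.val hab
      simp only [θ] at h
      have h' : t * ((a : Y) * (b : Y)⁻¹) * t⁻¹ = (a : Y) * (b : Y)⁻¹ := by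
        have h2 := congrArg (fun e => (a : Y) * e * (t * (b : Y) * t⁻¹)⁻¹) h
        simpa [mul_assoc] using h2
      have := hfree t ht ht1 _ (mul_mem a.2 (inv_mem b.2)) (mul_inv_eq_iff_eq_mul.1 h')
      exact Subtype.ext (mul_inv_eq_one.1 this)
    intro w hw
    obtain ⟨u, hu⟩ := (Finite.injective_iff_surjective.1 hθ) ⟨w, hw⟩
    have hu' : (u : Y)⁻¹ * (t * u * t⁻¹) = w := congrArg Subtype.val hu
    rw [← hu', inv_eq_of_mul_eq_one_right ht2]
    simp only [mul_inv_rev, inv_inv, ← mul_assoc, inv_eq_of_mul_eq_one_right ht2]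
    rw [mul_assoc (t * (u : Y)⁻¹ * t * u) t t, ht2, mul_one]
  obtain ⟨t, ht, ht2, ht1⟩ : ∃ t ∈ P, t * t = 1 ∧ t ≠ 1 := by
    obtain ⟨⟨x, hx⟩, hx1⟩ := Subgroup.ne_bot_iff_exists_ne_one.1 hbot
    obtain ⟨k, hk, hk1⟩ := exists_pow_involution T.2 hx (fun h => hx1 (Subtype.ext h))
    exact ⟨x ^ (2 ^ k), pow_mem hx _, by rw [← pow_add, ← two_mul, ← pow_succ', hk1], hk⟩
  have hOcomm : ∀ a ∈ O, ∀ b ∈ O, a * b = b * a := by
    intro a ha b hb
    have h1 := hinv t ht ht2 ht1 _ (mul_mem ha hb)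
    rw [show t * (a * b) * t⁻¹ = t * a * t⁻¹ * (t * b * t⁻¹) by group, hinv t ht ht2 ht1 a ha,
      hinv t ht ht2 ht1 b hb, ← mul_inv_rev, inv_inj] at h1
    exact h1.symm
  refine ⟨O, t, MonoidHom.normal_ker _, hOT, hOcard, ht, ht2, ht1, hinv t ht ht2 ht1, hOcomm, ?_⟩
  intro t' ht' ht'2 ht'1
  by_contra hne
  have h1 : t * t' ≠ 1 := fun h => hne (by
    rw [← inv_eq_of_mul_eq_one_right h, inv_eq_of_mul_eq_one_right ht2])
  refine htop (index_eq_one.1 ?_)
  rw [← hOcard, Subgroup.card_eq_one, eq_bot_iff]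
  intro u hu
  refine mem_bot.2 (hfree (t * t') (mul_mem ht ht') h1 u hu (mul_inv_eq_iff_eq_mul.1 ?_))
  rw [show t * t' * u * (t * t')⁻¹ = t * (t' * u * t'⁻¹) * t⁻¹ by group,
    hinv t' ht' ht'2 ht'1 u hu, hinv t ht ht2 ht1 _ (inv_mem hu), inv_inv]

/-- A complement of order three leaves room for one involution only. -/
theorem card_eq_two {T : Sylow 2 Y} (hl : SelfLocal (T : Subgroup Y)) {O : Subgroup Y} [O.Normal]
    (hO : Nat.card O = 3) (hOT : O ⊓ (T : Subgroup Y) = ⊥)
    (hcomm : ∀ a ∈ (T : Subgroup Y), ∀ b ∈ (T : Subgroup Y), a * b = b * a)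
    {t : Y} (ht : t ∈ (T : Subgroup Y)) (ht1 : t ≠ 1) (hinv : ∀ u ∈ O, t * u * t⁻¹ = u⁻¹) :
    Nat.card (T : Subgroup Y) = 2 := by
  classical
  set P : Subgroup Y := (T : Subgroup Y) with hP
  obtain ⟨u, hu1⟩ : ∃ u : O, u ≠ 1 := by
    have : Nontrivial O := Finite.one_lt_card_iff_nontrivial.1 (by omega)
    exact exists_ne 1
  have hu1' : (u : Y) ≠ 1 := fun h => hu1 (Subtype.ext h)
  have hu3 : (u : Y) ^ 3 = 1 := by
    have := pow_card_eq_one' (x := u)
    rw [hO] at this
    simpa using congrArg Subtype.val this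
  have : Fact (Nat.Prime 3) := ⟨Nat.prime_three⟩
  have hgen : ∀ w ∈ O, w = 1 ∨ w = (u : Y) ∨ w = (u : Y)⁻¹ := by
    intro w hw
    have hz : zpowers (u : Y) = O := Subgroup.eq_of_le_of_card_ge (zpowers_le.2 u.2)
      (by rw [Nat.card_zpowers, orderOf_eq_prime hu3 hu1', hO])
    obtain ⟨j, hj⟩ := mem_powers_iff_mem_zpowers.2 (hz.ge hw)
    have hj' : (u : Y) ^ j = w := hj
    rw [← hj', ← pow_mod_orderOf, orderOf_eq_prime hu3 hu1']
    have h3 : j % 3 = 0 ∨ j % 3 = 1 ∨ j % 3 = 2 := by omega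
    rcases h3 with h | h | h <;> rw [h]
    · simp
    · simp
    · refine Or.inr (Or.inr (eq_inv_of_mul_eq_one_left ?_))
      rw [← pow_succ, hu3]
  have hfix : ∀ τ ∈ P, τ ≠ 1 → τ * (u : Y) * τ⁻¹ ≠ u := by
    intro τ hτ hτ1 h
    refine hu1' (mem_bot.1 (hOT ▸ mem_inf.2 ⟨u.2, hl (zpowers τ) (zpowers_ne_bot.2 hτ1)
      (zpowers_le.2 hτ) ?_ ?_⟩))
    · intro a ha
      refine mem_normalizer_iff.2 fun x => ?_
      constructor
      · intro hx
        rwa [hcomm a ha x (zpowers_le.2 hτ hx), mul_inv_cancel_right]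
      · intro hx
        have hc := hcomm a ha _ (zpowers_le.2 hτ hx)
        rw [inv_mul_cancel_right] at hc
        have e : a * x * a⁻¹ = x := mul_left_cancel (hc.trans rfl)
        rwa [e] at hx
    · refine centralizer_le_normalizer _ (mem_centralizer_iff.2 fun x hx => ?_)
      obtain ⟨j, rfl⟩ := mem_zpowers_iff.1 hx
      exact (Commute.zpow_left (mul_inv_eq_iff_eq_mul.1 h) j).eq
  have hall : ∀ τ ∈ P, τ = 1 ∨ τ = t := by
    intro τ hτ
    by_contra! h
    have h1 : τ * (u : Y) * τ⁻¹ = (u : Y)⁻¹ := by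
      rcases hgen _ (‹O.Normal›.conj_mem _ u.2 τ) with e | e | e
      · exact absurd (conj_eq_one_iff.1 e) hu1'
      · exact absurd e (hfix τ hτ h.1)
      · exact e
    have hne : t * τ ≠ 1 := by
      intro e
      have hτt : τ = t⁻¹ := (inv_eq_of_mul_eq_one_right e).symm
      rcases eq_or_ne (t * t) 1 with ht2 | ht2
      · exact h.2 (by rw [hτt, inv_eq_of_mul_eq_one_right ht2])
      · refine hfix (t * t) (mul_mem ht ht) ht2 ?_
        rw [show t * t * (u : Y) * (t * t)⁻¹ = t * (t * u * t⁻¹) * t⁻¹ by group, hinv _ u.2,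
          hinv _ (inv_mem u.2), inv_inv]
    refine hfix (t * τ) (mul_mem ht hτ) hne ?_
    rw [show t * τ * (u : Y) * (t * τ)⁻¹ = t * (τ * u * τ⁻¹) * t⁻¹ by group, h1,
      hinv _ (inv_mem u.2), inv_inv]
  refine le_antisymm ?_ ?_
  · rw [← SetLike.coe_sort_coe, Nat.card_coe_set_eq]
    refine (Set.ncard_le_ncard (t := (({1, t} : Finset Y) : Set Y)) ?_).trans ?_
    · intro τ hτ
      simpa using hall τ hτ
    · rw [Set.ncard_coe_finset]; exact Finset.card_le_two
  · have : Nontrivial P := ⟨⟨⟨t, ht⟩, 1, fun e => ht1 (congrArg Subtype.val e)⟩⟩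
    exact Finite.one_lt_card (α := P)

end CfsgLib.Recog.ChainEight
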