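import Cfsg.Agent.Lib.Recog.ChainEight.Offender
import Cfsg.Agent.Lib.Recog.ChainEight.QuotGroup
import Mathlib.Algebra.Group.TypeTags.Basic
import Mathlib.Tactic.Abel

/-!
# The quotient of the parabolic is the symmetric group of degree three
-/

set_option autoImplicit false
set_option linter.unusedSectionVars false
set_option maxHeartbeats 800000

namespace CfsgLib.Recog.ChainEight

open Subgroup

/-- No map on an elementary group of order nine has all line products constant, unless it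
identifies two points. -/
theorem lines_eq {V : Type*} [CommGroup V] (hV : ∀ v : V, v * v = 1) {O : Type*} [CommGroup O]
    (f : O → V) (w : V) (h3 : ∀ u : O, u * u * u = 1)
    (hl : ∀ p u : O, u ≠ 1 → f p * f (p * u) * f (p * u * u) = w) {a b : O} (ha : a ≠ 1)
    (hb : b ≠ 1) (hab : a * b ≠ 1) (hab2 : a * b * b ≠ 1) : f a = f 1 := by
  have h1 := hl 1 a ha
  have h2 := hl 1 b hb
  have h3' := hl 1 (a * b) hab
  have h4 := hl 1 (a * b * b) hab2
  have h5 := hl a a ha
  have h6 := hl a b hb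
  have h7 := hl a (a * b) hab
  have h8 := hl a (a * b * b) hab2
  simp only [one_mul] at h1 h2 h3' h4
  have e1 : a * a * a = 1 := h3 a
  have e2 : b * b * b = 1 := h3 b
  have ea : a * (a * b) * (a * b) = b * b := by
    rw [show a * (a * b) * (a * b) = (a * a * a) * (b * b) by ac_rfl, e1, one_mul]
  have eb : a * (a * b * b) * (a * b * b) = b := by
    rw [show a * (a * b * b) * (a * b * b) = (a * a * a) * (b * b * b) * b by ac_rfl, e1, e2,
      one_mul, one_mul]
  have ec : a * b * b * (a * b * b) = a * a * b := by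
    rw [show a * b * b * (a * b * b) = (b * b * b) * (a * a * b) by ac_rfl, e2, one_mul]
  have ed : a * b * (a * b) = a * a * b * b := by ac_rfl
  have ee : a * (a * b) = a * a * b := by ac_rfl
  have ef : a * (a * b * b) = a * a * b * b := by ac_rfl
  rw [ed] at h3'
  rw [ec] at h4
  rw [e1] at h5
  rw [ea, ee] at h7
  rw [eb, ef] at h8
  -- add up the eight lines
  have key : ∀ v : Additive V, v + v = 0 := fun v => hV (Additive.toMul v)
  let F : O → Additive V := fun u => Additive.ofMul (f u)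
  let W : Additive V := Additive.ofMul w
  have k1 : F 1 + F a + F (a * a) = W := congrArg Additive.ofMul h1
  have k2 : F 1 + F b + F (b * b) = W := congrArg Additive.ofMul h2
  have k3 : F 1 + F (a * b) + F (a * a * b * b) = W := congrArg Additive.ofMul h3'
  have k4 : F 1 + F (a * b * b) + F (a * a * b) = W := congrArg Additive.ofMul h4
  have k5 : F a + F (a * a) + F 1 = W := congrArg Additive.ofMul h5
  have k6 : F a + F (a * b) + F (a * b * b) = W := congrArg Additive.ofMul h6
  have k7 : F a + F (a * a * b) + F (b * b) = W := congrArg Additive.ofMul h7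
  have k8 : F a + F (a * a * b * b) + F b = W := congrArg Additive.ofMul h8
  have hsum : (F 1 + F a + F (a * a)) + (F 1 + F b + F (b * b)) +
      (F 1 + F (a * b) + F (a * a * b * b)) + (F 1 + F (a * b * b) + F (a * a * b)) +
      ((F a + F (a * a) + F 1) + (F a + F (a * b) + F (a * b * b)) +
      (F a + F (a * a * b) + F (b * b)) + (F a + F (a * a * b * b) + F b)) =
      W + W + W + W + (W + W + W + W) := by rw [k1, k2, k3, k4, k5, k6, k7, k8]
  set M := F (a * a) + F b + F (b * b) + F (a * b) + F (a * a * b * b) + F (a * b * b) +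
    F (a * a * b) + (F 1 + F 1) + (F a + F a)
  have e : (F 1 + F a + F (a * a)) + (F 1 + F b + F (b * b)) +
      (F 1 + F (a * b) + F (a * a * b * b)) + (F 1 + F (a * b * b) + F (a * a * b)) +
      ((F a + F (a * a) + F 1) + (F a + F (a * b) + F (a * b * b)) +
      (F a + F (a * a * b) + F (b * b)) + (F a + F (a * a * b * b) + F b)) =
      (F 1 + F a) + (M + M) := by simp only [M]; abel
  rw [e, key M, add_zero, key (W + W + W + W)] at hsum
  have h9 : f 1 * f a = 1 := congrArg Additive.toMul hsum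
  rw [← inv_eq_of_mul_eq_one_right h9, inv_eq_of_mul_eq_one_right (hV _)]

variable {G : Type*} [Group G] [Finite G]

namespace Para

variable {S : Sylow 2 G} {z : G} {R T : Subgroup G}

theorem exists_pow_T (H : Para S z R T) :
    ∃ k, Nat.card T = 2 ^ k := by
  have : Fact (Nat.Prime 2) := ⟨Nat.prime_two⟩
  exact H.T2.exists_card_eq

/-- `N(R)/R` is the symmetric group of degree three. -/
theorem orders (H : Para S z R T) :
    Nat.card T = 2 * Nat.card R ∧ Nat.card (normalizer (R : Set G)) = 6 * Nat.card R := by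
  classical
  have : Fact (Nat.Prime 2) := ⟨Nat.prime_two⟩
  set X := normalizer (R : Set G) with hX
  have hTX : T < X := lt_of_le_of_ne H.TN fun h => H.X_not_le_T h.ge
  set R' := R.subgroupOf X with hR'
  have hR'n : R'.Normal := ⟨fun r hr g => (mem_normalizer_iff.1 g.2 r).1 hr⟩
  set π := QuotientGroup.mk' R' with hπ
  have hπs : Function.Surjective π := QuotientGroup.mk'_surjective R'
  have hker : ∀ x : X, π x = 1 ↔ (x : G) ∈ R := fun x => QuotientGroup.eq_one_iff x
  -- the Sylow subgroup of the quotient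
  obtain ⟨P0, hP0⟩ := (H.T2.comap_subtype (K := X)).exists_le_sylow
  have hP0T : (P0 : Subgroup X) = T.subgroupOf X := by
    have h1 : T ≤ ((P0 : Subgroup X).map X.subtype) := fun t ht =>
      ⟨⟨t, H.TN ht⟩, hP0 ht, rfl⟩
    have h2 := H.sylow_X (P0.2.map X.subtype) h1 (Subgroup.map_subtype_le _)
    rw [← h2, subgroupOf, comap_map_eq_self_of_injective (subtype_injective X)]
  set Tq := P0.mapSurjective hπs with hTq
  have hmem : ∀ x : X, π x ∈ (Tq : Subgroup (X ⧸ R')) ↔ (x : G) ∈ T := by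
    intro x
    rw [hTq, Sylow.coe_mapSurjective, hP0T]
    refine ⟨?_, fun h => ⟨x, h, rfl⟩⟩
    rintro ⟨t, ht, hte⟩
    have h1 : π (t⁻¹ * x) = 1 := by rw [map_mul, map_inv, hte, inv_mul_cancel]
    have h2 : (t : G)⁻¹ * (x : G) ∈ R := by simpa using (hker _).1 h1
    have := mul_mem (mem_subgroupOf.1 ht) (H.RT h2)
    simpa using this
  have hcardTq : Nat.card (Tq : Subgroup (X ⧸ R')) = R.relIndex T := by
    rw [hTq, Sylow.coe_mapSurjective, hP0T, ← relIndex_ker, hπ, QuotientGroup.ker_mk', hR',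
      relIndex_subgroupOf H.TN]
  have htop : (Tq : Subgroup (X ⧸ R')) ≠ ⊤ := fun h => H.X_not_le_T fun x hx =>
    (hmem ⟨x, hx⟩).1 (h ▸ mem_top _)
  have hindex : (Tq : Subgroup (X ⧸ R')).index = T.relIndex X := by
    rw [hTq, Sylow.coe_mapSurjective, hP0T, index_map_eq _ hπs]
    · rfl
    · rw [hπ, QuotientGroup.ker_mk']; exact fun r hr => H.RT hr
  have hl : SelfLocal (Tq : Subgroup (X ⧸ R')) := by
    intro Q hQ hQT hTQ q hq
    obtain ⟨x, rfl⟩ := hπs q
    rw [hmem]
    set Q0 := (Q.comap π).map X.subtype with hQ0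
    have hQ0mem : ∀ y : X, (y : G) ∈ Q0 ↔ π y ∈ Q := fun y =>
      ⟨fun ⟨y', hy', he⟩ => (Subtype.ext he : y' = y) ▸ hy', fun h => ⟨y, h, rfl⟩⟩
    have hRQ : R < Q0 := by
      refine lt_of_le_of_ne (fun r hr => ?_) fun h => hQ ?_
      · refine (hQ0mem ⟨r, le_normalizer hr⟩).2 ?_
        rw [(hker ⟨r, le_normalizer hr⟩).2 hr]; exact one_mem _
      · rw [eq_bot_iff]
        intro q hq
        obtain ⟨y, rfl⟩ := hπs q
        exact mem_bot.2 ((hker y).2 (h ▸ (hQ0mem y).2 hq))
    have hQ0T : Q0 ≤ T := by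
      rintro _ ⟨y, hy, rfl⟩
      exact (hmem y).1 (hQT hy)
    have hnorm : ∀ y : X, π y ∈ normalizer (Q : Set (X ⧸ R')) → (y : G) ∈ normalizer (Q0 : Set G) := by
      intro y hy
      have hle : Q0.map (MulAut.conj (y : G)).toMonoidHom ≤ Q0 := by
        rintro _ ⟨_, ⟨w, hw, rfl⟩, rfl⟩
        refine ⟨y * w * y⁻¹, ?_, by simp⟩
        show π (y * w * y⁻¹) ∈ Q
        rw [map_mul, map_mul, map_inv]
        exact (mem_normalizer_iff.1 hy _).1 hw
      have heq := Subgroup.eq_of_le_of_card_ge hle (card_map_conj Q0 (y : G)).ge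
      rw [mem_normalizer_iff]
      intro w
      constructor
      · intro hw; exact hle ⟨w, hw, by simp⟩
      · intro hw
        rw [← heq, mem_map_conj] at hw
        simpa [mul_assoc] using hw
    exact H.key_eq hRQ hQ0T (fun t ht => hnorm ⟨t, H.TN ht⟩ (hTQ ((hmem ⟨t, H.TN ht⟩).2 ht)))
      x.2 (hnorm x hq)
  -- sizes
  set m := T.relIndex X with hm
  have hmR : m ≤ Nat.card R - 1 := by
    let Φ : X ⧸ T.subgroupOf X → {r : G // r ∈ R ∧ r ≠ 1} := fun q =>
      ⟨(q.out : G) * z * (q.out : G)⁻¹, (mem_normalizer_iff.1 q.out.2 z).1 H.zR,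
        fun h => H.zne (conj_eq_one_iff.1 h)⟩
    have hΦ : Function.Injective Φ := by
      intro a b hab
      have h := congrArg Subtype.val hab
      simp only [Φ] at h
      rw [← QuotientGroup.out_eq' a, ← QuotientGroup.out_eq' b, QuotientGroup.eq]
      refine mem_subgroupOf.2 (H.mem_T_of_comm (SetLike.coe_mem _) ?_)
      have h2 := congrArg (fun e => (a.out : G)⁻¹ * e * (b.out : G)) h
      simpa [mul_assoc] using h2.symm
    have := Nat.card_le_card_of_injective Φ hΦ
    have h2 : Nat.card {r : G // r ∈ R ∧ r ≠ 1} = Nat.card R - 1 := by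
      change Nat.card (((R : Set G) \ {1}) : Set G) = _
      rw [Nat.card_coe_set_eq, Set.ncard_sdiff (by simp [one_mem]), Set.ncard_singleton,
        ← Nat.card_coe_set_eq, SetLike.coe_sort_coe]
    rw [h2] at this
    exact this
  have hm1 : m ≠ 1 := fun h => H.X_not_le_T (relIndex_eq_one.1 h)
  obtain ⟨e, he⟩ := H.exists_pow_T
  have he6 : e ≤ 6 := H.toSetup.bound_one he hTX H.X_ne_top
  have hcT := card_eq_mul_relIndex H.RT
  obtain ⟨k, hk⟩ : ∃ k, R.relIndex T = 2 ^ k := by
    obtain ⟨k, -, hk⟩ := (Nat.dvd_prime_pow Nat.prime_two).1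
      (he ▸ hcT ▸ dvd_mul_left _ _ : R.relIndex T ∣ 2 ^ e)
    exact ⟨k, hk⟩
  have hk0 : k ≠ 0 := fun h => H.T_ne_R (le_antisymm
    (relIndex_eq_one.1 (by rw [hk, h, pow_zero])) H.RT)
  have hT64 : Nat.card T ≤ 64 := by
    rw [he]
    calc 2 ^ e ≤ 2 ^ 6 := Nat.pow_le_pow_right two_pos he6
      _ = 64 := by norm_num
  rw [← hindex] at hm1 hmR
  have hk2 : k ≤ 2 := by
    by_contra hk3
    have h8 : 8 ≤ R.relIndex T := by
      rw [hk]
      calc 8 = 2 ^ 3 := by norm_num
        _ ≤ _ := Nat.pow_le_pow_right two_pos (by omega)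
    have hRle : Nat.card R ≤ 8 := by nlinarith
    have hdvd := card_dvd_factorial hl htop
    have hY := card_mul_index (Tq : Subgroup (X ⧸ R'))
    rw [hcardTq, hk] at hY
    have hi7 : (Tq : Subgroup (X ⧸ R')).index ≤ 7 := by omega
    have hk3' : k = 3 := by
      have hd : 2 ^ k ∣ Nat.factorial (Tq : Subgroup (X ⧸ R')).index :=
        (hY ▸ dvd_mul_right _ _ : 2 ^ k ∣ Nat.card (X ⧸ R')).trans hdvd
      have hoddi := Tq.not_dvd_index
      have hmR8 : (Tq : Subgroup (X ⧸ R')).index ≠ 3 := by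
        intro h
        rw [h] at hd
        have h8' : 2 ^ 3 ∣ 2 ^ k := pow_dvd_pow 2 (by omega)
        have := h8'.trans hd
        norm_num [Nat.factorial] at this
      have hR8 : Nat.card R = 8 := by
        obtain ⟨j, hj⟩ := H.R2.exists_card_eq
        rw [hj] at hRle hmR ⊢
        have : j ≤ 3 := by
          by_contra hj4
          have : 2 ^ 4 ≤ 2 ^ j := Nat.pow_le_pow_right two_pos (by omega)
          omega
        interval_cases j <;> omega
      by_contra hne
      have h16 : 2 ^ 4 ≤ R.relIndex T := hk ▸ Nat.pow_le_pow_right two_pos (by omega)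
      nlinarith
    exact small_false hl htop (by rw [hcardTq, hk, hk3']; norm_num) hi7
  -- the abelian case
  have hbot : (Tq : Subgroup (X ⧸ R')) ≠ ⊥ := by
    intro h
    rw [h, card_bot, hk] at hcardTq
    have := Nat.one_lt_two_pow hk0
    omega
  have hcomm : ∀ a ∈ (Tq : Subgroup (X ⧸ R')), ∀ b ∈ (Tq : Subgroup (X ⧸ R')), a * b = b * a := by
    intro a ha b hb
    have h12 : k = 1 ∨ k = 2 := by omega
    rcases h12 with rfl | rfl
    · have : Fact (Nat.Prime 2) := ⟨Nat.prime_two⟩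
      have hc : IsCyclic (Tq : Subgroup (X ⧸ R')) :=
        isCyclic_of_prime_card (p := 2) (by rw [hcardTq, hk, pow_one])
      exact congrArg Subtype.val (hc.isMulCommutative.is_comm.comm ⟨a, ha⟩ ⟨b, hb⟩)
    · exact congrArg Subtype.val ((IsPGroup.isMulCommutative_of_card_eq_prime_sq
        (p := 2) (by rw [hcardTq, hk])).is_comm.comm
          (⟨a, ha⟩ : (Tq : Subgroup (X ⧸ R'))) ⟨b, hb⟩)
  obtain ⟨O, t, hOn, hOT, hOcard, ht, ht2, ht1, hinv, hOcomm, huniq⟩ :=
    complement_inverted hl htop hbot hcomm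
  have hOodd : Odd (Nat.card O) := by
    rw [hOcard]
    exact Nat.not_even_iff_odd.1 fun h => Tq.not_dvd_index (even_iff_two_dvd.1 h)
  -- the offender gives a transvection
  obtain ⟨A, hAT, hA2, hAR, hAV⟩ := H.offender
  obtain ⟨a, haA, haR⟩ := SetLike.not_le_iff_exists.1 hAR
  have hAimg : ∀ b ∈ A, (hb : b ∈ X) → b ∉ R → π ⟨b, hb⟩ = t := fun b hb hbX hbR =>
    huniq _ ((hmem _).2 (hAT hb))
      (by rw [← map_mul, ← map_one π]; exact congrArg π (Subtype.ext (hA2 b hb)))
      (fun h => hbR ((hker _).1 h))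
  have hA2i : (A ⊓ R).relIndex A ≤ 2 := by
    refine le_of_eq ?_
    rw [relIndex, index_eq_two_iff]
    refine ⟨⟨a, haA⟩, fun b => ?_⟩
    by_cases hb : (b : G) ∈ R
    · refine Or.inr ⟨mem_inf.2 ⟨b.2, hb⟩, fun h => haR ?_⟩
      have := mul_mem (inv_mem hb) (mem_inf.1 (mem_subgroupOf.1 h)).2
      simpa using this
    · refine Or.inl ⟨mem_subgroupOf.2 (mem_inf.2 ⟨mul_mem b.2 haA, ?_⟩), fun h =>
        hb (mem_inf.1 (mem_subgroupOf.1 h)).2⟩
      have h1 : π (⟨b, H.TN (hAT b.2)⟩ * ⟨a, H.TN (hAT haA)⟩) = 1 := by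
        rw [map_mul, hAimg b b.2 _ hb, hAimg a haA _ haR, ht2]
      exact (hker _).1 h1
  set V := vee R z with hV
  set aX : X := ⟨a, H.TN (hAT haA)⟩ with haX
  have haπ : π aX = t := hAimg a haA _ haR
  set Hv := V ⊓ centralizer ({a} : Set G) with hHv
  have hHv2 : Hv.relIndex V ≤ 2 := by
    refine le_trans ?_ (hAV.trans hA2i)
    rw [hHv, inf_relIndex_left]
    refine relIndex_le_of_le_left (fun d hd => mem_cent_singleton.2
      (elem_comm hA2 (mem_inf.1 hd).1 haA)) ?_
    intro h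
    have := card_eq_mul_relIndex (inf_le_right : A ⊓ R ⊓ V ≤ V)
    rw [inf_relIndex_right, h, mul_zero] at this
    exact Nat.card_pos.ne' this
  have hVcomm : ∀ v ∈ V, ∀ w ∈ V, v * w = w * v := fun v hv w hw =>
    (H.vee_props hw).2.1 v (H.vee_le hv)
  have hV2 : ∀ v ∈ V, v * v = 1 := fun v hv => (H.vee_props hv).2.2
  have hHvne : Hv.relIndex V ≠ 1 := by
    intro h
    exact haR (H.cent_vee (H.TN (hAT haA)) fun v hv =>
      (mem_cent_singleton.1 (mem_inf.1 (relIndex_eq_one.1 h hv)).2).symm)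
  have hHv2' : Hv.relIndex V = 2 := by
    have h0 : Hv.relIndex V ≠ 0 := fun h => by
      have := card_eq_mul_relIndex (inf_le_left : Hv ≤ V)
      rw [h, mul_zero] at this
      exact Nat.card_pos.ne' this
    omega
  -- the action
  have hact : ∀ x x' : X, π x = π x' → ∀ v ∈ V, (x : G) * v * (x : G)⁻¹ = x' * v * (x' : G)⁻¹ := by
    intro x x' h v hv
    have h1 : (x : G)⁻¹ * (x' : G) ∈ R := by
      have := (hker (x⁻¹ * x')).1 (by rw [map_mul, map_inv, h, inv_mul_cancel])
      simpa using this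
    have h2 := (H.vee_props hv).2.1 _ h1
    calc (x : G) * v * (x : G)⁻¹ = x * (v * ((x : G)⁻¹ * x')) * (x' : G)⁻¹ := by group
      _ = x' * v * (x' : G)⁻¹ := by rw [← h2]; group
  let f : X ⧸ R' → G := fun q => (q.out : G) * z * (q.out : G)⁻¹
  have hf : ∀ x : X, f (π x) = (x : G) * z * (x : G)⁻¹ := fun x =>
    hact _ x (QuotientGroup.out_eq' _) z H.z_mem_vee
  have hfmul : ∀ (x : X) q, (x : G) * f q * (x : G)⁻¹ = f (π x * q) := by
    intro x q
    obtain ⟨y, rfl⟩ := hπs q
    rw [← map_mul, hf, hf]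
    push_cast
    group
  have hf1 : f 1 = z := by rw [← map_one π, hf]; simp
  have hfV : ∀ q, f q ∈ V := fun q => H.conj_mem_vee q.out.2
  have hfinj : ∀ u ∈ O, ∀ u' ∈ O, f u = f u' → u = u' := by
    intro u hu u' hu' h
    obtain ⟨x, rfl⟩ := hπs u
    obtain ⟨x', rfl⟩ := hπs u'
    rw [hf, hf] at h
    have h2 : ((x⁻¹ * x' : X) : G) ∈ T := by
      refine H.mem_T_of_comm (SetLike.coe_mem _) ?_
      have h3 := congrArg (fun e => (x : G)⁻¹ * e * (x' : G)) h
      simpa [mul_assoc] using h3.symm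
    have h4 := mem_inf.2 ⟨mul_mem (inv_mem hu) hu', (map_inv π x ▸ map_mul π x⁻¹ x' ▸
      (hmem _).2 h2 : (π x)⁻¹ * π x' ∈ (Tq : Subgroup (X ⧸ R')))⟩
    rw [hOT, mem_bot] at h4
    exact inv_mul_eq_one.1 h4
  have hta : ∀ u ∈ O, a * f u * a⁻¹ = f u⁻¹ := by
    intro u hu
    have h := hfmul aX u
    rw [haπ] at h
    rw [h, show t * u = u⁻¹ * t by rw [← hinv u hu, inv_mul_cancel_right]]
    obtain ⟨x, hx⟩ := hπs u⁻¹
    rw [← hx, ← haπ, ← map_mul, hf, hf]
    push_cast
    have haz : a * z = z * a := H.z_comm (H.TS (hAT haA))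
    rw [show (x : G) * (aX : G) * z * ((x : G) * (aX : G))⁻¹ =
      (x : G) * (a * z) * a⁻¹ * (x : G)⁻¹ by simp [aX, mul_assoc], haz]
    group
  -- `O` has exponent three
  have hexp : ∀ u ∈ O, u * u * u = 1 := by
    intro u hu
    obtain ⟨x, rfl⟩ := hπs u
    set qX : X := x * aX * x⁻¹ * aX with hqX
    have hq : π qX = π x * π x := by
      rw [hqX, map_mul, map_mul, map_mul, map_inv, haπ]
      have h1 := hinv _ (inv_mem hu)
      rw [inv_inv, inv_eq_of_mul_eq_one_right ht2] at h1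
      rw [mul_assoc (π x * t), mul_assoc (π x), ← mul_assoc t, h1]
    set q : G := (x : G) * a * (x : G)⁻¹ * a with hqdef
    set K := Hv.map (MulAut.conj (x : G)).toMonoidHom with hK
    set W := Hv ⊓ K with hW
    have hWfix : ∀ w ∈ W, q * w * q⁻¹ = w := by
      intro w hw
      have h1 : w * a = a * w := mem_cent_singleton.1 (mem_inf.1 (mem_inf.1 hw).1).2
      have h2 := mem_cent_singleton.1 (mem_inf.1 (mem_map_conj.1 (mem_inf.1 hw).2)).2
      have h3 := conj_comm (g := (x : G)) h2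
      rw [show (x : G) * ((x : G)⁻¹ * w * x) * (x : G)⁻¹ = w by group] at h3
      rw [hqdef, mul_assoc _ a w, ← h1, ← mul_assoc, ← h3, mul_assoc w _ a, mul_inv_cancel_right]
    have hKV : K.relIndex V ≤ 2 := by
      have hVm : V.map (MulAut.conj (x : G)).toMonoidHom = V := by
        refine Subgroup.eq_of_le_of_card_ge ?_ (card_map_conj V (x : G)).ge
        rintro _ ⟨v, hv, rfl⟩
        simpa using H.vee_conj x.2 hv
      rw [hK, ← hVm, relIndex_map_map_of_injective _ _ (MulAut.conj (x : G)).injective, hHv2']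
    have hW4 : W.relIndex V ≤ 4 := by
      refine relIndex_inf_le.trans ?_
      rw [hHv2']
      omega
    have hWV : W ≤ V := inf_le_left.trans inf_le_left
    have hqv : ∀ (i : ℕ) (v : G), v ∈ V → q ^ i * v * (q ^ i)⁻¹ ∈ V := fun i v hv =>
      H.vee_conj (pow_mem (mul_mem (mul_mem (mul_mem x.2 (H.TN (hAT haA))) (inv_mem x.2))
        (H.TN (hAT haA))) i) hv
    have h12 : ∀ v ∈ V, q ^ 12 * v * (q ^ 12)⁻¹ = v := by
      intro v hv
      have hfixpow : ∀ w, q * w * q⁻¹ = w → ∀ i : ℕ, q ^ i * w * (q ^ i)⁻¹ = w := by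
        intro w hw i
        rw [(Commute.pow_left (mul_inv_eq_iff_eq_mul.1 hw) i).eq, mul_inv_cancel_right]
      set W' := W.subgroupOf V
      have hW'card : Nat.card (V ⧸ W') ≤ 4 := by rw [← index_eq_card]; exact hW4
      let g : Fin 5 → V ⧸ W' := fun i => QuotientGroup.mk
        (if i.1 < 4 then ⟨q ^ i.1 * v * (q ^ i.1)⁻¹, hqv _ v hv⟩ else 1)
      let _ := Fintype.ofFinite (V ⧸ W')
      obtain ⟨i, j, hij, hgij⟩ := Fintype.exists_ne_map_eq_of_card_lt g
        (by rw [Fintype.card_fin, ← Nat.card_eq_fintype_card]; omega)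
      wlog hlt : i < j generalizing i j
      · exact this j i hij.symm hgij.symm (lt_of_le_of_ne (not_lt.1 hlt) hij.symm)
      have hi4 : i.1 < 4 := by omega
      simp only [g, QuotientGroup.eq, if_pos hi4] at hgij
      by_cases hj4 : j.1 < 4
      · rw [if_pos hj4] at hgij
        have hw := mem_subgroupOf.1 hgij
        simp only [Subgroup.coe_mul, Subgroup.coe_inv] at hw
        set w := (q ^ i.1 * v * (q ^ i.1)⁻¹)⁻¹ * (q ^ j.1 * v * (q ^ j.1)⁻¹) with hwdef
        set d := j.1 - i.1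
        have hd : j.1 = i.1 + d := by omega
        have hw' := hfixpow w (hWfix w hw)
        have h1 : q ^ d * v * (q ^ d)⁻¹ = v * w := by
          have h2 : (q ^ i.1)⁻¹ * w * q ^ i.1 = w := by
            have := congrArg (fun e => (q ^ i.1)⁻¹ * e * q ^ i.1) (hw' i.1)
            simpa [mul_assoc] using this.symm
          have h3 : v * ((q ^ i.1)⁻¹ * w * q ^ i.1) = q ^ d * v * (q ^ d)⁻¹ := by
            rw [hwdef, hd, pow_add]; group
          rw [← h3, h2]
        have h2 : q ^ (2 * d) * v * (q ^ (2 * d))⁻¹ = v := by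
          rw [two_mul, pow_add, show q ^ d * q ^ d * v * (q ^ d * q ^ d)⁻¹ =
            q ^ d * (q ^ d * v * (q ^ d)⁻¹) * (q ^ d)⁻¹ by group, h1,
            show q ^ d * (v * w) * (q ^ d)⁻¹ = q ^ d * v * (q ^ d)⁻¹ * (q ^ d * w * (q ^ d)⁻¹) by
              group, h1, hw' d, mul_assoc, hV2 w (hWV hw), mul_one]
        obtain ⟨r, hr⟩ : 2 * d ∣ 12 := by
          have hd3 : d = 1 ∨ d = 2 ∨ d = 3 := by omega
          rcases hd3 with h | h | h <;> rw [h] <;> norm_num
        have h3 : ∀ r : ℕ, (q ^ (2 * d)) ^ r * v * ((q ^ (2 * d)) ^ r)⁻¹ = v := fun r => by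
          rw [(Commute.pow_left (mul_inv_eq_iff_eq_mul.1 h2) r).eq, mul_inv_cancel_right]
        rw [hr, pow_mul]
        exact h3 r
      · rw [if_neg hj4, mul_one] at hgij
        have hw : q ^ i.1 * v * (q ^ i.1)⁻¹ ∈ W := inv_mem_iff.1 (mem_subgroupOf.1 hgij)
        have h1 := hfixpow _ (hWfix _ hw) i.1
        have h2 : q ^ i.1 * v * (q ^ i.1)⁻¹ = v := by
          have := congrArg (fun e => (q ^ i.1)⁻¹ * e * q ^ i.1) h1
          simpa [mul_assoc] using this
        exact hfixpow v (hWfix v (h2 ▸ hw)) 12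
    have hR12 : q ^ 12 ∈ R := H.cent_vee
      (pow_mem (mul_mem (mul_mem (mul_mem x.2 (H.TN (hAT haA))) (inv_mem x.2))
        (H.TN (hAT haA))) 12)
      fun v hv => mul_inv_eq_iff_eq_mul.1 (h12 v hv)
    have h24 : π x ^ 24 = 1 := by
      rw [show 24 = 2 * 12 by norm_num, pow_mul, pow_two, ← hq, ← map_pow, hker]
      simpa [hqX, hqdef, aX] using hR12
    have hodd' : Odd (orderOf (π x)) := Odd.of_dvd_nat hOodd (orderOf_dvd_natCard _ hu)
    have h3 : orderOf (π x) ∣ 3 := by
      refine Nat.Coprime.dvd_of_dvd_mul_left (k := orderOf (π x)) (m := 2 ^ 3) (n := 3)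
        (Nat.Coprime.pow_right 3 (Nat.coprime_two_right.2 hodd')) ?_
      exact orderOf_dvd_of_pow_eq_one h24
    rw [← orderOf_dvd_iff_pow_eq_one.1 h3]
    simp [pow_succ, mul_assoc]
  -- all non-trivial points give the same sum
  have hmove : ∀ u ∈ O, u ≠ 1 → f u ∉ Hv := by
    intro u hu hu1 h
    have h1 := mem_cent_singleton.1 (mem_inf.1 h).2
    have h2 := hta u hu
    rw [← h1, mul_inv_cancel_right] at h2
    have h3 := hfinj u hu _ (inv_mem hu) h2
    refine hu1 ?_
    have h4 : u * u = 1 := by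
      nth_rewrite 1 [h3]
      exact inv_mul_cancel u
    have := hexp u hu
    rwa [h4, one_mul] at this
  have hconst : ∀ u ∈ O, u ≠ 1 → ∀ u' ∈ O, u' ≠ 1 → f u * f u⁻¹ = f u' * f u'⁻¹ := by
    intro u hu hu1 u' hu' hu1'
    have hg := mul_mem_of_relIndex_two hHv2' (hfV u) (hmove u hu hu1) (hfV u') (hmove u' hu' hu1')
    have h1 := mem_cent_singleton.1 (mem_inf.1 hg).2
    have h2 : f u⁻¹ * f u'⁻¹ = f u * f u' := by
      rw [← hta u hu, ← hta u' hu']
      calc a * f u * a⁻¹ * (a * f u' * a⁻¹) = a * (f u * f u') * a⁻¹ := by group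
        _ = f u * f u' := by rw [← h1, mul_inv_cancel_right]
    have h5 : f u⁻¹ = f u * f u' * f u'⁻¹ := by
      rw [← h2, mul_assoc, hV2 _ (hfV _), mul_one]
    rw [h5, ← mul_assoc (f u) (f u * f u') (f u'⁻¹), ← mul_assoc (f u) (f u) (f u'),
      hV2 _ (hfV _), one_mul]
  obtain ⟨u0, hu0, hu01⟩ : ∃ u ∈ O, u ≠ 1 := by
    by_contra! h
    refine hm1 ?_
    rw [← hOcard, Subgroup.card_eq_one, eq_bot_iff]
    exact fun u hu => mem_bot.2 (h u hu)
  set w := z * (f u0 * f u0⁻¹) with hw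
  have hline1 : ∀ u ∈ O, u ≠ 1 → z * (f u * f u⁻¹) = w := fun u hu hu1 => by
    rw [hw, hconst u hu hu1 u0 hu0 hu01]
  have hwfix : ∀ x : X, π x ∈ O → (x : G) * w * (x : G)⁻¹ = w := by
    intro x hx
    by_cases hx1 : π x = 1
    · have h : (x : G) * w = w * x :=
        (H.vee_props (mul_mem H.z_mem_vee (mul_mem (hfV u0) (hfV u0⁻¹)))).2.1 _ ((hker x).1 hx1)
      rw [h, mul_inv_cancel_right]
    · set u := π x with hu
      conv_lhs => rw [← hline1 u hx hx1, ← hf1]
      rw [show (x : G) * (f 1 * (f u * f u⁻¹)) * (x : G)⁻¹ = (x : G) * f 1 * (x : G)⁻¹ *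
        ((x : G) * f u * (x : G)⁻¹) * ((x : G) * f u⁻¹ * (x : G)⁻¹) by group, hfmul, hfmul, hfmul,
        mul_one, mul_inv_cancel, hf1, show u * u = u⁻¹ from eq_inv_of_mul_eq_one_left (hexp u hx),
        hVcomm _ (mul_mem (hfV u) (hfV u⁻¹)) _ H.z_mem_vee, hline1 u hx hx1]
  have hlines : ∀ p ∈ O, ∀ u ∈ O, u ≠ 1 → f p * f (p * u) * f (p * u * u) = w := by
    intro p hp u hu hu1
    obtain ⟨x, rfl⟩ := hπs p
    rw [← mul_one (π x), ← hfmul x 1, mul_one (π x), ← hfmul x u, mul_assoc (π x) u u,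
      ← hfmul x (u * u), show u * u = u⁻¹ from eq_inv_of_mul_eq_one_left (hexp u hu), hf1]
    conv_rhs => rw [← hwfix x hp, ← hline1 u hu hu1]
    group
  -- `|O| = 3`
  have hO3 : Nat.card O = 3 := by
    by_contra hne
    let _ : CommGroup O := { (inferInstance : Group O) with
      mul_comm := fun a b => Subtype.ext (hOcomm _ a.2 _ b.2) }
    let _ : CommGroup V := { (inferInstance : Group V) with
      mul_comm := fun a b => Subtype.ext (hVcomm _ a.2 _ b.2) }
    have : Fact (Nat.Prime 3) := ⟨Nat.prime_three⟩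
    have hord : orderOf u0 = 3 := orderOf_eq_prime (by rw [← hexp u0 hu0]; simp [pow_succ, mul_assoc]) hu01
    obtain ⟨b, hb, hb0⟩ : ∃ b ∈ O, b ∉ zpowers u0 := by
      by_contra! h
      refine hne ?_
      rw [← hord, ← Nat.card_zpowers, le_antisymm h (zpowers_le.2 hu0)]
    have hu3 : ∀ u : O, u * u * u = 1 := fun u => Subtype.ext (hexp u u.2)
    have key := lines_eq (O := O) (V := V) (fun v => Subtype.ext (hV2 _ v.2))
      (fun u => ⟨f u, hfV u⟩) ⟨w, mul_mem H.z_mem_vee (mul_mem (hfV u0) (hfV u0⁻¹))⟩ hu3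
      (fun p u hu => Subtype.ext (hlines p p.2 u u.2 fun h => hu (Subtype.ext h)))
      (a := ⟨u0, hu0⟩) (b := ⟨b, hb⟩) (fun h => hu01 (congrArg Subtype.val h))
      (fun h => hb0 (by
        have : b = 1 := congrArg Subtype.val h
        rw [this]; exact one_mem _))
      (fun h => hb0 (by
        have h' : u0 * b = 1 := congrArg Subtype.val h
        rw [← inv_eq_of_mul_eq_one_right h']; exact inv_mem (mem_zpowers u0)))
      (fun h => hb0 (by
        have h' : u0 * b * b = 1 := congrArg Subtype.val h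
        have h'' : u0 = b := by
          have := congrArg (· * b) h'
          simp only [mul_assoc, one_mul] at this
          rwa [← mul_assoc b b b, hexp b hb, mul_one] at this
        rw [← h'']; exact mem_zpowers u0))
    exact hu01 (hfinj u0 hu0 1 (one_mem _) (congrArg Subtype.val key))
  have hT2 := card_eq_two hl hO3 hOT hcomm ht ht1 hinv
  rw [hcardTq] at hT2
  have hTc : Nat.card T = 2 * Nat.card R := by rw [hcT, hT2]; ring
  refine ⟨hTc, ?_⟩
  have hmx : T.relIndex (normalizer (R : Set G)) = 3 := by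
    show m = 3
    rw [← hindex, ← hOcard, hO3]
  have hcX := card_eq_mul_relIndex H.TN
  rw [hmx, hTc] at hcX
  rw [hcX]; ring

end Para

end CfsgLib.Recog.ChainEight
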