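import Cfsg.Agent.Lib.Recog.ChainEight.Amalgam
import Mathlib.GroupTheory.SpecificGroups.Cyclic

/-!
# The structure of the parabolic: a four group times the kernel
-/

set_option autoImplicit false
set_option linter.unusedSectionVars false
set_option maxHeartbeats 800000

namespace CfsgLib.Recog.ChainEight

open Subgroup

variable {G : Type*} [Group G] [Finite G]

theorem card_prodComm {A B : Subgroup G} (h : ∀ a ∈ A, ∀ b ∈ B, a * b = b * a)
    (hd : ∀ x ∈ A, x ∈ B → x = 1) :
    Nat.card (prodComm A B h) = Nat.card A * Nat.card B := by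
  rw [← Nat.card_prod]
  refine (Nat.card_congr (Equiv.ofBijective
    (fun p : A × B => (⟨p.1 * p.2, p.1, p.1.2, p.2, p.2.2, rfl⟩ : prodComm A B h)) ⟨?_, ?_⟩)).symm
  · rintro ⟨a, b⟩ ⟨a', b'⟩ he
    have he' : (a : G) * b = a' * b' := congrArg Subtype.val he
    have h1 : (a' : G)⁻¹ * a = b' * (b : G)⁻¹ := by
      have := congrArg (fun e => (a' : G)⁻¹ * e * (b : G)⁻¹) he'
      simpa [mul_assoc] using this
    have h2 := hd _ (mul_mem (inv_mem a'.2) a.2) (h1 ▸ mul_mem b'.2 (inv_mem b.2))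
    have ha : a = a' := Subtype.ext (inv_mul_eq_one.1 h2).symm
    subst ha
    have hb : b = b' := Subtype.ext (mul_left_cancel he')
    rw [hb]
  · rintro ⟨x, a, ha, b, hb, rfl⟩
    exact ⟨(⟨a, ha⟩, ⟨b, hb⟩), rfl⟩

theorem comm_of_card_le_four {A : Subgroup G} (h : Nat.card A = 1 ∨ Nat.card A = 2 ∨ Nat.card A = 4)
    {a b : G} (ha : a ∈ A) (hb : b ∈ A) : a * b = b * a := by
  have : Fact (Nat.Prime 2) := ⟨Nat.prime_two⟩
  rcases h with h | h | h
  · rw [Subgroup.card_eq_one.1 h, mem_bot] at ha hb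
    rw [ha, hb]
  · have hc : IsCyclic A := isCyclic_of_prime_card (p := 2) h
    exact congrArg Subtype.val (hc.isMulCommutative.is_comm.comm ⟨a, ha⟩ ⟨b, hb⟩)
  · exact congrArg Subtype.val ((IsPGroup.isMulCommutative_of_card_eq_prime_sq (p := 2)
      (by rw [h]; norm_num)).is_comm.comm (⟨a, ha⟩ : A) ⟨b, hb⟩)

namespace Pair

variable {S : Sylow 2 G} {z : G} {R T N : Subgroup G} {s y : G}

theorem exists_core (H : Pair S z R T N s y) :
    ∃ C z1 v, Core S z R T C s y z1 v ∧
      (Nat.card C = 1 ∨ Nat.card C = 2 ∨ Nat.card C = 4) ∧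
      (Nat.card C = 1 → ∀ r ∈ R, r ≠ 1 → ∃ g : G, g * r * g⁻¹ = z) := by
  classical
  have : Fact (Nat.Prime 2) := ⟨Nat.prime_two⟩
  obtain ⟨cy, hcy⟩ : ∃ f : G → G, ∀ r, f r = y * r * y⁻¹ := ⟨_, fun _ => rfl⟩
  have cy_mul : ∀ a b, cy (a * b) = cy a * cy b := fun a b => by simp [hcy, mul_assoc]
  have cy3 : ∀ r, cy (cy (cy r)) = r := fun r => by
    simp only [hcy]
    rw [show y * (y * (y * r * y⁻¹) * y⁻¹) * y⁻¹ = y * y * y * r * (y * y * y)⁻¹ by group,
      H.y_cube]
    simp
  have cyR : ∀ r ∈ R, cy r ∈ R := fun r hr => hcy r ▸ (mem_normalizer_iff.1 H.yX r).1 hr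
  -- the rotation of `z`
  set V := vee R z with hV
  have hVc : ∀ a ∈ V, ∀ b ∈ R, b * a = a * b := fun a ha => (H.vee_props ha).2.1
  have hVV : ∀ a ∈ V, ∀ b ∈ V, a * b = b * a := fun a ha b hb =>
    hVc b hb a (H.vee_le ha)
  have hV2 : ∀ a ∈ V, a * a = 1 := fun a ha => (H.vee_props ha).2.2
  have cyV : ∀ a ∈ V, cy a ∈ V := fun a ha => hcy a ▸ H.vee_conj H.yX ha
  have hz : z ∈ V := H.z_mem_vee
  obtain ⟨w, hw⟩ : ∃ w, w = z * cy z * cy (cy z) := ⟨_, rfl⟩
  have hwV : w ∈ V := hw ▸ mul_mem (mul_mem hz (cyV z hz)) (cyV _ (cyV z hz))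
  have hwfix : cy w = w := by
    rw [hw, cy_mul, cy_mul, cy3, hVV _ (mul_mem (cyV z hz) (cyV _ (cyV z hz))) z hz, ← mul_assoc]
  have hzy : cy z ≠ z := fun h => H.yS (H.mem_S_of_comm (mul_inv_eq_iff_eq_mul.1 ((hcy z).symm.trans h)))
  obtain ⟨v1, hv1⟩ : ∃ v, v = z * w := ⟨_, rfl⟩
  have hv1V : v1 ∈ V := hv1 ▸ mul_mem hz hwV
  have hv1fix : cy v1 ≠ v1 := by
    intro h
    rw [hv1, cy_mul, hwfix] at h
    exact hzy (mul_right_cancel h)
  obtain ⟨v2, hv2⟩ : ∃ v, v = cy v1 := ⟨_, rfl⟩
  have hv2V : v2 ∈ V := hv2 ▸ cyV v1 hv1V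
  have hprod : v1 * v2 * cy v2 = 1 := by
    have e : cy v2 = cy (cy z) * w := by rw [hv2, hv1, cy_mul, cy_mul, hwfix, hwfix]
    have e2 : v2 = cy z * w := by rw [hv2, hv1, cy_mul, hwfix]
    rw [e, e2, hv1]
    have hb := cyV z hz
    have hd := cyV _ hb
    calc z * w * (cy z * w) * (cy (cy z) * w)
        = z * (w * cy z) * (w * cy (cy z)) * w := by group
      _ = z * (cy z * w) * (cy (cy z) * w) * w := by rw [hVV w hwV _ hb, hVV w hwV _ hd]
      _ = z * cy z * (w * cy (cy z)) * (w * w) := by group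
      _ = z * cy z * cy (cy z) * w := by rw [hV2 w hwV, mul_one, hVV w hwV _ hd]; group
      _ = 1 := by rw [← hw, hV2 w hwV]
  have hv3 : cy v2 = v1 * v2 := by
    rw [← inv_eq_of_mul_eq_one_right hprod,
      inv_eq_of_mul_eq_one_right (hV2 _ (mul_mem hv1V hv2V))]
  set Vf := four v1 v2 (hV2 _ hv1V) (hV2 _ hv2V) (hVV _ hv1V _ hv2V) with hVf
  have hVfV : Vf ≤ V := by
    intro a ha
    rcases mem_four.1 ha with rfl | rfl | rfl | rfl
    exacts [one_mem _, hv1V, hv2V, mul_mem hv1V hv2V]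
  have hVfR : Vf ≤ R := hVfV.trans H.vee_le
  have cyVf : ∀ a ∈ Vf, cy a ∈ Vf := by
    intro a ha
    rcases mem_four.1 ha with h | h | h | h <;> rw [h]
    · simp [hcy, one_mem]
    · exact mem_four.2 (Or.inr (Or.inr (Or.inl hv2.symm)))
    · rw [hv3]; exact mem_four.2 (Or.inr (Or.inr (Or.inr rfl)))
    · rw [cy_mul, hv3, ← hv2, ← mul_assoc, hVV _ hv2V _ hv1V, mul_assoc, hV2 _ hv2V, mul_one]
      exact mem_four.2 (Or.inr (Or.inl rfl))
  have hrot : ∀ a ∈ Vf, a * cy a * cy (cy a) = 1 := by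
    intro a ha
    rcases mem_four.1 ha with h | h | h | h <;> rw [h]
    · simp [hcy]
    · rw [← hv2]; exact hprod
    · have h3 : cy (cy v2) = v1 := by rw [hv2, cy3]
      rw [h3, hVV _ (mul_mem hv2V (cyV _ hv2V)) v1 hv1V, ← mul_assoc]
      exact hprod
    · rw [cy_mul, cy_mul, ← hv2, show cy (cy v2) = v1 by rw [hv2, cy3], hv3]
      have h12 := hVV _ hv1V _ hv2V
      rw [← mul_assoc v2 v1 v2, ← h12, mul_assoc v1 v2 v2, hV2 _ hv2V, mul_one,
        mul_assoc v1 v2 v1, ← h12, ← mul_assoc v1 v1 v2, hV2 _ hv1V, one_mul, hV2 _ hv2V]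
  set C := R ⊓ centralizer ({y} : Set G) with hC
  have hCy : ∀ c ∈ C, cy c = c := fun c hc => by
    rw [hcy]
    rw [← mem_cent_singleton.1 (mem_inf.1 hc).2, mul_inv_cancel_right]
  have hCmem : ∀ r ∈ R, cy r = r → r ∈ C := fun r hr h =>
    mem_inf.2 ⟨hr, mem_cent_singleton.2 (mul_inv_eq_iff_eq_mul.1 ((hcy r).symm.trans h)).symm⟩
  have hdisj : ∀ a ∈ Vf, a ∈ C → a = 1 := by
    intro a ha haC
    have h1 := hrot a ha
    rw [hCy a haC, hCy a haC, hV2 a (hVfV ha), one_mul] at h1
    exact h1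
  have hVfC : ∀ a ∈ Vf, ∀ c ∈ C, a * c = c * a := fun a ha c hc =>
    (hVc a (hVfV ha) c (mem_inf.1 hc).1).symm
  have hv11 : v1 ≠ 1 := fun h => hv1fix (by rw [h]; simp [hcy])
  have hv21 : v2 ≠ 1 := fun h => hv1fix (by
    have h3 := hprod
    rw [h] at h3
    simp [hcy] at h3
    exact absurd h3 hv11)
  have hVfcard : Nat.card Vf = 4 := by
    refine le_antisymm card_four_le ?_
    have hne : v1 ≠ v2 := fun h => hv1fix (hv2.symm.trans h.symm)
    have hne1 : v1 * v2 ≠ 1 := fun h => hne (by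
      rw [← inv_eq_of_mul_eq_one_right h, inv_eq_of_mul_eq_one_right (hV2 _ hv1V)])
    have h4 : ({1, v1, v2, v1 * v2} : Finset G).card = 4 := by
      rw [Finset.card_insert_of_notMem (by simp [hv11.symm, hv21.symm, hne1.symm]),
        Finset.card_insert_of_notMem (by simp [hne, hv21]),
        Finset.card_insert_of_notMem (by simp [hv11]), Finset.card_singleton]
    rw [← SetLike.coe_sort_coe, Nat.card_coe_set_eq, ← h4, ← Set.ncard_coe_finset]
    refine Set.ncard_le_ncard (fun t ht => ?_) (Set.toFinite _)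
    simp only [Finset.coe_insert, Finset.coe_singleton, Set.mem_insert_iff,
      Set.mem_singleton_iff] at ht
    exact mem_four.2 ht
  -- `R = Vf × C`
  have hNC : N ≤ C := fun n hn => hCmem n (H.NR hn) (by
    rw [hcy, H.yN hn, mul_inv_cancel_right])
  set RC := prodComm Vf C hVfC with hRC
  have hRCle : RC ≤ R := by
    rintro _ ⟨a, ha, c, hc, rfl⟩; exact mul_mem (hVfR ha) (mem_inf.1 hc).1
  have hRCcard : Nat.card RC = 4 * Nat.card C := by
    rw [hRC, card_prodComm hVfC hdisj, hVfcard]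
  have hRle : Nat.card R ≤ 4 * Nat.card C := by
    rcases H.card_R with h | h
    · rw [h]; exact Nat.mul_le_mul_left 4 (Nat.le_of_dvd Nat.card_pos (card_dvd_of_le hNC))
    · have hne : ¬ C ≤ N := by
        intro hCN
        have hVN : ∀ a ∈ Vf, ∀ n ∈ N, a * n = n * a := fun a ha n hn => hVfC a ha n (hNC hn)
        set E := prodComm Vf N hVN with hE
        have hEcard : Nat.card E = 4 * Nat.card N := by
          rw [hE, card_prodComm hVN (fun x hx hxN => hdisj x hx (hNC hxN)), hVfcard]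
        have hER : E ≤ R := by
          rintro _ ⟨a, ha, n, hn, rfl⟩; exact mul_mem (hVfR ha) (H.NR hn)
        have hEi : E.relIndex R = 2 := relIndex_eq_two_of_card hER (by rw [h, hEcard]; ring)
        have hEy : ∀ e ∈ E, cy e ∈ E := by
          rintro _ ⟨a, ha, n, hn, rfl⟩
          exact ⟨cy a, cyVf a ha, n, hn, by rw [cy_mul, hCy n (hNC hn)]⟩
        obtain ⟨r, hr, hrE⟩ : ∃ r ∈ R, r ∉ E := by
          by_contra! hall
          have := relIndex_eq_one.2 hall
          omega
        have hcrE : cy r ∉ E := fun he => hrE (by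
          have := hEy _ (hEy _ he); rwa [cy3] at this)
        obtain ⟨a, ha, n, hn, he⟩ := mul_mem_of_relIndex_two hEi (inv_mem hr)
          (fun h' => hrE (inv_mem_iff.1 h')) (cyR r hr) hcrE
        have hcr : cy r = r * (a * n) := by rw [← he, mul_inv_cancel_left]
        have hfix : cy (r * cy a) = r * cy a * n := by
          have h1 : a * cy (cy a) = cy a := by
            have h2 := hrot a ha
            have hca := hVfV (cyVf a ha)
            have hcca := hVfV (cyVf _ (cyVf a ha))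
            have haV := hVfV ha
            rw [mul_assoc, hVV _ hca _ hcca, ← mul_assoc] at h2
            exact (inv_eq_of_mul_eq_one_right (hV2 _ (mul_mem haV hcca))).symm.trans
              (inv_eq_of_mul_eq_one_right h2)
          rw [cy_mul, hcr, mul_assoc r (a * n), mul_assoc a n,
            ← hVN _ (cyVf _ (cyVf a ha)) n hn, ← mul_assoc a, h1, ← mul_assoc r]
        have hC' : r * cy a ∈ C := mem_inf.2 ⟨mul_mem hr (hVfR (cyVf a ha)),
          mem_cent_singleton.2 (H.fix_of_coset hn ((hcy _).symm.trans hfix)).symm⟩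
        refine hrE ?_
        have h2 : r = cy a * (r * cy a) := by
          rw [← mul_assoc, ← hVc _ (hVfV (cyVf a ha)) r hr, mul_assoc,
            hV2 _ (hVfV (cyVf a ha)), mul_one]
        rw [h2]
        exact ⟨cy a, cyVf a ha, _, hCN hC', rfl⟩
      have h2 := card_eq_mul_relIndex hNC
      have h3 : N.relIndex C ≠ 1 := fun h' => hne (relIndex_eq_one.1 h')
      have h4 : N.relIndex C ≠ 0 := fun h' => by
        rw [h', mul_zero] at h2; exact Nat.card_pos.ne' h2
      rw [h, h2]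
      have h5 : 2 ≤ N.relIndex C := by omega
      have := Nat.mul_le_mul_left (Nat.card N) h5
      linarith
  have hReq : RC = R := Subgroup.eq_of_le_of_card_ge hRCle (by omega)
  have hcardR : Nat.card R = 4 * Nat.card C := by rw [← hRCcard, hReq]
  -- the bound on `C`
  have hCcases : Nat.card C = 1 ∨ Nat.card C = 2 ∨ Nat.card C = 4 := by
    have hle : Nat.card C ≤ 4 := by
      by_cases hN : N = ⊥
      · rcases H.card_R with h | h <;> rw [hN, card_bot, hcardR] at h <;> omega
      · obtain ⟨e, he⟩ := H.exists_pow_T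
        have hTX : T < normalizer (R : Set G) := lt_of_le_of_ne H.TN fun h => H.X_not_le_T h.ge
        have hXN : normalizer (R : Set G) < normalizer (N : Set G) :=
          lt_of_le_of_ne H.NX fun h => H.sT (H.mem_T H.hs (h ▸ H.sNN))
        have h5 := H.toSetup.bound_two he hTX hXN
          (H.toSetup.normalizer_ne_top (H.T2.to_le H.NT) hN)
        have h6 : 2 ^ e ≤ 2 ^ 5 := Nat.pow_le_pow_right two_pos h5
        rw [← he, H.cT, hcardR] at h6
        omega
    obtain ⟨j, hj⟩ := (H.R2.to_le (inf_le_left : C ≤ R)).exists_card_eq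
    have hj' : Nat.card C = 2 ^ j := hj
    have : j ≤ 2 := by
      by_contra hj2
      have : 2 ^ 3 ≤ 2 ^ j := Nat.pow_le_pow_right two_pos (by omega)
      omega
    interval_cases j <;> simp [hj']
  have hdec : ∀ r ∈ R, ∃ a ∈ Vf, ∃ c ∈ C, r = a * c := fun r hr => hReq.ge hr
  have hcomm : ∀ a ∈ R, ∀ b ∈ R, a * b = b * a := by
    intro p hp q hq
    obtain ⟨a, ha, c, hc, rfl⟩ := hdec p hp
    obtain ⟨a', ha', c', hc', rfl⟩ := hdec q hq
    calc a * c * (a' * c') = a * (c * a') * c' := by group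
      _ = a * a' * (c * c') := by rw [← hVfC a' ha' c hc]; group
      _ = a' * a * (c' * c) := by
        rw [hVV _ (hVfV ha) _ (hVfV ha'), comm_of_card_le_four hCcases hc hc']
      _ = a' * (c' * a) * c := by rw [← hVfC a ha c' hc']; group
      _ = a' * c' * (a * c) := by group
  -- `T` inverts `y` modulo `R`
  set X := normalizer (R : Set G) with hX
  have hinv : ∀ t ∈ T, t ∉ R → ∀ r ∈ R, t * cy r * t⁻¹ = cy (cy (t * r * t⁻¹)) := by
    intro t ht htR
    set R0 := R.subgroupOf X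
    have hR0n : R0.Normal := ⟨fun r hr g => (mem_normalizer_iff.1 g.2 r).1 hr⟩
    set π := QuotientGroup.mk' R0 with hπ
    have hker : ∀ x : X, π x = 1 ↔ (x : G) ∈ R := fun x => QuotientGroup.eq_one_iff x
    set yX : X := ⟨y, H.yX⟩
    set tX : X := ⟨t, H.TN ht⟩
    have hyR : y ∉ R := fun h => H.yS (H.TS (H.RT h))
    have hπy : orderOf (π yX) = 3 := by
      have : Fact (Nat.Prime 3) := ⟨Nat.prime_three⟩
      refine orderOf_eq_prime ?_ (fun h => hyR ((hker _).1 h))
      rw [← map_pow, show yX ^ 3 = 1 from Subtype.ext (by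
        show y ^ 3 = 1
        rw [← H.y3, pow_orderOf_eq_one]), map_one]
    have hQ : Nat.card (X ⧸ R0) = 6 := by
      have h1 := card_eq_card_quotient_mul_card_subgroup R0
      have h2 : Nat.card R0 = Nat.card R :=
        Nat.card_congr (subgroupOfEquivOfLe le_normalizer).toEquiv
      rw [h2, H.cX] at h1
      exact (Nat.eq_of_mul_eq_mul_right Nat.card_pos h1).symm
    have hZ3 : (zpowers (π yX)).index = 2 := by
      have h1 := card_mul_index (zpowers (π yX))
      rw [Nat.card_zpowers, hπy, hQ] at h1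
      omega
    have := normal_of_index_eq_two hZ3
    have hmem : π (tX * yX * tX⁻¹) ∈ zpowers (π yX) := by
      rw [map_mul, map_mul, map_inv]
      exact this.conj_mem _ (mem_zpowers _) _
    obtain ⟨j, hj⟩ := mem_powers_iff_mem_zpowers.2 hmem
    have hj' : π yX ^ (j % 3) = π (tX * yX * tX⁻¹) := by
      rw [← hπy, pow_mod_orderOf]; exact hj
    have hj3 : j % 3 = 0 ∨ j % 3 = 1 ∨ j % 3 = 2 := by omega
    rcases hj3 with h | h | h <;> rw [h] at hj'
    · exfalso
      rw [pow_zero] at hj'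
      have h1 : t * y * t⁻¹ ∈ R := (hker _).1 hj'.symm
      have h2 := (mem_normalizer_iff.1 (inv_mem (H.TN ht)) _).1 h1
      exact hyR (by simpa [mul_assoc] using h2)
    · exfalso
      rw [pow_one] at hj'
      have h1 : y⁻¹ * (t * y * t⁻¹) ∈ R := by
        have := (hker (yX⁻¹ * (tX * yX * tX⁻¹))).1
          (by rw [map_mul, map_inv, ← hj', inv_mul_cancel])
        exact this
      refine H.yS (H.TS ?_)
      have hyT : y⁻¹ ∈ normalizer (T : Set G) := by
        have hle : T.map (MulAut.conj y⁻¹).toMonoidHom ≤ T := by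
          rintro _ ⟨u, hu, rfl⟩
          show y⁻¹ * u * (y⁻¹)⁻¹ ∈ T
          rw [inv_inv]
          by_cases huR : u ∈ R
          · refine H.RT ?_
            simpa using (mem_normalizer_iff.1 (inv_mem H.yX) u).1 huR
          · have h2 : y⁻¹ * t * y ∈ T := by
              have := mul_mem (H.RT h1) ht
              simpa [mul_assoc] using this
            have h3 := mul_mem_of_relIndex_two (relIndex_eq_two_of_card H.RT H.cT) hu huR
              (inv_mem ht) (fun h => htR (inv_mem_iff.1 h))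
            have h4 := (mem_normalizer_iff.1 (inv_mem H.yX) _).1 h3
            have := mul_mem (H.RT h4) h2
            simpa [mul_assoc] using this
        have heq := Subgroup.eq_of_le_of_card_ge hle (card_map_conj T y⁻¹).ge
        refine mem_normalizer_iff.2 fun u => ⟨fun hu => hle ⟨u, hu, by simp⟩, fun hu => ?_⟩
        rw [← heq, mem_map_conj] at hu
        simpa [mul_assoc] using hu
      exact H.key_eq (lt_of_le_of_ne H.RT fun h => H.T_ne_R h.symm) le_rfl le_normalizer H.yX
        (by simpa using inv_mem hyT)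
    · intro r hr
      have h1 : (y * y)⁻¹ * (t * y * t⁻¹) ∈ R := by
        have := (hker ((yX * yX)⁻¹ * (tX * yX * tX⁻¹))).1
          (by rw [map_mul, map_inv, map_mul π yX yX, ← pow_two (π yX), ← hj', inv_mul_cancel])
        exact this
      have hr' : t * r * t⁻¹ ∈ R := (mem_normalizer_iff.1 (H.TN ht) r).1 hr
      have hc := hcomm _ h1 _ hr'
      simp only [hcy]
      calc t * (y * r * y⁻¹) * t⁻¹
          = (y * y) * ((y * y)⁻¹ * (t * y * t⁻¹) * (t * r * t⁻¹)) *
            ((y * y)⁻¹ * (t * y * t⁻¹))⁻¹ * (y * y)⁻¹ := by group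
        _ = y * (y * (t * r * t⁻¹) * y⁻¹) * y⁻¹ := by rw [hc]; group
  have hTC : ∀ t ∈ T, ∀ c ∈ C, t * c * t⁻¹ ∈ C := by
    intro t ht c hc
    by_cases htR : t ∈ R
    · rw [hcomm t htR c (mem_inf.1 hc).1, mul_inv_cancel_right]; exact hc
    · refine hCmem _ ((mem_normalizer_iff.1 (H.TN ht) c).1 (mem_inf.1 hc).1) ?_
      have h1 := hinv t ht htR c (mem_inf.1 hc).1
      rw [hCy c hc] at h1
      conv_lhs => rw [h1]
      exact cy3 _
  have hVfmem : ∀ r ∈ R, r * cy r * cy (cy r) = 1 → r ∈ Vf := by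
    intro r hr h
    obtain ⟨a, ha, c, hc, rfl⟩ := hdec r hr
    have hc3 : c * c * c = 1 := by
      rw [cy_mul, hCy c hc, cy_mul, hCy c hc] at h
      have hb := cyVf a ha
      have hd := cyVf _ hb
      rw [show a * c * (cy a * c) * (cy (cy a) * c) = a * (c * cy a) * (c * cy (cy a)) * c by group,
        ← hVfC _ hb c hc, ← hVfC _ hd c hc,
        show a * (cy a * c) * (cy (cy a) * c) * c = a * cy a * (c * cy (cy a)) * c * c by group,
        ← hVfC _ hd c hc,
        show a * cy a * (cy (cy a) * c) * c * c = a * cy a * cy (cy a) * (c * c * c) by group,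
        hrot a ha, one_mul] at h
      exact h
    obtain ⟨j, hj⟩ := (H.R2.to_le (inf_le_left : C ≤ R)) ⟨c, hc⟩
    have hj' : c ^ (2 ^ j) = 1 := by simpa using congrArg Subtype.val hj
    have hc1 : c = 1 := orderOf_eq_one_iff.1 (Nat.eq_one_of_dvd_coprimes
      (Nat.Coprime.pow_left j (by norm_num : Nat.Coprime 2 3)) (orderOf_dvd_of_pow_eq_one hj')
      (orderOf_dvd_of_pow_eq_one (by rw [← hc3]; simp [pow_succ, mul_assoc])))
    rw [hc1, mul_one]; exact ha
  have hTV : ∀ t ∈ T, ∀ a ∈ Vf, t * a * t⁻¹ ∈ Vf := by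
    intro t ht a ha
    by_cases htR : t ∈ R
    · rw [hcomm t htR a (hVfR ha), mul_inv_cancel_right]; exact ha
    · have har := (mem_normalizer_iff.1 (H.TN ht) a).1 (hVfR ha)
      refine hVfmem _ har ?_
      have h1 := hinv t ht htR a (hVfR ha)
      have h2 := hinv t ht htR (cy a) (cyR a (hVfR ha))
      rw [h1, cy3] at h2
      have h3 : t * (a * cy a * cy (cy a)) * t⁻¹ = 1 := by rw [hrot a ha]; simp
      rw [show t * (a * cy a * cy (cy a)) * t⁻¹ = t * a * t⁻¹ * (t * cy a * t⁻¹) *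
        (t * cy (cy a) * t⁻¹) by group, h1, h2, mul_assoc,
        hcomm _ (cyR _ (cyR _ har)) _ (cyR _ har), ← mul_assoc] at h3
      exact h3
  -- the centre of `T`
  set R' := R.map (MulAut.conj s).toMonoidHom with hR'
  have hR'T : R' ≤ T := by
    rintro _ ⟨r, hr, rfl⟩; simpa using H.sN r (H.RT hr)
  have hR'ne : ¬ R' ≤ R := by
    intro hle
    have heq := Subgroup.eq_of_le_of_card_ge hle (card_map_conj R s).ge
    refine H.sT (H.mem_T H.hs (mem_normalizer_iff.2 fun u => ⟨fun hu => ?_, fun hu => ?_⟩))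
    · rw [← heq]; exact ⟨u, hu, by simp⟩
    · rw [← heq, hR', mem_map_conj] at hu
      simpa [mul_assoc] using hu
  obtain ⟨t0, ht0', ht0R⟩ := SetLike.not_le_iff_exists.1 hR'ne
  have ht0 : t0 ∈ T := hR'T ht0'
  have hRi : R.relIndex T = 2 := relIndex_eq_two_of_card H.RT H.cT
  have hZcen : ∀ r ∈ R ⊓ R', t0 * r = r * t0 := by
    intro r hr
    have h3 := hcomm _ (mem_map_conj.1 ht0') _ (mem_map_conj.1 (mem_inf.1 hr).2)
    have h4 := congrArg (fun e => s * e * s⁻¹) h3
    simpa [mul_assoc] using h4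
  have hZi : (R ⊓ R').relIndex R ≤ 2 := by
    rw [inf_relIndex_left, ← relIndex_eq_two_of_card hR'T (by rw [card_map_conj]; exact H.cT)]
    exact relIndex_le_of_le_right H.RT
      (by rw [relIndex_eq_two_of_card hR'T (by rw [card_map_conj]; exact H.cT)]; omega)
  have hmoved : ∀ a ∈ R, ∀ b ∈ R, t0 * a ≠ a * t0 → t0 * b ≠ b * t0 →
      t0 * (a * b) = a * b * t0 := by
    intro a ha b hb hna hnb
    have haZ : a ∉ R ⊓ R' := fun h => hna (hZcen a h)
    have hbZ : b ∉ R ⊓ R' := fun h => hnb (hZcen b h)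
    have h0 : (R ⊓ R').relIndex R ≠ 1 := fun h => haZ (relIndex_eq_one.1 h ha)
    have h0' : (R ⊓ R').relIndex R ≠ 0 := fun h => by
      have := card_eq_mul_relIndex (inf_le_left : R ⊓ R' ≤ R)
      rw [h, mul_zero] at this
      exact Nat.card_pos.ne' this
    exact hZcen _ (mul_mem_of_relIndex_two (by omega) ha haZ hb hbZ)
  obtain ⟨v, hv, hvm⟩ : ∃ v ∈ Vf, t0 * v ≠ v * t0 := by
    by_contra! hall
    have h1 := hall v1 (mem_four.2 (Or.inr (Or.inl rfl)))
    have h2 := hall v2 (mem_four.2 (Or.inr (Or.inr (Or.inl rfl))))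
    have h3 := hinv t0 ht0 ht0R v1 (H.vee_le hv1V)
    rw [h1, mul_inv_cancel_right, ← hv2, h2, mul_inv_cancel_right, hv3] at h3
    exact hv11 (by simpa using h3)
  have hCT : ∀ c ∈ C, ∀ t ∈ T, t * c = c * t := by
    have h0 : ∀ c ∈ C, t0 * c = c * t0 := by
      intro c hc
      by_contra hne
      have hcR := (mem_inf.1 hc).1
      have h1 := hmoved c hcR v (hVfR hv) hne hvm
      have h2 : c⁻¹ * (t0 * c * t0⁻¹) = v * (t0 * v * t0⁻¹)⁻¹ := by
        have h3 : t0 * c * t0⁻¹ * (t0 * v * t0⁻¹) = c * v := by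
          rw [show t0 * c * t0⁻¹ * (t0 * v * t0⁻¹) = t0 * (c * v) * t0⁻¹ by group, h1,
            mul_inv_cancel_right]
        have := congrArg (fun e => c⁻¹ * e * (t0 * v * t0⁻¹)⁻¹) h3
        simpa [mul_assoc] using this
      have h4 := hdisj _ (mul_mem hv (inv_mem (hTV t0 ht0 v hv)))
        (h2 ▸ mul_mem (inv_mem hc) (hTC t0 ht0 c hc))
      exact hvm (mul_inv_eq_iff_eq_mul.1 (mul_inv_eq_one.1 h4).symm)
    intro c hc t ht
    by_cases htR : t ∈ R
    · exact hcomm t htR c (mem_inf.1 hc).1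
    · have h1 := hcomm _ (mul_mem_of_relIndex_two hRi ht htR (inv_mem ht0)
        (fun h => ht0R (inv_mem_iff.1 h))) c (mem_inf.1 hc).1
      calc t * c = t * t0⁻¹ * (t0 * c) := by group
        _ = t * t0⁻¹ * c * t0 := by rw [h0 c hc]; group
        _ = c * t := by rw [h1]; group
  set z1 := v * (t0 * v * t0⁻¹) with hz1
  have hz1Vf : z1 ∈ Vf := mul_mem hv (hTV t0 ht0 v hv)
  have hz11 : z1 ≠ 1 := by
    intro h
    refine hvm (mul_inv_eq_iff_eq_mul.1 ?_)
    rw [← inv_eq_of_mul_eq_one_right h, inv_eq_of_mul_eq_one_right (hV2 v (hVfV hv))]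
  have hz1T : ∀ t ∈ T, t * z1 = z1 * t := by
    have h0 : t0 * z1 = z1 * t0 := by
      have hsq : t0 * t0 ∈ R :=
        mul_mem_of_relIndex_two hRi ht0 ht0R ht0 ht0R
      have h1 := hcomm _ hsq v (hVfR hv)
      have h2 := hVV _ (hVfV (hTV t0 ht0 v hv)) v (hVfV hv)
      refine mul_inv_eq_iff_eq_mul.1 ?_
      rw [hz1, show t0 * (v * (t0 * v * t0⁻¹)) * t0⁻¹ =
        t0 * v * t0⁻¹ * (t0 * t0 * v * (t0 * t0)⁻¹) by group, h1, mul_inv_cancel_right, h2]
    intro t ht
    by_cases htR : t ∈ R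
    · exact hcomm t htR z1 (hVfR hz1Vf)
    · have h1 := hcomm _ (mul_mem_of_relIndex_two hRi ht htR (inv_mem ht0)
        (fun h => ht0R (inv_mem_iff.1 h))) z1 (hVfR hz1Vf)
      calc t * z1 = t * t0⁻¹ * (t0 * z1) := by group
        _ = t * t0⁻¹ * z1 * t0 := by rw [h0]; group
        _ = z1 * t := by rw [h1]; group
  refine ⟨C, z1, v, ?_, hCcases, ?_⟩
  · exact
      { centz := H.centz
        z2 := H.z2
        zne := H.zne
        cardS := H.cardS
        notCentral := H.toSetup.notCentral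
        RT := H.RT
        TS := H.TS
        normR := fun x hx h => H.mem_T hx (by
          have hle : R.map (MulAut.conj x).toMonoidHom ≤ R := by
            rintro _ ⟨r, hr, rfl⟩; simpa using h r hr
          have heq := Subgroup.eq_of_le_of_card_ge hle (card_map_conj R x).ge
          refine mem_normalizer_iff.2 fun u => ⟨h u, fun hu => ?_⟩
          rw [← heq, mem_map_conj] at hu
          simpa [mul_assoc] using hu)
        TnormR := fun t ht r hr => (mem_normalizer_iff.1 (H.TN ht) r).1 hr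
        comm := hcomm
        self := fun x _ h => H.centralizer_le_R
          (mem_centralizer_iff.2 fun r hr => (h r hr).symm)
        cardT := H.cT
        cardR := hcardR
        hs := H.hs
        sT := H.sT
        s2 := H.s2
        sN := H.sN
        CR := inf_le_left
        yC := fun c hc => (mem_cent_singleton.1 (mem_inf.1 hc).2).symm
        yS := H.yS
        yodd := by rw [H.y3]; decide
        CT := hCT
        z1R := hVfR hz1Vf
        z1C := fun h => hz11 (hdisj z1 hz1Vf h)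
        z12 := hV2 z1 (hVfV hz1Vf)
        z1T := hz1T
        vR := hVfR hv
        v2 := hV2 v (hVfV hv)
        vnc := ⟨t0, ht0, hvm⟩
        zR := H.zR
        commV := by
          intro t ht r hr hC'
          obtain ⟨a, ha, c, hc, rfl⟩ := hdec r hr
          have h1 : t * (a * c) * t⁻¹ * (a * c)⁻¹ = t * a * t⁻¹ * a⁻¹ := by
            rw [show t * (a * c) * t⁻¹ * (a * c)⁻¹ = t * a * t⁻¹ * (t * c * t⁻¹) * c⁻¹ * a⁻¹ by
              group, hCT c hc t ht, mul_inv_cancel_right, mul_inv_cancel_right]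
          rw [h1] at hC'
          have h2 := hdisj _ (mul_mem (hTV t ht a ha) (inv_mem ha)) hC'
          have h3 : t * a = a * t := mul_inv_eq_iff_eq_mul.1 (mul_inv_eq_one.1 h2)
          rw [← mul_assoc, h3, mul_assoc, hCT c hc t ht, mul_assoc]
        sqC := by
          intro r hr
          obtain ⟨a, ha, c, hc, rfl⟩ := hdec r hr
          refine ⟨c, hc, ?_⟩
          rw [show a * c * (a * c) = a * (c * a) * c by group, ← hVfC a ha c hc,
            show a * (a * c) * c = a * a * (c * c) by group, hV2 a (hVfV ha), one_mul] }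
  · intro hC1 r hr hr1
    obtain ⟨a, ha, c, hc, rfl⟩ := hdec r hr
    have hCbot := Subgroup.card_eq_one.1 hC1
    rw [hCbot, mem_bot] at hc
    subst hc
    rw [mul_one] at hr1 ⊢
    have hw1 : w = 1 := mem_bot.1 (hCbot ▸ hCmem w (H.vee_le hwV) hwfix)
    have hv1z : v1 = z := by rw [hv1, hw1, mul_one]
    rcases mem_four.1 ha with rfl | rfl | rfl | rfl
    · exact absurd rfl hr1
    · exact ⟨1, by rw [hv1z]; simp⟩
    · refine ⟨y⁻¹, ?_⟩
      rw [← hv1z, hv2]
      rw [hcy]
      group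
    · refine ⟨y⁻¹ * y⁻¹, ?_⟩
      rw [← hv3, ← hv1z, hv2]
      rw [hcy, hcy]
      group

end Pair

end CfsgLib.Recog.ChainEight
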