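import Cfsg.Agent.Lib.Solvable.Nilpotent
import Cfsg.Agent.Lib.Transfer.Basic
import Mathlib.GroupTheory.Sylow

/-!
# Small tools for the groups of chain length eight
-/

set_option autoImplicit false

namespace CfsgLib.Recog.ChainEight

open Subgroup

variable {G : Type*} [Group G]

/-- The four group with members `1, a, b, ab`. -/
def four (a b : G) (ha : a * a = 1) (hb : b * b = 1) (hab : a * b = b * a) : Subgroup G where
  carrier := {1, a, b, a * b}
  one_mem' := Or.inl rfl
  mul_mem' := by
    intro x y hx hy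
    simp only [Set.mem_insert_iff, Set.mem_singleton_iff] at hx hy ⊢
    have h1 : a * (a * b) = b := by rw [← mul_assoc, ha, one_mul]
    have h2 : b * (a * b) = a := by rw [hab, ← mul_assoc, hb, one_mul]
    have h3 : a * b * a = b := by rw [hab, mul_assoc, ha, mul_one]
    have h4 : a * b * b = a := by rw [mul_assoc, hb, mul_one]
    have h5 : a * b * (a * b) = 1 := by rw [← mul_assoc, h3, hb]
    rcases hx with rfl | rfl | rfl | rfl <;> rcases hy with rfl | rfl | rfl | rfl <;>
      simp [ha, hb, h1, h2, h3, h4, h5, hab.symm]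
  inv_mem' := by
    intro x hx
    simp only [Set.mem_insert_iff, Set.mem_singleton_iff] at hx ⊢
    have h5 : (a * b)⁻¹ = a * b := by
      rw [mul_inv_rev, inv_eq_of_mul_eq_one_right ha, inv_eq_of_mul_eq_one_right hb, hab]
    rcases hx with rfl | rfl | rfl | rfl <;>
      simp [inv_eq_of_mul_eq_one_right ha, inv_eq_of_mul_eq_one_right hb, h5]

theorem mem_four {a b x : G} {ha : a * a = 1} {hb : b * b = 1} {hab : a * b = b * a} :
    x ∈ four a b ha hb hab ↔ x = 1 ∨ x = a ∨ x = b ∨ x = a * b := Iff.rfl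

theorem card_four_le [Finite G] {a b : G} {ha : a * a = 1} {hb : b * b = 1}
    {hab : a * b = b * a} : Nat.card (four a b ha hb hab) ≤ 4 := by
  classical
  rw [← SetLike.coe_sort_coe, Nat.card_coe_set_eq]
  refine (Set.ncard_le_ncard (t := (({1, a, b, a * b} : Finset G) : Set G)) ?_).trans ?_
  · intro x hx
    simpa using (mem_four.1 hx)
  · rw [Set.ncard_coe_finset]
    exact Finset.card_le_four

/-- A non-trivial element of a `2`-group has a power which is an involution. -/
theorem exists_pow_involution {P : Subgroup G} (hP : IsPGroup 2 P) {x : G} (hx : x ∈ P)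
    (h1 : x ≠ 1) : ∃ k, x ^ (2 ^ k) ≠ 1 ∧ x ^ (2 ^ (k + 1)) = 1 := by
  classical
  obtain ⟨m, hm⟩ := hP ⟨x, hx⟩
  have hm' : x ^ (2 ^ m) = 1 := by simpa using congrArg Subtype.val hm
  have hex : ∃ m, x ^ (2 ^ m) = 1 := ⟨m, hm'⟩
  have h0 : Nat.find hex ≠ 0 := by
    intro h
    have := Nat.find_spec hex
    rw [h] at this
    exact h1 (by simpa using this)
  obtain ⟨k, hk⟩ := Nat.exists_eq_succ_of_ne_zero h0
  refine ⟨k, Nat.find_min hex (by omega), ?_⟩
  have := Nat.find_spec hex
  rwa [hk] at this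

/-- A commuting element of the centraliser, as an equation. -/
theorem mem_cent_singleton {a x : G} : x ∈ centralizer ({a} : Set G) ↔ x * a = a * x := by
  rw [mem_centralizer_iff]
  exact ⟨fun h => (h a rfl).symm, fun h y hy => by rw [Set.mem_singleton_iff.1 hy, h]⟩

theorem conj_comm {a x g : G} (h : x * a = a * x) :
    g * x * g⁻¹ * (g * a * g⁻¹) = g * a * g⁻¹ * (g * x * g⁻¹) := by
  have := congrArg (fun y => g * y * g⁻¹) h
  simpa [mul_assoc] using this

theorem isPGroup_cent_of_conj {a b g : G} (hab : g * a * g⁻¹ = b)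
    (hb : IsPGroup 2 (centralizer ({b} : Set G))) : IsPGroup 2 (centralizer ({a} : Set G)) := by
  rintro ⟨c, hc⟩
  have hc' : g * c * g⁻¹ ∈ centralizer ({b} : Set G) := by
    rw [mem_cent_singleton, ← hab]
    exact conj_comm (mem_cent_singleton.1 hc)
  obtain ⟨k, hk⟩ := hb ⟨_, hc'⟩
  refine ⟨k, Subtype.ext ?_⟩
  have h' : g * c ^ (2 ^ k) * g⁻¹ = 1 := by
    rw [← conj_pow]; simpa using congrArg Subtype.val hk
  simpa using h'

end CfsgLib.Recog.ChainEight
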